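import Mathlib

/-!
# Binary linear groups: tuple lemmas

`LBin H`: when a tuple and a target agree under `H` on every entry and on every difference of two
entries, one element of `H` carries the tuple to the target. This is what binarity of an affine
group says about the stabilizer of the origin.
-/

set_option autoImplicit false
set_option linter.all false

namespace CfsgLib.Perm.BinAff

variable {p : ℕ} {V : Type*} [AddCommGroup V] [Module (ZMod p) V]

/-- A binary linear group. -/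
def LBin (H : Subgroup (V ≃ₗ[ZMod p] V)) : Prop :=
  ∀ (n : ℕ) (v w : Fin n → V), (∀ i, ∃ h ∈ H, h (v i) = w i) →
    (∀ i j, ∃ h ∈ H, h (v i - v j) = w i - w j) → ∃ h ∈ H, ∀ i, h (v i) = w i

/-- The fixed space of a linear automorphism. -/
def fx (g : V ≃ₗ[ZMod p] V) : Submodule (ZMod p) V :=
  LinearMap.ker ((g : V →ₗ[ZMod p] V) - LinearMap.id)

/-- The space moved by a linear automorphism. -/
def mv (g : V ≃ₗ[ZMod p] V) : Submodule (ZMod p) V :=
  LinearMap.range ((g : V →ₗ[ZMod p] V) - LinearMap.id)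

/-- The subgroup fixing a set pointwise. -/
def fixing (H : Subgroup (V ≃ₗ[ZMod p] V)) (s : Set V) : Subgroup (V ≃ₗ[ZMod p] V) where
  carrier := {g | g ∈ H ∧ ∀ x ∈ s, g x = x}
  one_mem' := ⟨H.one_mem, fun _ _ => rfl⟩
  mul_mem' := fun {a b} ha hb => ⟨H.mul_mem ha.1 hb.1, fun x hx => by
    rw [LinearEquiv.mul_apply, hb.2 x hx, ha.2 x hx]⟩
  inv_mem' := fun {a} ha => ⟨H.inv_mem ha.1, fun x hx => by
    conv_lhs => rw [← ha.2 x hx]
    rw [← LinearEquiv.mul_apply, inv_mul_cancel, LinearEquiv.coe_one, id_eq]⟩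

theorem finite_aut [Finite V] : Finite (V ≃ₗ[ZMod p] V) :=
  Finite.of_injective (fun e : V ≃ₗ[ZMod p] V => (e : V → V)) DFunLike.coe_injective

variable {H : Subgroup (V ≃ₗ[ZMod p] V)} {g h x y : V ≃ₗ[ZMod p] V}

theorem mem_fixing {s : Set V} : g ∈ fixing H s ↔ g ∈ H ∧ ∀ x ∈ s, g x = x := Iff.rfl

theorem mem_fx {v : V} : v ∈ fx g ↔ g v = v := by simp [fx, sub_eq_zero]

theorem mem_mv {v : V} : v ∈ mv g ↔ ∃ u, g u - u = v := by simp [mv]

theorem sub_mem_mv (v : V) : g v - v ∈ mv g := mem_mv.2 ⟨v, rfl⟩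

theorem inv_apply_self (v : V) : g⁻¹ (g v) = v := by
  rw [← LinearEquiv.mul_apply, inv_mul_cancel, LinearEquiv.coe_one, id_eq]

theorem apply_inv_self (v : V) : g (g⁻¹ v) = v := by
  rw [← LinearEquiv.mul_apply, mul_inv_cancel, LinearEquiv.coe_one, id_eq]

theorem inv_apply_eq {v w : V} : g⁻¹ w = v ↔ g v = w :=
  ⟨fun e => by rw [← e, apply_inv_self], fun e => by rw [← e, inv_apply_self]⟩

theorem pow_apply_fixed {v : V} (e : g v = v) (n : ℕ) : (g ^ n) v = v := by
  induction n with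
  | zero => simp
  | succ n ih => rw [pow_succ, LinearEquiv.mul_apply, e, ih]

theorem fx_inv : fx g⁻¹ = fx g := by
  ext v
  rw [mem_fx, mem_fx, inv_apply_eq]

theorem fx_inf_le_mul : fx g ⊓ fx h ≤ fx (g * h) := by
  intro v hv
  rw [Submodule.mem_inf, mem_fx, mem_fx] at hv
  rw [mem_fx, LinearEquiv.mul_apply, hv.2, hv.1]

theorem finrank_fx_add_mv [Fact p.Prime] [Finite V] (g : V ≃ₗ[ZMod p] V) :
    Module.finrank (ZMod p) (fx g) + Module.finrank (ZMod p) (mv g) = Module.finrank (ZMod p) V := by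
  rw [fx, mv, add_comm, LinearMap.finrank_range_add_finrank_ker]

theorem eq_one_of_fx (hg : fx g = ⊤) : g = 1 :=
  LinearEquiv.ext fun v => mem_fx.1 (hg ▸ Submodule.mem_top)

theorem eq_one_of_mv (hg : mv g = ⊥) : g = 1 :=
  LinearEquiv.ext fun v => sub_eq_zero.1 ((Submodule.mem_bot _).1 (hg ▸ sub_mem_mv v))

theorem mv_eq_bot_iff : mv g = ⊥ ↔ g = 1 :=
  ⟨eq_one_of_mv, fun e => by
    rw [e, eq_bot_iff]
    intro v hv
    obtain ⟨u, rfl⟩ := mem_mv.1 hv
    simp⟩

theorem apply_mv_neg (hg : g * g = 1) {v : V} (hv : v ∈ mv g) : g v = -v := by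
  obtain ⟨u, rfl⟩ := mem_mv.1 hv
  rw [map_sub, ← LinearEquiv.mul_apply, hg, LinearEquiv.coe_one, id_eq]
  abel

theorem apply_mem_mv_of_commute (hc : g * h = h * g) {v : V} (hv : v ∈ mv g) : h v ∈ mv g := by
  obtain ⟨u, rfl⟩ := mem_mv.1 hv
  refine mem_mv.2 ⟨h u, ?_⟩
  rw [map_sub, ← LinearEquiv.mul_apply, hc, LinearEquiv.mul_apply]

theorem apply_mem_fx_of_commute (hc : g * h = h * g) {v : V} (hv : v ∈ fx g) : h v ∈ fx g := by
  rw [mem_fx] at hv ⊢
  rw [← LinearEquiv.mul_apply, hc, LinearEquiv.mul_apply, hv]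

theorem fx_conj (a g : V ≃ₗ[ZMod p] V) :
    fx (a * g * a⁻¹) = (fx g).map (a : V →ₗ[ZMod p] V) := by
  ext v
  rw [Submodule.mem_map, mem_fx]
  constructor
  · intro e
    refine ⟨a⁻¹ v, ?_, apply_inv_self v⟩
    rw [mem_fx]
    rw [LinearEquiv.mul_apply, LinearEquiv.mul_apply] at e
    rw [eq_comm, inv_apply_eq]
    exact e
  · rintro ⟨u, hu, rfl⟩
    rw [mem_fx] at hu
    simp [LinearEquiv.mul_apply, inv_apply_self, hu]

theorem mv_conj (a g : V ≃ₗ[ZMod p] V) :
    mv (a * g * a⁻¹) = (mv g).map (a : V →ₗ[ZMod p] V) := by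
  ext v
  rw [Submodule.mem_map, mem_mv]
  constructor
  · rintro ⟨u, rfl⟩
    refine ⟨g (a⁻¹ u) - a⁻¹ u, sub_mem_mv _, ?_⟩
    rw [LinearEquiv.coe_coe, map_sub, apply_inv_self]
    rfl
  · rintro ⟨u, hu, rfl⟩
    obtain ⟨w, rfl⟩ := mem_mv.1 hu
    refine ⟨a w, ?_⟩
    simp [LinearEquiv.mul_apply, inv_apply_self, map_sub]

/-- Swapping: any vector and any of its images are exchanged by some element. -/
theorem LBin.swap (hH : LBin H) (hg : g ∈ H) (v : V) :
    ∃ a ∈ H, a v = g v ∧ a (g v) = v := by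
  obtain ⟨a, ha, he⟩ := hH 2 ![-(g v), v] ![-(g v), g (g v)] (by
      intro i
      fin_cases i
      · exact ⟨1, H.one_mem, rfl⟩
      · exact ⟨g * g, H.mul_mem hg hg, rfl⟩) (by
      intro i j
      fin_cases i <;> fin_cases j
      · exact ⟨1, H.one_mem, by simp⟩
      · exact ⟨g, hg, by simp [map_sub, map_neg]; abel⟩
      · exact ⟨g, hg, by simp [map_sub, map_neg, map_add]; abel⟩
      · exact ⟨1, H.one_mem, by simp⟩)
  have h0 : a (g v) = g v := by simpa using he 0
  have h1 : a v = g (g v) := by simpa using he 1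
  refine ⟨a⁻¹ * g, H.mul_mem (H.inv_mem ha) hg, ?_, ?_⟩
  · rw [LinearEquiv.mul_apply, inv_apply_eq, h0]
  · rw [LinearEquiv.mul_apply, inv_apply_eq, h1]

/-- If `h` fixes `a` and `a + (h b - b)` is an image of `a`, then `h` fixes `b`. -/
theorem LBin.lstar (hH : LBin H) (hh : h ∈ H) (hx : x ∈ H) {a b : V} (ha : h a = a)
    (hxa : x a = a + (h b - b)) : h b = b := by
  obtain ⟨k, hk, he⟩ := hH 3 ![a, b, a + b] ![a, b, a + h b] (by
      intro i
      fin_cases i
      · exact ⟨1, H.one_mem, rfl⟩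
      · exact ⟨1, H.one_mem, rfl⟩
      · exact ⟨h, hh, by simp [map_add, ha]⟩) (by
      intro i j
      fin_cases i <;> fin_cases j
      · exact ⟨1, H.one_mem, by simp⟩
      · exact ⟨1, H.one_mem, by simp⟩
      · exact ⟨h, hh, by simp⟩
      · exact ⟨1, H.one_mem, by simp⟩
      · exact ⟨1, H.one_mem, by simp⟩
      · exact ⟨x, hx, by simp [map_neg, hxa]; abel⟩
      · exact ⟨h, hh, by simp⟩
      · exact ⟨x, hx, by simp [hxa]; abel⟩
      · exact ⟨1, H.one_mem, by simp⟩)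
  have h0 : k a = a := by simpa using he 0
  have h1 : k b = b := by simpa using he 1
  have h2 : k a + k b = a + h b := by simpa using he 2
  rw [h0, h1] at h2
  exact (add_left_cancel h2).symm

/-- Some element fixes the fixed vectors of `x` and of `y` and agrees with `x` where `x` and `y` agree. -/
theorem LBin.xy [Finite V] (hH : LBin H) (hx : x ∈ H) (hy : y ∈ H) :
    ∃ h ∈ H, fx x ≤ fx h ∧ fx y ≤ fx h ∧ ∀ v, x v = y v → h v = x v := by
  classical
  let T := {v : V // v ∈ fx x} ⊕ {v : V // v ∈ fx y} ⊕ {v : V // x v = y v}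
  let e := Finite.equivFin T
  let src : T → V := Sum.elim (fun v => v.1) (Sum.elim (fun v => v.1) (fun v => v.1))
  let tgt : T → V := Sum.elim (fun v => v.1) (Sum.elim (fun v => v.1) (fun v => x v.1))
  have hsrc : ∀ i, ∃ h ∈ H, h (src i) = tgt i := by
    rintro (⟨v, hv⟩ | ⟨v, hv⟩ | ⟨v, hv⟩)
    · exact ⟨1, H.one_mem, rfl⟩
    · exact ⟨1, H.one_mem, rfl⟩
    · exact ⟨x, hx, rfl⟩
  have hdiff : ∀ i j, ∃ h ∈ H, h (src i - src j) = tgt i - tgt j := by
    rintro (⟨v, hv⟩ | ⟨v, hv⟩ | ⟨v, hv⟩) (⟨w, hw⟩ | ⟨w, hw⟩ | ⟨w, hw⟩)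
    · exact ⟨1, H.one_mem, rfl⟩
    · exact ⟨1, H.one_mem, rfl⟩
    · exact ⟨x, hx, by simp [src, tgt, mem_fx.1 hv]⟩
    · exact ⟨1, H.one_mem, rfl⟩
    · exact ⟨1, H.one_mem, rfl⟩
    · exact ⟨y, hy, by simp [src, tgt, mem_fx.1 hv, hw]⟩
    · exact ⟨x, hx, by simp [src, tgt, mem_fx.1 hw]⟩
    · exact ⟨y, hy, by simp [src, tgt, mem_fx.1 hw, hv]⟩
    · exact ⟨x, hx, by simp [src, tgt]⟩
  obtain ⟨h, hh, he⟩ := hH (Nat.card T) (fun i => src (e.symm i)) (fun i => tgt (e.symm i))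
    (fun i => hsrc _) (fun i j => hdiff _ _)
  have he' : ∀ i : T, h (src i) = tgt i := fun i => by simpa using he (e i)
  exact ⟨h, hh, fun v hv => mem_fx.2 (he' (.inl ⟨v, hv⟩)),
    fun v hv => mem_fx.2 (he' (.inr (.inl ⟨v, hv⟩))), fun v hv => he' (.inr (.inr ⟨v, hv⟩))⟩

/-- A pointwise stabilizer is binary. -/
theorem LBin.fixing [Finite V] (hH : LBin H) (s : Set V) : LBin (fixing H s) := by
  classical
  intro n v w h1 h2
  let T := Fin n ⊕ s
  let e := Finite.equivFin T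
  let src : T → V := Sum.elim v (fun a => a.1)
  let tgt : T → V := Sum.elim w (fun a => a.1)
  have hsrc : ∀ i, ∃ h ∈ H, h (src i) = tgt i := by
    rintro (i | a)
    · obtain ⟨h, hh, he⟩ := h1 i
      exact ⟨h, hh.1, he⟩
    · exact ⟨1, H.one_mem, rfl⟩
  have hdiff : ∀ i j, ∃ h ∈ H, h (src i - src j) = tgt i - tgt j := by
    rintro (i | a) (j | b)
    · obtain ⟨h, hh, he⟩ := h2 i j
      exact ⟨h, hh.1, he⟩
    · obtain ⟨h, hh, he⟩ := h1 i
      exact ⟨h, hh.1, by simp [src, tgt, he, hh.2 b.1 b.2]⟩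
    · obtain ⟨h, hh, he⟩ := h1 j
      exact ⟨h, hh.1, by simp [src, tgt, he, hh.2 a.1 a.2]⟩
    · exact ⟨1, H.one_mem, rfl⟩
  obtain ⟨h, hh, he⟩ := hH (Nat.card T) (fun i => src (e.symm i)) (fun i => tgt (e.symm i))
    (fun i => hsrc _) (fun i j => hdiff _ _)
  have he' : ∀ i : T, h (src i) = tgt i := fun i => by simpa using he (e i)
  exact ⟨h, ⟨hh, fun a ha => he' (.inr ⟨a, ha⟩)⟩, fun i => he' (.inl i)⟩

/-- An element of odd order is the identity: odd order binary linear groups are trivial. -/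
theorem LBin.eq_one_of_odd [Finite V] (hH : LBin H) (hg : g ∈ H)
    (hodd : ∀ a ∈ H, Odd (orderOf a)) : g = 1 := by
  refine LinearEquiv.ext fun v => ?_
  obtain ⟨a, ha, h1, h2⟩ := hH.swap hg v
  obtain ⟨k, hk⟩ := hodd a ha
  have hpow : (a ^ (2 * k)) v = v := by
    rw [pow_mul]
    refine pow_apply_fixed ?_ k
    rw [sq, LinearEquiv.mul_apply, h1, h2]
  have : (a ^ (2 * k + 1)) v = v := by rw [← hk, pow_orderOf_eq_one]; rfl
  rw [pow_succ', LinearEquiv.mul_apply, hpow, h1] at this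
  exact this

/-- A vector with trivial stabilizer forces exponent two. -/
theorem LBin.sq_eq_one_of_regular (hH : LBin H) {v : V}
    (hreg : ∀ a ∈ H, a v = v → a = 1) (hg : g ∈ H) : g * g = 1 := by
  obtain ⟨a, ha, h1, h2⟩ := hH.swap hg v
  have hag : a = g := by
    have := hreg (g⁻¹ * a) (H.mul_mem (H.inv_mem hg) ha)
      (by rw [LinearEquiv.mul_apply, h1, inv_apply_self])
    rw [inv_mul_eq_one] at this
    exact this.symm
  subst hag
  exact hreg _ (H.mul_mem hg hg) (by rw [LinearEquiv.mul_apply, h1, h2])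

variable [Fact p.Prime] [Finite V]

/-- In odd characteristic the group has order prime to `p`. -/
theorem LBin.not_dvd_card (hH : LBin H) (hp2 : p ≠ 2) : ¬ p ∣ Nat.card H := by
  intro hdvd
  haveI := finite_aut (p := p) (V := V)
  obtain ⟨⟨b, hb⟩, hord⟩ := exists_prime_orderOf_dvd_card' p hdvd
  have hb1 : b ≠ 1 := by
    intro e
    rw [show (⟨b, hb⟩ : H) = 1 from Subtype.ext e, orderOf_one] at hord
    exact (Fact.out : p.Prime).one_lt.ne hord
  have hbp : b ^ p = 1 := by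
    have := pow_orderOf_eq_one (⟨b, hb⟩ : H)
    rw [hord] at this
    exact congrArg Subtype.val this
  let B : Module.End (ZMod p) V := (b : V →ₗ[ZMod p] V)
  have hBp : B ^ p = 1 := by
    have hcoe : ∀ n : ℕ, ∀ v, (B ^ n) v = (b ^ n) v := by
      intro n
      induction n with
      | zero => intro v; rfl
      | succ n ih => intro v; rw [pow_succ, pow_succ, Module.End.mul_apply, LinearEquiv.mul_apply, ih]; rfl
    refine LinearMap.ext fun v => ?_
    rw [hcoe, hbp]
    rfl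
  haveI : Nontrivial V := by
    by_contra hn
    haveI := not_nontrivial_iff_subsingleton.1 hn
    exact hb1 (LinearEquiv.ext fun v => Subsingleton.elim _ _)
  haveI : CharP (Module.End (ZMod p) V) p :=
    charP_of_injective_algebraMap (RingHom.injective (algebraMap (ZMod p) (Module.End (ZMod p) V))) p
  have hN : (B - 1) ^ p = 0 := by
    rw [sub_pow_char_of_commute p (Commute.one_right B), hBp, one_pow, sub_self]
  -- a vector `u` with `(b - 1) u ≠ 0 = (b - 1)² u`
  have : ∃ u, (B - 1) u ≠ 0 ∧ (B - 1) ((B - 1) u) = 0 := by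
    by_contra hno
    push Not at hno
    apply hb1
    refine LinearEquiv.ext fun v => ?_
    by_contra hv
    have hv0 : (B - 1) v ≠ 0 := fun e => hv (sub_eq_zero.1 e)
    have : ∀ n : ℕ, ((B - 1) ^ (n + 1)) v ≠ 0 := by
      intro n
      induction n with
      | zero => simpa using hv0
      | succ n ih =>
        rw [pow_succ', Module.End.mul_apply, pow_succ', Module.End.mul_apply]
        rw [pow_succ', Module.End.mul_apply] at ih
        exact hno _ ih
    have hp1 : p - 1 + 1 = p := Nat.sub_add_cancel (Fact.out : p.Prime).one_le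
    exact this (p - 1) (by rw [hp1, hN]; rfl)
  obtain ⟨u, hd0, hd1⟩ := this
  obtain ⟨d, hd⟩ : ∃ d, b u = u + d := ⟨b u - u, by abel⟩
  have hdne : d ≠ 0 := fun e => hd0 (by
    show b u - u = 0
    rw [hd, e]; abel)
  have hbd : b d = d := by
    have : b (b u - u) - (b u - u) = 0 := hd1
    rwa [hd, add_sub_cancel_left, sub_eq_zero] at this
  obtain ⟨k, hk, he⟩ := hH 2 ![u + d, (u + d) + (u + d)] ![u, (u + d) + (u + d)] (by
      intro i
      fin_cases i
      · exact ⟨b⁻¹, H.inv_mem hb, inv_apply_eq.2 hd⟩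
      · exact ⟨1, H.one_mem, rfl⟩) (by
      intro i j
      fin_cases i <;> fin_cases j
      · exact ⟨1, H.one_mem, by simp⟩
      · exact ⟨b, hb, by simp [map_add, hd, hbd]; abel⟩
      · exact ⟨b, hb, by simp [map_add, hd, hbd]; abel⟩
      · exact ⟨1, H.one_mem, by simp⟩)
  have h0 : k (u + d) = u := by simpa using he 0
  have h1 : k (u + d) + k (u + d) = (u + d) + (u + d) := by simpa [map_add] using he 1
  rw [h0] at h1
  have h2 : d + d = 0 := by
    have := sub_eq_zero.2 h1.symm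
    rwa [show (u + d) + (u + d) - (u + u) = d + d by abel] at this
  have : (2 : ZMod p) • d = 0 := by rw [two_smul, h2]
  rcases smul_eq_zero.1 this with h3 | h3
  · have : ((2 : ℕ) : ZMod p) = 0 := by exact_mod_cast h3
    rw [ZMod.natCast_eq_zero_iff] at this
    exact hp2 ((Nat.prime_dvd_prime_iff_eq Fact.out Nat.prime_two).1 this)
  · exact hdne h3

omit [Fact p.Prime] in
/-- An averaging projection: for a group of order prime to `p` the common fixed space complements
the span of the moved spaces. -/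
theorem isCompl_fixed_moved [Fact p.Prime] (K : Subgroup (V ≃ₗ[ZMod p] V)) (hK : ¬ p ∣ Nat.card K) :
    IsCompl (⨅ g ∈ K, fx g) (⨆ g ∈ K, mv g) := by
  classical
  haveI : Finite K := by
    by_contra hinf
    rw [not_finite_iff_infinite] at hinf
    exact hK (by rw [Nat.card_eq_zero_of_infinite]; exact dvd_zero p)
  letI := Fintype.ofFinite K
  have hc : ((Nat.card K : ℕ) : ZMod p) ≠ 0 := fun e => hK ((ZMod.natCast_eq_zero_iff _ _).1 e)
  let s : V →ₗ[ZMod p] V := ∑ g : K, ((g : V ≃ₗ[ZMod p] V) : V →ₗ[ZMod p] V)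
  have hs : ∀ v, s v = ∑ g : K, (g : V ≃ₗ[ZMod p] V) v := fun v => LinearMap.sum_apply ..
  have hn : ∀ v : V, (∑ _g : K, v) = (Nat.card K : ZMod p) • v := by
    intro v
    have e1 : (∑ _g : K, v) = (Fintype.card K) • v := Finset.sum_const v
    rw [e1, Nat.card_eq_fintype_card]
    exact (Nat.cast_smul_eq_nsmul (ZMod p) (Fintype.card K) v).symm
  have hfix : ∀ v ∈ (⨅ g ∈ K, fx g : Submodule (ZMod p) V), s v = (Nat.card K : ZMod p) • v := by
    intro v hv
    simp only [Submodule.mem_iInf] at hv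
    have e1 : s v = ∑ _g : K, v := (hs v).trans (Finset.sum_congr rfl fun g _ => mem_fx.1 (hv g.1 g.2))
    rw [e1]
    exact hn v
  have hmov : (⨆ g ∈ K, mv g : Submodule (ZMod p) V) ≤ LinearMap.ker s := by
    refine iSup₂_le fun g hg v hv => ?_
    obtain ⟨u, rfl⟩ := mem_mv.1 hv
    rw [LinearMap.mem_ker, map_sub, sub_eq_zero, hs, hs]
    exact Fintype.sum_equiv (Equiv.mulRight ⟨g, hg⟩) _ _ (fun k => rfl)
  constructor
  · rw [disjoint_iff, eq_bot_iff]
    intro v hv
    rw [Submodule.mem_inf] at hv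
    have := hfix v hv.1
    rw [LinearMap.mem_ker.1 (hmov hv.2), eq_comm, smul_eq_zero] at this
    exact (Submodule.mem_bot _).2 (this.resolve_left hc)
  · rw [codisjoint_iff, eq_top_iff]
    intro v _
    rw [Submodule.mem_sup]
    refine ⟨(Nat.card K : ZMod p)⁻¹ • s v, ?_, v - (Nat.card K : ZMod p)⁻¹ • s v, ?_, by abel⟩
    · simp only [Submodule.mem_iInf]
      intro g hg
      rw [mem_fx, map_smul, hs, map_sum]
      congr 1
      exact Fintype.sum_equiv (Equiv.mulLeft ⟨g, hg⟩) _ _ (fun k => rfl)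
    · have : v - (Nat.card K : ZMod p)⁻¹ • s v
          = (Nat.card K : ZMod p)⁻¹ • ∑ g : K, (v - (g : V ≃ₗ[ZMod p] V) v) := by
        rw [Finset.sum_sub_distrib, smul_sub, ← hs, hn v, smul_smul, inv_mul_cancel₀ hc, one_smul]
      rw [this]
      refine Submodule.smul_mem _ _ (Submodule.sum_mem _ fun g _ => ?_)
      rw [← neg_sub]
      exact Submodule.neg_mem _
        (Submodule.mem_iSup_of_mem g.1 (Submodule.mem_iSup_of_mem g.2 (sub_mem_mv v)))

end CfsgLib.Perm.BinAff
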