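import Cfsg.Agent.Lib.Perm.BinaryAffine.Plane

/-!
# The cyclic subgroup of a plane is irreducible

An abelian fixed point free group of order `p ^ f + 1` on a space of dimension `2 * f` leaves no
proper subspace invariant.
-/

set_option autoImplicit false
set_option linter.all false

namespace CfsgLib.Perm.BinAff

open Module

variable {p : ℕ} {V : Type*} [AddCommGroup V] [Module (ZMod p) V] [Fact p.Prime] [Finite V]

/-- An invariant subspace on which the group is fixed point free has more elements than the group. -/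
theorem lt_finrank_of_free {C : Subgroup (V ≃ₗ[ZMod p] V)} {U : Submodule (ZMod p) V} {f : ℕ}
    (hcard : Nat.card C = p ^ f + 1) (hinv : ∀ c ∈ C, ∀ u ∈ U, c u ∈ U) {u : V} (hu : u ∈ U)
    (hu0 : u ≠ 0) (hfree : ∀ c ∈ C, c u = u → c = 1) : f < finrank (ZMod p) U := by
  by_contra hle
  push Not at hle
  have hinj : Function.Injective (fun c : C => (⟨c.1 u, hinv c.1 c.2 u hu⟩ : U)) := by
    intro a b e
    have e' : a.1 u = b.1 u := congrArg Subtype.val e
    refine Subtype.ext (inv_mul_eq_one.1 (hfree _ (C.mul_mem (C.inv_mem b.2) a.2) ?_)).symm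
    rw [LinearEquiv.mul_apply, e', inv_apply_self]
  have h1 := Nat.card_le_card_of_injective _ hinj
  rw [hcard, card_submodule] at h1
  have := Nat.pow_le_pow_right (Fact.out : p.Prime).pos hle
  omega

theorem irred_of_card {C : Subgroup (V ≃ₗ[ZMod p] V)} {P : Submodule (ZMod p) V} {f : ℕ}
    (hcard : Nat.card C = p ^ f + 1) (hdim : finrank (ZMod p) P = 2 * f)
    (hcomm : ∀ a ∈ C, ∀ b ∈ C, a * b = b * a) (hP : ∀ c ∈ C, ∀ v ∈ P, c v ∈ P)
    (hfree : ∀ c ∈ C, ∀ v ∈ P, v ≠ 0 → c v = v → c = 1)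
    {U : Submodule (ZMod p) V} (hU : U ≤ P) (hinv : ∀ c ∈ C, ∀ u ∈ U, c u ∈ U) (hU0 : U ≠ ⊥) :
    U = P := by
  classical
  have hbig : ∀ X : Submodule (ZMod p) V, X ≤ P → (∀ c ∈ C, ∀ v ∈ X, c v ∈ X) → X ≠ ⊥ →
      f < finrank (ZMod p) X := by
    intro X hX hXi hX0
    obtain ⟨v, hv, hv0⟩ := Submodule.exists_mem_ne_zero_of_ne_bot hX0
    exact lt_finrank_of_free hcard hXi hv hv0 fun c hc e => hfree c hc v (hX hv) hv0 e
  let S : Set (Module.End (ZMod p) V) :=
    Set.range fun c : C => ((c.1 : V ≃ₗ[ZMod p] V) : V →ₗ[ZMod p] V)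
  let A := Algebra.adjoin (ZMod p) S
  have hAP : ∀ a ∈ A, ∀ X : Submodule (ZMod p) V, (∀ c ∈ C, ∀ v ∈ X, c v ∈ X) → ∀ v ∈ X, a v ∈ X := by
    intro a ha X hX
    induction ha using Algebra.adjoin_induction with
    | mem a ha => obtain ⟨c, rfl⟩ := ha; exact hX c.1 c.2
    | algebraMap r => exact fun v hv => by simpa [Module.algebraMap_end_apply] using X.smul_mem r hv
    | add a b _ _ ha hb => exact fun v hv => X.add_mem (ha v hv) (hb v hv)
    | mul a b _ _ ha hb => exact fun v hv => ha _ (hb v hv)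
  have hAc : ∀ a ∈ A, ∀ c ∈ C, ∀ v, a (c v) = c (a v) := by
    intro a ha c hc
    induction ha using Algebra.adjoin_induction with
    | mem a ha =>
      obtain ⟨d, rfl⟩ := ha
      exact fun v => LinearEquiv.congr_fun (hcomm d.1 d.2 c hc) v
    | algebraMap r => exact fun v => by simp [Module.algebraMap_end_apply]
    | add a b _ _ ha hb => exact fun v => by simp [ha v, hb v, map_add]
    | mul a b _ _ ha hb => exact fun v => by simp [ha, hb]
  have hzero : ∀ a ∈ A, (∃ v ∈ P, v ≠ 0 ∧ a v = 0) → ∀ v ∈ P, a v = 0 := by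
    rintro a ha ⟨v₀, hv₀, hv₀0, hav⟩ v hv
    by_contra hne
    have h1 := hbig (LinearMap.ker a ⊓ P) inf_le_right
      (fun c hc z hz => ⟨by
          show a (c z) = 0
          rw [hAc a ha c hc, show a z = 0 from hz.1, map_zero], hP c hc z hz.2⟩)
      (fun e => hv₀0 ((Submodule.mem_bot _).1 (e ▸ Submodule.mem_inf.2 ⟨hav, hv₀⟩)))
    have h2 := hbig (P.map a) (by rintro _ ⟨z, hz, rfl⟩; exact hAP a ha P hP z hz)
      (by rintro c hc _ ⟨z, hz, rfl⟩; exact ⟨c z, hP c hc z hz, hAc a ha c hc z⟩)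
      (fun e => hne ((Submodule.mem_bot _).1 (e ▸ Submodule.mem_map_of_mem hv)))
    let g : P →ₗ[ZMod p] V := a.domRestrict P
    have h3 := LinearMap.finrank_range_add_finrank_ker g
    have h4 : LinearMap.range g = P.map a := by
      ext z
      simp [g, Submodule.mem_map]
    have h5 : finrank (ZMod p) (LinearMap.ker g) = finrank (ZMod p) (LinearMap.ker a ⊓ P : Submodule _ V) := by
      rw [← (Submodule.map_comap_subtype P (LinearMap.ker a)).trans (inf_comm _ _),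
        Submodule.finrank_map_subtype_eq]
      rfl
    rw [h4, h5, hdim] at h3
    omega
  refine le_antisymm hU fun v hv => ?_
  by_cases hv0 : v = 0
  · rw [hv0]; exact U.zero_mem
  -- the orbit algebra of `v` meets `U`
  let ev : A →ₗ[ZMod p] V := (LinearMap.applyₗ v).comp A.val.toLinearMap
  have hev : ∀ a : A, ev a = (a : Module.End (ZMod p) V) v := fun a => rfl
  have h1 := hbig (LinearMap.range ev) (by rintro _ ⟨a, rfl⟩; exact hAP a a.2 P hP v hv)
    (by
      rintro c hc _ ⟨a, rfl⟩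
      exact ⟨⟨_, A.mul_mem (Algebra.subset_adjoin (Set.mem_range_self (⟨c, hc⟩ : C))) a.2⟩, rfl⟩)
    (fun e => hv0 (by
      have h : v ∈ LinearMap.range ev := ⟨1, rfl⟩
      rwa [e, Submodule.mem_bot] at h))
  have h2 := hbig U hU hinv hU0
  have h3 : LinearMap.range ev ⊓ U ≠ ⊥ := by
    intro e
    have h4 := Submodule.finrank_sup_add_finrank_inf_eq (LinearMap.range ev) U
    have h5 : LinearMap.range ev ⊔ U ≤ P :=
      sup_le (by rintro _ ⟨a, rfl⟩; exact hAP a a.2 P hP v hv) hU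
    have := Submodule.finrank_mono h5
    rw [e, finrank_bot] at h4
    omega
  obtain ⟨_, ⟨⟨a, rfl⟩, haU⟩, ha0⟩ := Submodule.exists_mem_ne_zero_of_ne_bot h3
  -- `a` is injective on `P`, so a power of it fixes `v`
  have hpos : ∀ j : ℕ, ∀ z ∈ P, ((a : Module.End (ZMod p) V) ^ j) z ∈ P := fun j z hz =>
    hAP _ (A.pow_mem a.2 j) P hP z hz
  obtain ⟨i, j, hij, he⟩ :=
    Finite.exists_ne_map_eq_of_infinite (fun j : ℕ => (((a : Module.End (ZMod p) V) ^ j) v : V))
  have hinj : ∀ z ∈ P, (a : Module.End (ZMod p) V) z = 0 → z = 0 := by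
    intro z hz e
    by_contra hz0
    exact ha0 (hzero a a.2 ⟨z, hz, hz0, e⟩ v hv)
  have hcancel : ∀ i : ℕ, ∀ z ∈ P, ((a : Module.End (ZMod p) V) ^ i) z = 0 → z = 0 := by
    intro i
    induction i with
    | zero => exact fun z _ e => e
    | succ i ih =>
      intro z hz e
      rw [pow_succ', Module.End.mul_apply] at e
      exact ih z hz (hinj _ (hpos i z hz) e)
  obtain ⟨i, k, hk, he⟩ : ∃ i k : ℕ, 0 < k ∧
      ((a : Module.End (ZMod p) V) ^ (i + k)) v = ((a : Module.End (ZMod p) V) ^ i) v := by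
    rcases Nat.lt_or_gt_of_ne hij with h | h
    · exact ⟨i, j - i, by omega, by rw [Nat.add_sub_cancel' h.le]; exact he.symm⟩
    · exact ⟨j, i - j, by omega, by rw [Nat.add_sub_cancel' h.le]; exact he⟩
  have hfix : ((a : Module.End (ZMod p) V) ^ k) v = v := by
    refine sub_eq_zero.1 (hcancel i _ (P.sub_mem (hpos k v hv) hv) ?_)
    rw [map_sub, ← Module.End.mul_apply, ← pow_add, he, sub_self]
  rw [← hfix, show k = k - 1 + 1 by omega, pow_succ, Module.End.mul_apply]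
  exact hAP _ (A.pow_mem a.2 _) U hinv _ (hev a ▸ haU)

namespace Plane

variable {L C : Subgroup (V ≃ₗ[ZMod p] V)} {F P : Submodule (ZMod p) V} {f : ℕ}

theorem free (hπ : Plane L C F P f) {c : V ≃ₗ[ZMod p] V} (hc : c ∈ C) {v : V} (hv : v ∈ P)
    (hv0 : v ≠ 0) (he : c v = v) : c = 1 := by
  by_contra h1
  exact hπ.not_mem_F hv hv0 (hπ.fpf c hc h1 ▸ mem_fx.2 he)

theorem apply_mem (hπ : Plane L C F P f) {g : V ≃ₗ[ZMod p] V} (hg : g ∈ L) {v : V} (hv : v ∈ P) :
    g v ∈ P := apply_mem_of_mv_le (hπ.mv_le g hg) hv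

theorem irred (hπ : Plane L C F P f) {U : Submodule (ZMod p) V} (hU : U ≤ P)
    (hinv : ∀ c ∈ C, ∀ u ∈ U, c u ∈ U) (hU0 : U ≠ ⊥) : U = P :=
  irred_of_card hπ.cardC hπ.dim hπ.comm (fun c hc v hv => hπ.apply_mem (hπ.le hc) hv)
    (fun c hc v hv hv0 e => hπ.free hc hv hv0 e) hU hinv hU0

theorem refl_ne_one (hπ : Plane L C F P f) {t : V ≃ₗ[ZMod p] V} (ht : t ∉ C) : t ≠ 1 :=
  fun e => ht (e ▸ C.one_mem)

/-- Two fixed spaces meet in `F`. -/
theorem fx_inf_le (hπ : Plane L C F P f) {s t : V ≃ₗ[ZMod p] V} (hs : s ∈ L) (hs' : s ∉ C)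
    (ht : t ∈ L) (ht' : t ∉ C) (hne : s ≠ t) : fx s ⊓ fx t ≤ F := by
  intro v hv
  have h1 : s * t ≠ 1 := fun e => hne (by
    calc s = s * (t * t) := by rw [hπ.sq t ht ht', mul_one]
      _ = t := by rw [← mul_assoc, e, one_mul])
  rw [← hπ.fpf _ (hπ.mul_mem s hs t ht hs' ht') h1]
  exact fx_inf_le_mul hv

/-- Every vector of the plane is fixed by a reflection. -/
theorem fixer (hπ : Plane L C F P f) {v : V} (hv : v ∈ P) (hv0 : v ≠ 0) :
    ∃ t ∈ L, t ∉ C ∧ t v = v := by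
  haveI := finite_aut (p := p) (V := V)
  have h := (partition_count (fun t : {t // t ∈ L ∧ t ∉ C} => fx t.1 ⊓ P) P
    (fun t => inf_le_right) (fun t => hπ.finrank_fx t.2.1 t.2.2) (fun i j hij => by
      rw [eq_bot_iff]
      intro u hu
      simp only [Submodule.mem_inf] at hu
      rw [Submodule.mem_bot]
      by_contra hu0
      exact hπ.not_mem_F hu.1.2 hu0
        (hπ.fx_inf_le i.2.1 i.2.2 j.2.1 j.2.2 (fun e => hij (Subtype.ext e)) ⟨hu.1.1, hu.2.1⟩))).2 (by
      rw [hπ.card_refl, hπ.dim, pow_mul',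
        show (p ^ f) ^ 2 - 1 = (p ^ f + 1) * (p ^ f - 1) by simpa using Nat.sq_sub_sq (p ^ f) 1]) v hv hv0
  obtain ⟨t, ht⟩ := h
  exact ⟨t.1, t.2.1, t.2.2, mem_fx.1 ht.1⟩

/-- Conjugation of reflections by `C` when its order is odd. -/
theorem conj_of_odd (hπ : Plane L C F P f) (hodd : Odd (p ^ f + 1)) {s t : V ≃ₗ[ZMod p] V}
    (hs : s ∈ L) (hs' : s ∉ C) (ht : t ∈ L) (ht' : t ∉ C) : ∃ c ∈ C, c * s * c⁻¹ = t := by
  obtain ⟨k, hk⟩ := hodd
  obtain ⟨c, hc, hcts⟩ : ∃ c ∈ C, c = t * s := ⟨_, hπ.mul_mem t ht s hs ht' hs', rfl⟩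
  have hord : c ^ (p ^ f + 1) = 1 := by
    have := congrArg Subtype.val (pow_card_eq_one' (x := (⟨c, hc⟩ : C)))
    rwa [hπ.cardC] at this
  have hd := C.pow_mem hc (k + 1)
  refine ⟨c ^ (k + 1), hd, ?_⟩
  have hinv := hπ.inv s hs hs' _ hd
  have hss := hπ.sq s hs hs'
  have e : s * (c ^ (k + 1))⁻¹ = c ^ (k + 1) * s := by
    rw [← hinv, ← mul_assoc, ← mul_assoc, hss, one_mul]
  have h2 : c ^ (k + 1) * c ^ (k + 1) = c := by
    rw [← pow_add, show k + 1 + (k + 1) = p ^ f + 1 + 1 by omega, pow_succ, hord, one_mul]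
  rw [mul_assoc, e, ← mul_assoc, h2, hcts, mul_assoc, hss, mul_one]

end Plane

end CfsgLib.Perm.BinAff
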