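import Cfsg.Agent.Lib.Perm.BinaryAffine.Plane

/-!
# Rigid binary groups in odd characteristic are plane groups

All stabilizers of vectors outside the fixed space have order two: otherwise the involutions with
smallest moved space commute, and a vector with generic components would be regular.
-/

set_option autoImplicit false
set_option linter.all false

namespace CfsgLib.Perm.BinAff

open Module

variable {p : ℕ} {V : Type*} [AddCommGroup V] [Module (ZMod p) V] [Fact p.Prime] [Finite V]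

omit [Finite V] in
theorem two_ne (hp2 : p ≠ 2) : (2 : ZMod p) ≠ 0 := fun h => by
  have : ((2 : ℕ) : ZMod p) = 0 := by exact_mod_cast h
  rw [ZMod.natCast_eq_zero_iff] at this
  exact hp2 ((Nat.prime_dvd_prime_iff_eq Fact.out Nat.prime_two).1 this)

omit [Finite V] in
theorem eq_zero_of_double (hp2 : p ≠ 2) {v : V} (h : v + v = 0) : v = 0 := by
  rw [← two_smul (ZMod p) v, smul_eq_zero] at h
  exact h.resolve_left (two_ne hp2)

omit [Finite V] in
theorem eq_zero_of_neg (hp2 : p ≠ 2) {v : V} (h : v = -v) : v = 0 :=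
  eq_zero_of_double hp2 (eq_neg_iff_add_eq_zero.1 h)

omit [Finite V] in
/-- An involution splits the space. -/
theorem fx_sup_mv (hp2 : p ≠ 2) {a : V ≃ₗ[ZMod p] V} (ha : a * a = 1) (v : V) :
    ∃ y ∈ fx a, ∃ z ∈ mv a, v = y + z := by
  have haa : a (a v) = v := by rw [← LinearEquiv.mul_apply, ha]; rfl
  refine ⟨(2⁻¹ : ZMod p) • (v + a v), ?_, (2⁻¹ : ZMod p) • (v - a v), ?_, ?_⟩
  · rw [mem_fx, map_smul, map_add, haa, add_comm]
  · refine Submodule.smul_mem _ _ ?_
    rw [← neg_sub]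
    exact Submodule.neg_mem _ (sub_mem_mv v)
  · rw [← smul_add, show v + a v + (v - a v) = (2 : ZMod p) • v by rw [two_smul]; abel, smul_smul,
      inv_mul_cancel₀ (two_ne hp2), one_smul]

omit [Finite V] in
theorem fx_inf_mv (hp2 : p ≠ 2) {a : V ≃ₗ[ZMod p] V} (ha : a * a = 1) {v : V} (h1 : v ∈ fx a)
    (h2 : v ∈ mv a) : v = 0 :=
  eq_zero_of_neg hp2 ((mem_fx.1 h1).symm.trans (apply_mv_neg ha h2))

omit [Finite V] in
/-- Commuting involutions with the same moved space are equal. -/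
theorem eq_of_mv_eq (hp2 : p ≠ 2) {a b : V ≃ₗ[ZMod p] V} (ha : a * a = 1) (hb : b * b = 1)
    (hc : a * b = b * a) (h : mv a = mv b) : a = b := by
  refine LinearEquiv.ext fun v => ?_
  obtain ⟨y, hy, z, hz, rfl⟩ := fx_sup_mv hp2 ha v
  have hby : b y = y := by
    refine sub_eq_zero.1 (fx_inf_mv hp2 ha ((fx a).sub_mem (apply_mem_fx_of_commute hc hy) hy) ?_)
    rw [h]
    exact sub_mem_mv y
  rw [map_add, map_add, mem_fx.1 hy, hby, apply_mv_neg ha hz, apply_mv_neg hb (h ▸ hz)]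

omit [Finite V] in
theorem codisjoint_of_commute (hp2 : p ≠ 2) {a b : V ≃ₗ[ZMod p] V} (ha : a * a = 1) (hb : b * b = 1)
    (hc : a * b = b * a) : fx a ⊔ fx b ⊔ (mv a ⊓ mv b) = ⊤ := by
  rw [eq_top_iff]
  intro v _
  obtain ⟨y, hy, z, hz, rfl⟩ := fx_sup_mv hp2 ha v
  obtain ⟨y', hy', z', hz', rfl⟩ := fx_sup_mv hp2 hb z
  have hz'a : z' ∈ mv a := by
    have h1 : b (y' + z') - (y' + z') ∈ mv a := (mv a).sub_mem (apply_mem_mv_of_commute hc hz) hz
    rw [map_add, mem_fx.1 hy', apply_mv_neg hb hz',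
      show y' + -z' - (y' + z') = (-2 : ZMod p) • z' by rw [neg_smul, two_smul]; abel] at h1
    have h2 := (mv a).smul_mem (-2 : ZMod p)⁻¹ h1
    rwa [smul_smul, inv_mul_cancel₀ (neg_ne_zero.2 (two_ne hp2)), one_smul] at h2
  refine Submodule.add_mem _ (Submodule.mem_sup_left (Submodule.mem_sup_left hy))
    (Submodule.add_mem _ (Submodule.mem_sup_left (Submodule.mem_sup_right hy')) ?_)
  exact Submodule.mem_sup_right (Submodule.mem_inf.2 ⟨hz'a, hz'⟩)

/-- A generic vector for an elementary abelian 2-group. -/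
theorem exists_generic (hp2 : p ≠ 2) (K : Subgroup (V ≃ₗ[ZMod p] V)) (hK : ∀ k ∈ K, k * k = 1)
    (W : Submodule (ZMod p) V) (hW : ∀ k ∈ K, ∀ v ∈ W, k v ∈ W) :
    ∃ w ∈ W, (W ≠ ⊥ → w ≠ 0) ∧ ∀ k ∈ K, k w = w → W ≤ fx k := by
  classical
  induction hn : finrank (ZMod p) W using Nat.strong_induction_on generalizing W with
  | _ n ih =>
    by_cases hW0 : W = ⊥
    · exact ⟨0, W.zero_mem, fun h => absurd hW0 h, fun k _ _ => hW0 ▸ bot_le⟩
    by_cases hmix : ∃ k ∈ K, ¬ W ≤ fx k ∧ ∃ v ∈ W, k v ≠ -v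
    · obtain ⟨k, hk, hk1, v, hv, hkv⟩ := hmix
      have hsplit : ∀ u ∈ W, ∃ y ∈ W ⊓ fx k, ∃ z ∈ W ⊓ mv k, u = y + z := by
        intro u hu
        have hkk : k (k u) = u := by rw [← LinearEquiv.mul_apply, hK k hk]; rfl
        refine ⟨(2⁻¹ : ZMod p) • (u + k u), Submodule.mem_inf.2 ⟨W.smul_mem _ (W.add_mem hu (hW k hk u hu)), ?_⟩,
          (2⁻¹ : ZMod p) • (u - k u), Submodule.mem_inf.2 ⟨W.smul_mem _ (W.sub_mem hu (hW k hk u hu)), ?_⟩, ?_⟩
        · rw [mem_fx, map_smul, map_add, hkk, add_comm]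
        · refine Submodule.smul_mem _ _ ?_
          rw [← neg_sub]
          exact Submodule.neg_mem _ (sub_mem_mv u)
        · rw [← smul_add, show u + k u + (u - k u) = (2 : ZMod p) • u by rw [two_smul]; abel, smul_smul,
            inv_mul_cancel₀ (two_ne hp2), one_smul]
      have hc : ∀ g ∈ K, k * g = g * k := by
        intro g hg
        have := inv_eq_of_mul_eq_one_right (hK _ (K.mul_mem hk hg))
        rw [mul_inv_rev, inv_eq_of_mul_eq_one_right (hK k hk), inv_eq_of_mul_eq_one_right (hK g hg)] at this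
        exact this.symm
      have h1 : W ⊓ fx k < W := lt_of_le_of_ne inf_le_left fun e => hk1 (e ▸ inf_le_right)
      have h2 : W ⊓ mv k < W := lt_of_le_of_ne inf_le_left fun e =>
        hkv (apply_mv_neg (hK k hk) ((e.symm ▸ hv : v ∈ W ⊓ mv k).2))
      obtain ⟨y, hy, hy0, hy1⟩ := ih _ (hn ▸ Submodule.finrank_lt_finrank_of_lt h1) (W ⊓ fx k)
        (fun g hg u hu => ⟨hW g hg u hu.1, apply_mem_fx_of_commute (hc g hg) hu.2⟩) rfl
      obtain ⟨z, hz, hz0, hz1⟩ := ih _ (hn ▸ Submodule.finrank_lt_finrank_of_lt h2) (W ⊓ mv k)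
        (fun g hg u hu => ⟨hW g hg u hu.1, apply_mem_mv_of_commute (hc g hg) hu.2⟩) rfl
      refine ⟨y + z, W.add_mem hy.1 hz.1, fun _ e => ?_, fun g hg e => ?_⟩
      · have hy' : y = 0 := fx_inf_mv hp2 (hK k hk) hy.2 (by
          rw [eq_neg_of_add_eq_zero_left e]; exact (mv k).neg_mem hz.2)
        have hz' : z = 0 := by rwa [hy', zero_add] at e
        apply hz0 ?_ hz'
        intro hb
        refine hk1 fun u hu => ?_
        obtain ⟨y', hy'', z', hz'', rfl⟩ := hsplit u hu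
        rw [(Submodule.mem_bot _).1 (hb ▸ hz'' : z' ∈ (⊥ : Submodule (ZMod p) V)), add_zero]
        exact hy''.2
      · have e1 : g y - y = -(g z - z) := by
          rw [map_add] at e
          linear_combination (norm := module) e
        have hgy : g y = y := sub_eq_zero.1 (fx_inf_mv hp2 (hK k hk)
          ((fx k).sub_mem (apply_mem_fx_of_commute (hc g hg) hy.2) hy.2)
          (by rw [e1]; exact (mv k).neg_mem ((mv k).sub_mem (apply_mem_mv_of_commute (hc g hg) hz.2) hz.2)))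
        have hgz : g z = z := by rw [map_add, hgy] at e; exact add_left_cancel e
        intro u hu
        obtain ⟨y', hy'', z', hz'', rfl⟩ := hsplit u hu
        exact (fx g).add_mem (hy1 g hg hgy hy'') (hz1 g hg hgz hz'')
    · push Not at hmix
      obtain ⟨w, hw, hw0⟩ := Submodule.exists_mem_ne_zero_of_ne_bot hW0
      refine ⟨w, hw, fun _ => hw0, fun k hk e => ?_⟩
      by_contra hle
      exact hw0 (eq_zero_of_neg hp2 (e.symm.trans (hmix k hk hle w hw)))

/-- In odd characteristic a vector outside `F` is fixed by only one element besides the identity. -/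
theorem stab_unique (hp2 : p ≠ 2) {L : Subgroup (V ≃ₗ[ZMod p] V)} {F P : Submodule (ZMod p) V}
    (hL : LBin L) (hfix : ∀ g ∈ L, ∀ v ∈ F, g v = v) (hrig : ∀ g ∈ L, g * g ≠ 1 → fx g = F)
    (hPF : IsCompl P F) (hmv : ∀ g ∈ L, mv g ≤ P) {x : V ≃ₗ[ZMod p] V} (hx : x ∈ L)
    (hx2 : x * x ≠ 1) {v : V} (hv : v ∉ F) {a b : V ≃ₗ[ZMod p] V} (ha : a ∈ L) (hb : b ∈ L)
    (hav : a v = v) (hbv : b v = v) (ha1 : a ≠ 1) (hb1 : b ≠ 1) : a = b := by
  classical
  by_contra hab
  haveI := finite_aut (p := p) (V := V)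
  have hdvd := hL.not_dvd_card hp2
  have hnF : ∀ {u : V}, u ∈ P → u ≠ 0 → u ∉ F := fun {u} h1 h2 h3 =>
    h2 ((Submodule.mem_bot _).1 (hPF.inf_eq_bot ▸ Submodule.mem_inf.2 ⟨h1, h3⟩))
  have hsq : ∀ g ∈ L, ∀ u, u ∉ F → g u = u → g * g = 1 := by
    intro g hg u hu hgu
    by_contra hne
    exact hu (hrig g hg hne ▸ mem_fx.2 hgu)
  have hcom : ∀ g ∈ L, ∀ h ∈ L, ∀ u, u ∉ F → g u = u → h u = u → g * h = h * g := by
    intro g hg h hh u hu e1 e2
    have := inv_eq_of_mul_eq_one_right (hsq _ (L.mul_mem hg hh) u hu (by rw [LinearEquiv.mul_apply, e2, e1]))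
    rw [mul_inv_rev, inv_eq_of_mul_eq_one_right (hsq g hg u hu e1),
      inv_eq_of_mul_eq_one_right (hsq h hh u hu e2)] at this
    exact this.symm
  -- an involution negating the common part
  have hmeet : ∀ g ∈ L, ∀ h ∈ L, ∀ u, u ∉ F → g u = u → h u = u → mv g ⊓ mv h ≠ ⊥ →
      ∃ c ∈ L, c * c = 1 ∧ c ≠ 1 ∧
        finrank (ZMod p) (mv c) ≤ finrank (ZMod p) (mv g ⊓ mv h : Submodule _ V) := by
    intro g hg h hh u hu e1 e2 hne
    obtain ⟨c, hc, hc1, hc2, hc3⟩ := hL.xy hg hh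
    have hgg := hsq g hg u hu e1
    have hhh := hsq h hh u hu e2
    obtain ⟨d, hd, hd0⟩ := Submodule.exists_mem_ne_zero_of_ne_bot hne
    rw [Submodule.mem_inf] at hd
    refine ⟨c, hc, hsq c hc u hu (mem_fx.1 (hc1 (mem_fx.2 e1))), ?_, ?_⟩
    · rintro rfl
      have := hc3 d (by rw [apply_mv_neg hgg hd.1, apply_mv_neg hhh hd.2])
      rw [apply_mv_neg hgg hd.1] at this
      exact hd0 (eq_zero_of_neg hp2 this)
    · have h1 := finrank_fx_add_mv c
      have h2 : fx c ⊔ (mv g ⊓ mv h) = ⊤ :=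
        top_le_iff.1 ((codisjoint_of_commute hp2 hgg hhh (hcom g hg h hh u hu e1 e2)).ge.trans
          (sup_le_sup_right (sup_le hc1 hc2) _))
      have h3 := Submodule.finrank_sup_add_finrank_inf_eq (fx c) (mv g ⊓ mv h)
      rw [h2, finrank_top] at h3
      omega
  have hPpos : ∀ t ∈ L, t ≠ 1 → 0 < finrank (ZMod p) (mv t) := fun t ht h1 =>
    Nat.pos_of_ne_zero fun h0 => h1 (eq_one_of_mv (Submodule.finrank_eq_zero.1 h0))
  -- an involution moving less than half of `P`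
  have hex : ∃ t ∈ L, t * t = 1 ∧ t ≠ 1 ∧ 2 * finrank (ZMod p) (mv t) < finrank (ZMod p) P := by
    have haa := hsq a ha v hv hav
    have hbb := hsq b hb v hv hbv
    have hc := hcom a ha b hb v hv hav hbv
    obtain ⟨p₀, hp₀, q₀, hq₀, rfl⟩ := Submodule.mem_sup.1 (hPF.sup_eq_top.ge (Submodule.mem_top (x := v)))
    have hap : a p₀ = p₀ := by rw [map_add, hfix a ha q₀ hq₀] at hav; exact add_right_cancel hav
    have hbp : b p₀ = p₀ := by rw [map_add, hfix b hb q₀ hq₀] at hbv; exact add_right_cancel hbv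
    have hp₀0 : p₀ ≠ 0 := fun e => hv (by rw [e, zero_add]; exact hq₀)
    have hU : mv a ⊔ mv b < P := by
      refine lt_of_le_of_ne (sup_le (hmv a ha) (hmv b hb)) fun e => ?_
      obtain ⟨u, hu, w, hw, huw⟩ := Submodule.mem_sup.1 (e.symm ▸ hp₀ : p₀ ∈ mv a ⊔ mv b)
      have h1 : a u = -u := apply_mv_neg haa hu
      have h2 : b w = -w := apply_mv_neg hbb hw
      have h3 : b (a p₀) = p₀ := by rw [hap, hbp]
      have h4 : b (a u) = -(b u) := by rw [h1, map_neg]
      have h5 : b (a w) = -(a w) := by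
        rw [← LinearEquiv.mul_apply, ← hc, LinearEquiv.mul_apply, h2, map_neg]
      have h6 : p₀ + a p₀ + b p₀ + b (a p₀) = 0 := by
        rw [← huw]
        simp only [map_add, h1, h2, h5, map_neg]
        abel
      rw [h3, hap, hbp] at h6
      refine hp₀0 (eq_zero_of_double hp2 (eq_zero_of_double hp2 ?_))
      rw [← h6]; abel
    have hlt := Submodule.finrank_lt_finrank_of_lt hU
    have hsum := Submodule.finrank_sup_add_finrank_inf_eq (mv a) (mv b)
    by_cases hD : mv a ⊓ mv b = ⊥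
    · rw [hD, finrank_bot] at hsum
      by_cases h : finrank (ZMod p) (mv a) ≤ finrank (ZMod p) (mv b)
      · exact ⟨a, ha, haa, ha1, by omega⟩
      · exact ⟨b, hb, hbb, hb1, by omega⟩
    · by_cases hsm : 2 * finrank (ZMod p) (mv a ⊓ mv b : Submodule _ V) < finrank (ZMod p) P
      · obtain ⟨c, hc', hc2, hc1, hle⟩ := hmeet a ha b hb _ hv hav hbv hD
        exact ⟨c, hc', hc2, hc1, by omega⟩
      · refine ⟨a * b, L.mul_mem ha hb, ?_, ?_, ?_⟩
        · rw [mul_assoc, ← mul_assoc b, ← hc, mul_assoc a b b, hbb, mul_one, haa]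
        · intro e
          apply hab
          calc a = a * (b * b) := by rw [hbb, mul_one]
            _ = b := by rw [← mul_assoc, e, one_mul]
        · have hab2 : (a * b) * (a * b) = 1 := by
            rw [mul_assoc, ← mul_assoc b, ← hc, mul_assoc a b b, hbb, mul_one, haa]
          have h1 : mv (a * b) ≤ mv a ⊔ mv b := by
            intro y hy
            obtain ⟨u, rfl⟩ := mem_mv.1 hy
            rw [LinearEquiv.mul_apply, show a (b u) - u = (a (b u) - b u) + (b u - u) by abel]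
            exact Submodule.add_mem _ (Submodule.mem_sup_left (sub_mem_mv _))
              (Submodule.mem_sup_right (sub_mem_mv _))
          have h2 : mv (a * b) ⊓ (mv a ⊓ mv b) = ⊥ := by
            rw [eq_bot_iff]
            intro y hy
            simp only [Submodule.mem_inf] at hy
            refine (Submodule.mem_bot _).2 (fx_inf_mv hp2 hab2 ?_ hy.1)
            rw [mem_fx, LinearEquiv.mul_apply, apply_mv_neg hbb hy.2.2, map_neg,
              apply_mv_neg haa hy.2.1, neg_neg]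
          have h3 := Submodule.finrank_sup_add_finrank_inf_eq (mv (a * b)) (mv a ⊓ mv b)
          rw [h2, finrank_bot] at h3
          have h4 := Submodule.finrank_mono
            (sup_le h1 (inf_le_left.trans le_sup_left) :
              mv (a * b) ⊔ (mv a ⊓ mv b) ≤ mv a ⊔ mv b)
          omega
  obtain ⟨t₀, ht₀, ht₀2, ht₀1, ht₀m⟩ := hex
  have hexm : ∃ m, ∃ t ∈ L, t * t = 1 ∧ t ≠ 1 ∧ finrank (ZMod p) (mv t) = m :=
    ⟨_, t₀, ht₀, ht₀2, ht₀1, rfl⟩
  obtain ⟨m, ⟨t₁, ht₁, ht₁2, ht₁1, ht₁m⟩, hmin⟩ : ∃ m,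
      (∃ t ∈ L, t * t = 1 ∧ t ≠ 1 ∧ finrank (ZMod p) (mv t) = m) ∧
      ∀ t ∈ L, t * t = 1 → t ≠ 1 → m ≤ finrank (ZMod p) (mv t) :=
    ⟨Nat.find hexm, Nat.find_spec hexm, fun t ht h2 h1 => Nat.find_le ⟨t, ht, h2, h1, rfl⟩⟩
  have hm2 : 2 * m < finrank (ZMod p) P := by have := hmin t₀ ht₀ ht₀2 ht₀1; omega
  let T : Set (V ≃ₗ[ZMod p] V) := {t | t ∈ L ∧ t * t = 1 ∧ t ≠ 1 ∧ finrank (ZMod p) (mv t) = m}
  let Tf := T.toFinite.toFinset
  have hTf : ∀ {t}, t ∈ Tf ↔ t ∈ L ∧ t * t = 1 ∧ t ≠ 1 ∧ finrank (ZMod p) (mv t) = m :=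
    fun {t} => Set.Finite.mem_toFinset _
  have hn := Submodule.finrank_add_eq_of_isCompl hPF
  have hshare : ∀ s ∈ Tf, ∀ t ∈ Tf, ∃ u, u ∉ F ∧ s u = u ∧ t u = u := by
    intro s hs t ht
    by_contra hno
    push Not at hno
    have h0 : fx s ⊓ fx t ≤ F := by
      intro u hu
      by_contra huF
      exact hno u huF (mem_fx.1 hu.1) (mem_fx.1 hu.2)
    have h1 := Submodule.finrank_mono h0
    have h2 := Submodule.finrank_sup_add_finrank_inf_eq (fx s) (fx t)
    have h3 := Submodule.finrank_le (fx s ⊔ fx t)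
    have h4 := finrank_fx_add_mv s
    have h5 := finrank_fx_add_mv t
    have h6 := (hTf.1 hs).2.2.2
    have h7 := (hTf.1 ht).2.2.2
    omega
  have hTc : ∀ s ∈ Tf, ∀ t ∈ Tf, s * t = t * s := by
    intro s hs t ht
    obtain ⟨u, hu, h1, h2⟩ := hshare s hs t ht
    exact hcom s (hTf.1 hs).1 t (hTf.1 ht).1 u hu h1 h2
  have hTd : ∀ s ∈ Tf, ∀ t ∈ Tf, s ≠ t → mv s ⊓ mv t = ⊥ := by
    intro s hs t ht hst
    by_contra hne
    obtain ⟨u, hu, h1, h2⟩ := hshare s hs t ht
    obtain ⟨hsL, hs2, hs1, hsm⟩ := hTf.1 hs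
    obtain ⟨htL, ht2, ht1, htm⟩ := hTf.1 ht
    obtain ⟨c, hc, hc2, hc1, hle⟩ := hmeet s hsL t htL u hu h1 h2 hne
    have h3 := hmin c hc hc2 hc1
    have e1 : mv s ⊓ mv t = mv s := Submodule.eq_of_le_of_finrank_le inf_le_left (by omega)
    have e2 : mv s ⊓ mv t = mv t := Submodule.eq_of_le_of_finrank_le inf_le_right (by omega)
    exact hst (eq_of_mv_eq hp2 hs2 ht2 (hTc s hs t ht) (e1.symm.trans e2))
  -- a nonzero vector in each moved space
  have hu_ex : ∀ t : V ≃ₗ[ZMod p] V, ∃ u, t ∈ Tf → u ∈ mv t ∧ u ≠ 0 := by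
    intro t
    by_cases ht : t ∈ Tf
    · have : mv t ≠ ⊥ := fun e => (hTf.1 ht).2.2.1 (eq_one_of_mv e)
      obtain ⟨u, hu, hu0⟩ := Submodule.exists_mem_ne_zero_of_ne_bot this
      exact ⟨u, fun _ => ⟨hu, hu0⟩⟩
    · exact ⟨0, fun h => absurd h ht⟩
  choose u hu using hu_ex
  have hfixu : ∀ s ∈ Tf, ∀ t ∈ Tf, s ≠ t → ∀ z ∈ mv s, t z = z := by
    intro s hs t ht hst z hz
    have : t z - z ∈ mv s ⊓ mv t :=
      ⟨(mv s).sub_mem (apply_mem_mv_of_commute (hTc s hs t ht) hz) hz, sub_mem_mv z⟩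
    rw [hTd s hs t ht hst] at this
    exact sub_eq_zero.1 ((Submodule.mem_bot _).1 this)
  let UN : Submodule (ZMod p) V := ⨆ t ∈ Tf, mv t
  let FX : Submodule (ZMod p) V := ⨅ t ∈ Tf, fx t
  have hUNP : UN ≤ P := iSup₂_le fun t ht => hmv t (hTf.1 ht).1
  have htop : FX ⊔ UN = ⊤ := by
    let K := Subgroup.closure T
    have hKL : K ≤ L := (Subgroup.closure_le L).2 fun t ht => ht.1
    have hKc := isCompl_fixed_moved K fun h => hdvd (h.trans (Subgroup.card_dvd_of_le hKL))
    refine top_le_iff.1 (hKc.sup_eq_top.ge.trans (sup_le_sup ?_ ?_))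
    · exact le_iInf₂ fun t ht => iInf₂_le t (Subgroup.subset_closure (hTf.1 ht))
    · refine iSup₂_le fun g hg => ?_
      induction hg using Subgroup.closure_induction with
      | mem t ht => exact le_iSup₂_of_le t (hTf.2 ht) le_rfl
      | one => rw [mv_eq_bot_iff.2 rfl]; exact bot_le
      | mul g h _ _ hg hh =>
        intro y hy
        obtain ⟨z, rfl⟩ := mem_mv.1 hy
        rw [LinearEquiv.mul_apply, show g (h z) - z = (g (h z) - h z) + (h z - z) by abel]
        exact Submodule.add_mem _ (hg (sub_mem_mv _)) (hh (sub_mem_mv _))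
      | inv g _ hg =>
        intro y hy
        obtain ⟨z, rfl⟩ := mem_mv.1 hy
        have h1 := hg (sub_mem_mv (g⁻¹ z))
        rw [apply_inv_self] at h1
        rw [← neg_sub]
        exact Submodule.neg_mem _ h1
  let WN : Submodule (ZMod p) V := FX ⊓ P
  have hFX : FX = WN ⊔ F := by
    show FX = FX ⊓ P ⊔ F
    rw [inf_sup_assoc_of_le P (le_iInf₂ fun t ht z hz => mem_fx.2 (hfix t (hTf.1 ht).1 z hz) : F ≤ FX),
      hPF.sup_eq_top, inf_top_eq]
  let K₀ := fixing L (UN : Set V)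
  have ht₁T : t₁ ∈ Tf := hTf.2 ⟨ht₁, ht₁2, ht₁1, ht₁m⟩
  have hmemUN : ∀ t ∈ Tf, mv t ≤ UN := fun t ht => le_iSup₂_of_le t ht le_rfl
  have hK₀sq : ∀ k ∈ K₀, k * k = 1 := fun k hk => hsq k hk.1 (u t₁)
    (hnF (hmv t₁ ht₁ (hu t₁ ht₁T).1) (hu t₁ ht₁T).2) (hk.2 _ (hmemUN t₁ ht₁T (hu t₁ ht₁T).1))
  have hconjT : ∀ k ∈ L, ∀ t ∈ Tf, k * t * k⁻¹ ∈ Tf := by
    intro k hk t ht
    obtain ⟨htL, ht2, ht1, htm⟩ := hTf.1 ht
    refine hTf.2 ⟨L.mul_mem (L.mul_mem hk htL) (L.inv_mem hk), ?_, ?_, ?_⟩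
    · rw [show k * t * k⁻¹ * (k * t * k⁻¹) = k * (t * t) * k⁻¹ by group, ht2]; group
    · intro e
      rw [mul_inv_eq_one, mul_eq_left] at e
      exact ht1 e
    · rw [mv_conj, ← htm]
      exact LinearEquiv.finrank_map_eq k (mv t)
  have hK₀c : ∀ k ∈ K₀, ∀ t ∈ Tf, t * k = k * t := by
    intro k hk t ht
    by_contra hne
    have hne' : k * t * k⁻¹ ≠ t := fun e => hne (by
      calc t * k = (k * t * k⁻¹) * k := by rw [e]
        _ = k * t := by group)
    obtain ⟨h1, h2⟩ := hu t ht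
    refine h2 ((Submodule.mem_bot _).1 (hTd _ (hconjT k hk.1 t ht) t ht hne' ▸
      Submodule.mem_inf.2 ⟨?_, h1⟩))
    rw [mv_conj]
    exact ⟨u t, h1, hk.2 _ (hmemUN t ht h1)⟩
  obtain ⟨w, hwW, hw0, hgen⟩ := exists_generic hp2 K₀ hK₀sq WN fun k hk z hz => by
    refine ⟨?_, apply_mem_of_mv_le (hmv k hk.1) hz.2⟩
    have hz1 := hz.1
    simp only [FX, SetLike.mem_coe, Submodule.mem_iInf] at hz1 ⊢
    exact fun t ht => apply_mem_fx_of_commute (hK₀c k hk t ht) (hz1 t ht)
  have htw : ∀ t ∈ Tf, t w = w := by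
    intro t ht
    have h1 := hwW.1
    simp only [FX, SetLike.mem_coe, Submodule.mem_iInf] at h1
    exact mem_fx.1 (h1 t ht)
  obtain ⟨v₀, hv₀⟩ : ∃ v₀, v₀ = ∑ t ∈ Tf, u t + w := ⟨_, rfl⟩
  have hpick : ∀ t ∈ Tf, t v₀ - v₀ = -(u t + u t) := by
    intro t ht
    have h1 : ∑ s ∈ Tf, (t (u s) - u s) = t (u t) - u t :=
      Finset.sum_eq_single t (fun s hs hst => by rw [hfixu s hs t ht hst _ (hu s hs).1, sub_self])
        (fun h => absurd ht h)
    rw [hv₀, map_add, htw t ht, add_sub_add_right_eq_sub, map_sum, ← Finset.sum_sub_distrib, h1,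
      apply_mv_neg (hTf.1 ht).2.1 (hu t ht).1]
    abel
  have hv₀P : v₀ ∈ P := hv₀ ▸ P.add_mem
    (Submodule.sum_mem _ fun t ht => hmv t (hTf.1 ht).1 (hu t ht).1) hwW.2
  have hv₀0 : v₀ ≠ 0 := by
    intro e
    have := hpick t₁ ht₁T
    rw [e, map_zero, sub_zero, zero_eq_neg] at this
    exact (hu t₁ ht₁T).2 (eq_zero_of_double hp2 this)
  obtain ⟨k, hk, hkv, hk1⟩ : ∃ k ∈ L, k v₀ = v₀ ∧ k ≠ 1 := by
    by_contra hno
    push Not at hno
    exact hx2 (hL.sq_eq_one_of_regular hno hx)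
  have hk2 : k * k = 1 := hsq k hk v₀ (hnF hv₀P hv₀0) hkv
  have hkinv : k⁻¹ = k := inv_eq_of_mul_eq_one_right hk2
  have hσu : ∀ t ∈ Tf, k (u t) = u (k * t * k⁻¹) := by
    intro t ht
    have h1 := hpick _ (hconjT k hk t ht)
    rw [LinearEquiv.mul_apply, LinearEquiv.mul_apply, hkinv, hkv] at h1
    rw [show k (t v₀) - v₀ = k (t v₀ - v₀) by rw [map_sub, hkv], hpick t ht, map_neg, map_add,
      neg_inj] at h1
    refine sub_eq_zero.1 (eq_zero_of_double hp2 ?_)
    rw [hkinv]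
    linear_combination (norm := module) h1
  have hσσ : ∀ t : V ≃ₗ[ZMod p] V, k * (k * t * k⁻¹) * k⁻¹ = t := by
    intro t
    rw [hkinv, ← mul_assoc, ← mul_assoc, hk2, one_mul, mul_assoc, hk2, mul_one]
  have hkw : k w = w := by
    have h1 : k (∑ t ∈ Tf, u t) = ∑ t ∈ Tf, u t := by
      rw [map_sum, Finset.sum_congr rfl fun t ht => hσu t ht]
      exact Finset.sum_nbij' (fun t => k * t * k⁻¹) (fun t => k * t * k⁻¹)
        (fun t ht => hconjT k hk t ht) (fun t ht => hconjT k hk t ht) (fun t _ => hσσ t)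
        (fun t _ => hσσ t) (fun t _ => rfl)
    rw [hv₀, map_add, h1] at hkv
    exact add_left_cancel hkv
  have hkc : ∀ t ∈ Tf, k * t * k⁻¹ = t := by
    intro t ht
    by_contra hne
    have hcomm' : k * t = t * k → False := fun e => hne (by rw [e, mul_assoc, mul_inv_cancel, mul_one])
    obtain ⟨htL, ht2, -, htm⟩ := hTf.1 ht
    by_cases hwz : w = 0
    · have hWN : WN = ⊥ := by
        by_contra h
        exact hw0 h hwz
      by_cases hi : ∃ i ∈ Tf, i ≠ t ∧ i ≠ k * t * k⁻¹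
      · obtain ⟨i, hi, hit, hit'⟩ := hi
        have hi' := hconjT k hk i hi
        have hne2 : k * i * k⁻¹ ≠ t := fun e => hit' (by rw [← e, hσσ])
        refine hcomm' (hcom k hk t htL (u i + u (k * i * k⁻¹)) (hnF ?_ ?_) ?_ ?_)
        · exact P.add_mem (hmv i (hTf.1 hi).1 (hu i hi).1) (hmv _ (hTf.1 hi').1 (hu _ hi').1)
        · intro e
          by_cases hii : k * i * k⁻¹ = i
          · rw [hii] at e
            exact (hu i hi).2 (eq_zero_of_double hp2 e)
          · have h1 := congrArg (fun z => i z) e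
            simp only [map_add, map_zero, apply_mv_neg (hTf.1 hi).2.1 (hu i hi).1,
              hfixu _ hi' i hi hii _ (hu _ hi').1] at h1
            refine (hu i hi).2 (eq_zero_of_double hp2 ?_)
            linear_combination (norm := module) e - h1
        · rw [map_add, hσu i hi, hσu _ hi', hσσ, add_comm]
        · rw [map_add, hfixu i hi t ht hit _ (hu i hi).1, hfixu _ hi' t ht hne2 _ (hu _ hi').1]
      · push Not at hi
        rw [hFX, hWN, bot_sup_eq] at htop
        have hPU : P ≤ UN := by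
          intro z hz
          obtain ⟨z1, hz1, z2, hz2, rfl⟩ := Submodule.mem_sup.1 (htop.ge (Submodule.mem_top (x := z)))
          have : z1 ∈ P := by
            have := P.sub_mem hz (hUNP hz2)
            rwa [add_sub_cancel_right] at this
          have h0 : z1 ∈ P ⊓ F := Submodule.mem_inf.2 ⟨this, hz1⟩
          rw [hPF.inf_eq_bot, Submodule.mem_bot] at h0
          rw [h0, zero_add]
          exact hz2
        have hle : UN ≤ mv t ⊔ mv (k * t * k⁻¹) := iSup₂_le fun i hi' => by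
          by_cases e : i = t
          · subst e; exact le_sup_left
          · rw [hi i hi' e]; exact le_sup_right
        have h1 := Submodule.finrank_mono (hPU.trans hle)
        have h2 := Submodule.finrank_sup_add_finrank_inf_eq (mv t) (mv (k * t * k⁻¹))
        have h3 := (hTf.1 (hconjT k hk t ht)).2.2.2
        omega
    · exact hcomm' (hcom k hk t htL w (hnF hwW.2 hwz) hkw (htw t ht))
  have hkU : ∀ t ∈ Tf, ∀ z ∈ mv t, k z = z := by
    intro t ht z hz
    obtain ⟨htL, ht2, -, htm⟩ := hTf.1 ht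
    have hct : t * k = k * t := by
      calc t * k = (k * t * k⁻¹) * k := by rw [hkc t ht]
        _ = k * t := by group
    have hku : k (u t) = u t := by rw [hσu t ht, hkc t ht]
    by_contra hzk
    have hne : mv k ⊓ mv t ≠ ⊥ := fun e => hzk (sub_eq_zero.1 ((Submodule.mem_bot _).1 (e ▸
      Submodule.mem_inf.2 ⟨sub_mem_mv z, (mv t).sub_mem (apply_mem_mv_of_commute hct hz) hz⟩)))
    obtain ⟨c, hc, hc2, hc1, hle⟩ : ∃ c ∈ L, c * c = 1 ∧ c ≠ 1 ∧
        finrank (ZMod p) (mv c) ≤ finrank (ZMod p) (mv k ⊓ mv t : Submodule _ V) := by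
      -- a vector outside `F` fixed by both
      by_cases hy : ∃ y, y ∉ F ∧ k y = y ∧ t y = y
      · obtain ⟨y, hy, h1, h2⟩ := hy
        exact hmeet k hk t htL y hy h1 h2 hne
      · push Not at hy
        obtain ⟨c, hc, hc1, hc2, hc3⟩ := hL.xy hk htL
        obtain ⟨d, hd, hd0⟩ := Submodule.exists_mem_ne_zero_of_ne_bot hne
        rw [Submodule.mem_inf] at hd
        refine ⟨c, hc, hsq c hc v₀ (hnF hv₀P hv₀0) (mem_fx.1 (hc1 (mem_fx.2 hkv))), ?_, ?_⟩
        · rintro rfl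
          have := hc3 d (by rw [apply_mv_neg hk2 hd.1, apply_mv_neg ht2 hd.2])
          rw [apply_mv_neg hk2 hd.1] at this
          exact hd0 (eq_zero_of_neg hp2 this)
        · have h1 := finrank_fx_add_mv c
          have h2 : fx c ⊔ (mv k ⊓ mv t) = ⊤ :=
            top_le_iff.1 ((codisjoint_of_commute hp2 hk2 ht2 hct.symm).ge.trans
              (sup_le_sup_right (sup_le hc1 hc2) _))
          have h3 := Submodule.finrank_sup_add_finrank_inf_eq (fx c) (mv k ⊓ mv t)
          rw [h2, finrank_top] at h3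
          omega
    have h1 := hmin c hc hc2 hc1
    have e : mv k ⊓ mv t = mv t := Submodule.eq_of_le_of_finrank_le inf_le_right (by omega)
    have hin : u t ∈ mv k := (e.symm ▸ (hu t ht).1 : u t ∈ mv k ⊓ mv t).1
    exact (hu t ht).2 (fx_inf_mv hp2 hk2 (mem_fx.2 hku) hin)
  have hUfix : UN ≤ fx k := iSup₂_le fun t ht z hz => mem_fx.2 (hkU t ht z hz)
  have hkK : k ∈ K₀ := ⟨hk, fun z hz => mem_fx.1 (hUfix hz)⟩
  have hWfix := hgen k hkK hkw
  refine hk1 (eq_one_of_fx (top_le_iff.1 (htop.ge.trans (sup_le ?_ hUfix))))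
  rw [hFX]
  exact sup_le hWfix fun z hz => mem_fx.2 (hfix k hk z hz)

theorem plane_of_rigid_odd (hp2 : p ≠ 2) {L : Subgroup (V ≃ₗ[ZMod p] V)} {F : Submodule (ZMod p) V}
    (hL : LBin L) (hfix : ∀ g ∈ L, ∀ v ∈ F, g v = v) (hrig : ∀ g ∈ L, g * g ≠ 1 → fx g = F)
    {x : V ≃ₗ[ZMod p] V} (hx : x ∈ L) (hx2 : x * x ≠ 1) :
    ∃ C P f, Plane L C F P f := by
  classical
  haveI := finite_aut (p := p) (V := V)
  set P : Submodule (ZMod p) V := ⨆ g ∈ L, mv g with hP
  have hfixed : (⨅ g ∈ L, fx g) = F :=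
    le_antisymm ((iInf₂_le x hx).trans (hrig x hx hx2).le)
      (le_iInf₂ fun g hg v hv => mem_fx.2 (hfix g hg v hv))
  have hPF : IsCompl P F := by
    have := (isCompl_fixed_moved L (hL.not_dvd_card hp2)).symm
    rwa [hfixed] at this
  have hmv : ∀ g ∈ L, mv g ≤ P := fun g hg => le_iSup₂_of_le g hg le_rfl
  have huniq : ∀ v, v ∉ F → ∀ a ∈ L, ∀ b ∈ L, a v = v → b v = v → a ≠ 1 → b ≠ 1 → a = b :=
    fun v hv a ha b hb => stab_unique hp2 hL hfix hrig hPF hmv hx hx2 hv ha hb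
  have hnF : ∀ {u : V}, u ∈ P → u ≠ 0 → u ∉ F := fun {u} h1 h2 h3 =>
    h2 ((Submodule.mem_bot _).1 (hPF.inf_eq_bot ▸ Submodule.mem_inf.2 ⟨h1, h3⟩))
  have hstab : ∀ v ∈ P, v ≠ 0 → ∃ a ∈ L, a v = v ∧ a ≠ 1 := by
    intro v hv hv0
    by_contra hno
    push Not at hno
    exact hx2 (hL.sq_eq_one_of_regular hno hx)
  -- the involutions with fixed vectors outside `F`
  let R : (V ≃ₗ[ZMod p] V) → Prop := fun a => a ∈ L ∧ a ≠ 1 ∧ ∃ v ∈ P, v ≠ 0 ∧ a v = v
  have hRsq : ∀ a, R a → a * a = 1 := by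
    rintro a ⟨ha, -, v, hv, hv0, hav⟩
    by_contra hne
    exact hnF hv hv0 (hrig a ha hne ▸ mem_fx.2 hav)
  have hrel : ∀ β ∈ L, β * β ≠ 1 → ∀ t, R t → t * β * t = β⁻¹ ∨ β * β = t := by
    rintro β hβ hβ2 t hRt
    obtain ⟨ht, ht1, y, hy, hy0, hty⟩ := id hRt
    obtain ⟨g, hg, h1, h2⟩ := hL.swap hβ y
    have htt := hRsq t hRt
    have htinv : t⁻¹ = t := inv_eq_of_mul_eq_one_right htt
    have hsel : ∀ c ∈ L, c y = y → c = 1 ∨ c = t := fun c hc hcy =>
      or_iff_not_imp_left.2 fun hc1 => huniq y (hnF hy hy0) c hc t ht hcy hty hc1 ht1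
    have hg2 : g * g = 1 ∨ g * g = t :=
      hsel _ (L.mul_mem hg hg) (by rw [LinearEquiv.mul_apply, h1, h2])
    rcases hsel (β⁻¹ * g) (L.mul_mem (L.inv_mem hβ) hg)
      (by rw [LinearEquiv.mul_apply, h1, inv_apply_self]) with e | e
    · rw [inv_mul_eq_one] at e
      subst e
      exact Or.inr (hg2.resolve_left hβ2)
    · rw [inv_mul_eq_iff_eq_mul] at e
      subst e
      rcases hg2 with e | e
      · left
        rw [eq_inv_iff_mul_eq_one]
        calc t * β * t * β = t * ((β * t) * (β * t)) * t⁻¹ := by group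
          _ = 1 := by rw [e]; group
      · right
        have : β * t * β = 1 := by
          calc β * t * β = (β * t) * (β * t) * t⁻¹ := by group
            _ = 1 := by rw [e]; group
        have h3 : t = β⁻¹ * β⁻¹ := by
          calc t = β⁻¹ * (β * t * β) * β⁻¹ := by group
            _ = _ := by rw [this, mul_one]
        rw [← htinv, h3, mul_inv_rev, inv_inv]
  have hinv : ∀ β ∈ L, β * β ≠ 1 → ∀ t, R t → t * β * t = β⁻¹ := by
    intro β hβ hβ2 t hRt
    refine (hrel β hβ hβ2 t hRt).resolve_right fun he => ?_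
    obtain ⟨ht, ht1, w, hw, hw0, htw⟩ := id hRt
    have htt := hRsq t hRt
    have : mv t ≠ ⊥ := fun e => ht1 (eq_one_of_mv e)
    obtain ⟨z, hz, hz0⟩ := Submodule.exists_mem_ne_zero_of_ne_bot this
    have hvne : z + w ≠ 0 := by
      intro e
      refine hz0 (fx_inf_mv hp2 htt ?_ hz)
      rw [eq_neg_of_add_eq_zero_left e]
      exact (fx t).neg_mem (mem_fx.2 htw)
    obtain ⟨a, ha, hav, ha1⟩ := hstab (z + w) (P.add_mem (hmv t ht hz) hw) hvne
    have hRa : R a := ⟨ha, ha1, z + w, P.add_mem (hmv t ht hz) hw, hvne, hav⟩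
    have hat : a ≠ t := by
      intro e
      rw [e, map_add, htw, add_left_inj] at hav
      exact hz0 (fx_inf_mv hp2 htt (mem_fx.2 hav) hz)
    have h1 : a * β * a = β⁻¹ :=
      (hrel β hβ hβ2 a hRa).resolve_right fun e => hat (e.symm.trans he)
    have haa := hRsq a hRa
    have hc : a * t * a = t := by
      calc a * t * a = a * (β * β) * a := by rw [he]
        _ = (a * β * a) * (a⁻¹ * a⁻¹) * (a * β * a) := by group
        _ = β⁻¹ * β⁻¹ := by rw [h1, inv_eq_of_mul_eq_one_right haa, haa, mul_one]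
        _ = t := by
          rw [← mul_inv_rev, he, inv_eq_of_mul_eq_one_right htt]
    have hc' : t * a = a * t := by
      calc t * a = (a * t * a) * a := by rw [hc]
        _ = a * t := by rw [mul_assoc, haa, mul_one]
    have hfw : a w = w := by
      refine sub_eq_zero.1 (fx_inf_mv hp2 htt
        ((fx t).sub_mem (apply_mem_fx_of_commute hc' (mem_fx.2 htw)) (mem_fx.2 htw)) ?_)
      rw [map_add] at hav
      rw [show a w - w = -(a z - z) by linear_combination (norm := module) hav]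
      exact (mv t).neg_mem ((mv t).sub_mem (apply_mem_mv_of_commute hc' hz) hz)
    exact hat (huniq w (hnF hw hw0) a ha t ht hfw htw ha1 ht1)
  -- the other involutions are central
  have hcent : ∀ δ ∈ L, δ * δ = 1 → ¬ R δ → ∀ g ∈ L, δ * g = g * δ := by
    intro δ hδ hδ2 hnR g hg
    by_cases hδ1 : δ = 1
    · rw [hδ1, one_mul, mul_one]
    have hneg : ∀ v ∈ P, δ v = -v := by
      intro v hv
      by_contra hne
      refine hnR ⟨hδ, hδ1, v + δ v, P.add_mem hv (apply_mem_of_mv_le (hmv δ hδ) hv),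
        fun e => hne (eq_neg_of_add_eq_zero_right e), ?_⟩
      rw [map_add, ← LinearEquiv.mul_apply, hδ2, LinearEquiv.coe_one, id_eq, add_comm]
    refine LinearEquiv.ext fun v => ?_
    obtain ⟨y, hy, z, hz, rfl⟩ := Submodule.mem_sup.1 (hPF.sup_eq_top.ge (Submodule.mem_top (x := v)))
    simp only [LinearEquiv.mul_apply, map_add, hneg y hy, hfix _ hδ z hz, hfix _ hg z hz, map_neg,
      hneg _ (apply_mem_of_mv_le (hmv g hg) hy)]
  obtain ⟨r, hRr⟩ : ∃ r, R r := by
    have hx1 : x ≠ 1 := fun e => hx2 (by rw [e, one_mul])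
    obtain ⟨v, hv, hv0⟩ := Submodule.exists_mem_ne_zero_of_ne_bot
      (fun e => hx1 (eq_one_of_mv (le_bot_iff.1 (e ▸ hmv x hx))) : P ≠ ⊥)
    obtain ⟨a, ha, hav, ha1⟩ := hstab v hv hv0
    exact ⟨a, ha, ha1, v, hv, hv0, hav⟩
  have hnon : ∀ β ∈ L, ∀ γ ∈ L, β * β ≠ 1 → γ * γ ≠ 1 → β * γ = γ * β := by
    intro β hβ γ hγ hb hc
    by_cases hd : β * γ * (β * γ) = 1
    · by_cases hR : R (β * γ)
      · exfalso
        have h1 := hinv β hβ hb _ hR
        have h2 : β * γ * β = γ := by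
          calc β * γ * β = (β * γ * β * (β * γ)) * (β * γ)⁻¹ := by group
            _ = γ := by
              rw [h1, inv_eq_of_mul_eq_one_right hd]; group
        apply hc
        calc γ * γ = β * γ * β * γ := by rw [h2]
          _ = 1 := by rw [mul_assoc _ β γ, hd]
      · have := hcent _ (L.mul_mem hβ hγ) hd hR β hβ
        calc β * γ = β⁻¹ * (β * (β * γ)) := by group
          _ = β⁻¹ * (β * γ * β) := by rw [this]
          _ = γ * β := by group
    · have h1 := hinv _ (L.mul_mem hβ hγ) hd r hRr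
      have hr2 := hRsq r hRr
      have h2 : r * (β * γ) * r = (r * β * r) * (r * γ * r) := by
        calc r * (β * γ) * r = r * β * 1 * (γ * r) := by group
          _ = (r * β * r) * (r * γ * r) := by rw [← hr2]; group
      rw [h2, hinv β hβ hb r hRr, hinv γ hγ hc r hRr, mul_inv_rev] at h1
      have h3 := congrArg (·⁻¹) h1
      simpa using h3.symm
  let C : Subgroup (V ≃ₗ[ZMod p] V) :=
    { carrier := {g | g ∈ L ∧ g * x = x * g}
      one_mem' := ⟨L.one_mem, by rw [one_mul, mul_one]⟩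
      mul_mem' := fun {a b} ha hb => ⟨L.mul_mem ha.1 hb.1, by
        rw [mul_assoc, hb.2, ← mul_assoc, ha.2, mul_assoc]⟩
      inv_mem' := fun {a} ha => ⟨L.inv_mem ha.1, by
        rw [inv_mul_eq_iff_eq_mul, ← mul_assoc, eq_mul_inv_iff_mul_eq, ha.2]⟩ }
  have hC : ∀ g, g ∈ C ↔ g ∈ L ∧ g * x = x * g := fun g => Iff.rfl
  have hRC : ∀ t, R t → t ∉ C := by
    intro t ht hc
    refine hx2 (mul_eq_one_iff_eq_inv.2 ?_)
    rw [← hinv x hx hx2 t ht, ((hC t).1 hc).2, mul_assoc, hRsq t ht, mul_one]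
  have hout : ∀ g ∈ L, g ∉ C → R g := by
    intro g hg hgC
    by_contra hR
    by_cases h2 : g * g = 1
    · exact hgC ⟨hg, hcent g hg h2 hR x hx⟩
    · exact hgC ⟨hg, hnon g hg x hx h2 hx2⟩
  have hCc : ∀ c ∈ C, c * c = 1 → ∀ g ∈ L, c * g = g * c := fun c hc h2 =>
    hcent c hc.1 h2 fun hR => hRC c hR hc
  obtain ⟨f, hf⟩ := plane_of_core (C := C) hL hPF hfix hmv (fun g hg => hg.1)
    (fun a ha b hb => by
      by_cases h1 : a * a = 1
      · exact hCc a ha h1 b hb.1
      · by_cases h2 : b * b = 1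
        · exact (hCc b hb h2 a ha.1).symm
        · exact hnon a ha.1 b hb.1 h1 h2)
    (fun c hc hc1 => by
      by_cases h2 : c * c = 1
      · refine le_antisymm (fun v hv => ?_) fun v hv => mem_fx.2 (hfix c hc.1 v hv)
        obtain ⟨y, hy, z, hz, rfl⟩ := Submodule.mem_sup.1 (hPF.sup_eq_top.ge (Submodule.mem_top (x := v)))
        rw [mem_fx, map_add, hfix c hc.1 z hz, add_left_inj] at hv
        have : y = 0 := by
          by_contra hy0
          exact hRC c ⟨hc.1, hc1, y, hy, hy0, hv⟩ hc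
        rw [this, zero_add]
        exact hz
      · exact hrig c hc.1 h2)
    (fun t ht ht' => hRsq t (hout t ht ht'))
    (fun t ht ht' c hc => by
      by_cases h2 : c * c = 1
      · rw [← hCc c hc h2 t ht, mul_assoc, hRsq t (hout t ht ht'), mul_one,
          inv_eq_of_mul_eq_one_right h2]
      · exact hinv c hc.1 h2 t (hout t ht ht'))
    (fun s hs t ht hs' ht' => (hC _).2 ⟨L.mul_mem hs ht, by
      have h1 := hinv x hx hx2 s (hout s hs hs')
      have h2 := hinv x hx hx2 t (hout t ht ht')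
      have hs2 := hRsq s (hout s hs hs')
      have ht2 := hRsq t (hout t ht ht')
      have e1 : ∀ a : V ≃ₗ[ZMod p] V, a * a = 1 → a * x * a = x⁻¹ → a * x = x⁻¹ * a :=
        fun a ha h => by rw [← h, mul_assoc (a * x), ha, mul_one]
      have e2 : s * x⁻¹ = x * s := by
        have := e1 s hs2 h1
        calc s * x⁻¹ = x * (x⁻¹ * s) * x⁻¹ := by group
          _ = x * s := by rw [← this]; group
      rw [mul_assoc, e1 t ht2 h2, ← mul_assoc, e2, mul_assoc]⟩)
    ⟨r, hRr.1, hRC r hRr⟩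
    (fun t ht ht' => by
      -- `x - x⁻¹` maps the moved space injectively into the fixed one
      have ht2 := hRsq t (hout t ht ht')
      have h1 := hinv x hx hx2 t (hout t ht ht')
      have hts : ∀ z, t (x z) = x⁻¹ (t z) := by
        intro z
        have : t * x = x⁻¹ * t := by rw [← h1, mul_assoc (t * x), ht2, mul_one]
        exact LinearEquiv.congr_fun this z
      have hts' : ∀ z, t (x⁻¹ z) = x (t z) := by
        intro z
        have := hts (x⁻¹ z)
        rw [apply_inv_self] at this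
        rw [this, apply_inv_self]
      let d : V →ₗ[ZMod p] V := (x : V →ₗ[ZMod p] V) - ((x⁻¹ : V ≃ₗ[ZMod p] V) : V →ₗ[ZMod p] V)
      have hd : ∀ z ∈ mv t, d z ∈ fx t ⊓ P := by
        intro z hz
        refine ⟨mem_fx.2 ?_, ?_⟩
        · show t (x z - x⁻¹ z) = x z - x⁻¹ z
          rw [map_sub, hts, hts', apply_mv_neg ht2 hz, map_neg, map_neg]
          abel
        · show x z - x⁻¹ z ∈ P
          exact P.sub_mem (apply_mem_of_mv_le (hmv x hx) (hmv t ht hz))
            (apply_mem_of_mv_le (hmv _ (L.inv_mem hx)) (hmv t ht hz))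
      let D : mv t →ₗ[ZMod p] (fx t ⊓ P : Submodule (ZMod p) V) :=
        (d.domRestrict (mv t)).codRestrict _ fun z => hd z.1 z.2
      have hinj : Function.Injective D := by
        rw [injective_iff_map_eq_zero]
        intro z hz
        have hz' : x z.1 - x⁻¹ z.1 = 0 := congrArg Subtype.val hz
        refine Subtype.ext ?_
        by_contra hz0
        have : (x * x) z.1 = z.1 := by
          rw [LinearEquiv.mul_apply, sub_eq_zero.1 hz', apply_inv_self]
        have h4 : (x * x) * (x * x) ≠ 1 := by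
          intro h4
          exact hRC (x * x) ⟨L.mul_mem hx hx, hx2, z.1, hmv t ht z.2, hz0, this⟩
            ⟨L.mul_mem hx hx, by group⟩
        exact absurd (hrig _ (L.mul_mem hx hx) h4 ▸ mem_fx.2 this) (hnF (hmv t ht z.2) hz0)
      have h2 := LinearMap.finrank_le_finrank_of_injective hinj
      have h3 := (fx_eq_sup hPF fun v hv => mem_fx.2 (hfix t ht v hv)).2
      have h4 := finrank_fx_add_mv t
      have h5 := Submodule.finrank_add_eq_of_isCompl hPF
      omega)
    (x := x) ⟨hx, rfl⟩ hx2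
  exact ⟨C, P, f, hf⟩

end CfsgLib.Perm.BinAff
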