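import Cfsg.Agent.Lib.Perm.BinaryAffine.RigidTwo
import Cfsg.Agent.Lib.Perm.BinaryAffine.RigidOdd
import Cfsg.Agent.Lib.Perm.BinaryAffine.Irred

/-!
# The planes of a binary group that is not rigid

`d` is the largest dimension of a fixed space of an element that is not an involution; each such
space carries a plane with the same `f`, and two non-commuting reflections span one.
-/

set_option autoImplicit false
set_option linter.all false

namespace CfsgLib.Perm.BinAff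

open Module

variable {p : ℕ} {V : Type*} [AddCommGroup V] [Module (ZMod p) V] [Fact p.Prime] [Finite V]
  {H : Subgroup (V ≃ₗ[ZMod p] V)} {d f : ℕ}

/-- No proper non-zero subspace is invariant. -/
def Irr (H : Subgroup (V ≃ₗ[ZMod p] V)) : Prop :=
  ∀ U : Submodule (ZMod p) V, (∀ g ∈ H, ∀ u ∈ U, g u ∈ U) → U = ⊥ ∨ U = ⊤

/-- Every element that is not an involution is fixed point free. -/
def Rigid (H : Subgroup (V ≃ₗ[ZMod p] V)) : Prop := ∀ g ∈ H, g * g ≠ 1 → fx g = ⊥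

theorem plane_of_rigid {L : Subgroup (V ≃ₗ[ZMod p] V)} {F : Submodule (ZMod p) V}
    (hL : LBin L) (hfix : ∀ g ∈ L, ∀ v ∈ F, g v = v) (hrig : ∀ g ∈ L, g * g ≠ 1 → fx g = F)
    {x : V ≃ₗ[ZMod p] V} (hx : x ∈ L) (hx2 : x * x ≠ 1) : ∃ C P f, Plane L C F P f := by
  by_cases hp : p = 2
  · subst hp
    exact plane_of_rigid_two hL hfix hrig hx hx2
  · exact plane_of_rigid_odd hp hL hfix hrig hx hx2

/-- The data of the maximal fixed spaces. -/
structure Ctx (H : Subgroup (V ≃ₗ[ZMod p] V)) (d f : ℕ) : Prop where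
  bin : LBin H
  fpos : 0 < f
  dpos : 0 < d
  dim : finrank (ZMod p) V = 2 * f + d
  le : ∀ g ∈ H, g * g ≠ 1 → finrank (ZMod p) (fx g) ≤ d
  plane : ∀ g ∈ H, g * g ≠ 1 → finrank (ZMod p) (fx g) = d →
    ∃ C P, Plane (fixing H (fx g : Set V)) C (fx g) P f
  exists_plane : ∃ g ∈ H, g * g ≠ 1 ∧ finrank (ZMod p) (fx g) = d

theorem exists_ctx (hH : LBin H) (hnr : ¬ Rigid H) : ∃ d f, Ctx H d f := by
  classical
  haveI := finite_aut (p := p) (V := V)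
  have hplane : ∀ d, (∀ g ∈ H, g * g ≠ 1 → finrank (ZMod p) (fx g) ≤ d) → ∀ g ∈ H, g * g ≠ 1 →
      finrank (ZMod p) (fx g) = d → ∃ C P f, Plane (fixing H (fx g : Set V)) C (fx g) P f := by
    intro d hmax g hg hg2 hgd
    refine plane_of_rigid (hH.fixing _) (fun a ha v hv => ha.2 v hv) (fun a ha ha2 => ?_)
      (x := g) ⟨hg, fun v hv => mem_fx.1 hv⟩ hg2
    refine (Submodule.eq_of_le_of_finrank_le (fun v hv => mem_fx.2 (ha.2 v hv)) ?_).symm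
    rw [hgd]
    exact hmax a ha.1 ha2
  let P0 : ℕ → Prop := fun k => ∀ g ∈ H, g * g ≠ 1 → finrank (ZMod p) (fx g) ≤ k
  have hb : ∃ k, P0 k := ⟨finrank (ZMod p) V, fun g _ _ => Submodule.finrank_le _⟩
  obtain ⟨d, hd, hdmin⟩ : ∃ d, P0 d ∧ ∀ k < d, ¬ P0 k :=
    ⟨Nat.find hb, Nat.find_spec hb, fun k hk => Nat.find_min hb hk⟩
  simp only [Rigid] at hnr
  push Not at hnr
  obtain ⟨x, hx, hx2, hx0⟩ := hnr
  have hdpos : 0 < d := lt_of_lt_of_le (Nat.pos_of_ne_zero fun e => hx0 (Submodule.finrank_eq_zero.1 e))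
    (hd x hx hx2)
  obtain ⟨g, hg, hg2, hgd⟩ : ∃ g ∈ H, g * g ≠ 1 ∧ finrank (ZMod p) (fx g) = d := by
    by_contra hno
    push Not at hno
    exact hdmin (d - 1) (by omega) fun g hg hg2 => by
      have := hd g hg hg2
      have := hno g hg hg2
      omega
  obtain ⟨C, P, f, hπ⟩ := hplane d hd g hg hg2 hgd
  have hdim : finrank (ZMod p) V = 2 * f + d := by
    rw [← Submodule.finrank_add_eq_of_isCompl hπ.compl, hπ.dim, hgd]
  refine ⟨d, f, hH, hπ.fpos, hdpos, hdim, hd, fun a ha ha2 had => ?_, g, hg, hg2, hgd⟩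
  obtain ⟨C', P', f', hπ'⟩ := hplane d hd a ha ha2 had
  have := Submodule.finrank_add_eq_of_isCompl hπ'.compl
  rw [hπ'.dim, had, hdim] at this
  obtain rfl : f' = f := by omega
  exact ⟨C', P', hπ'⟩

/-- A reflection: an involution moving a space of dimension `f`. -/
def Ref (H : Subgroup (V ≃ₗ[ZMod p] V)) (f : ℕ) (t : V ≃ₗ[ZMod p] V) : Prop :=
  t ∈ H ∧ t * t = 1 ∧ finrank (ZMod p) (mv t) = f

theorem Ref.conj {t a : V ≃ₗ[ZMod p] V} (ht : Ref H f t) (ha : a ∈ H) : Ref H f (a * t * a⁻¹) := by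
  refine ⟨H.mul_mem (H.mul_mem ha ht.1) (H.inv_mem ha), ?_, ?_⟩
  · rw [show a * t * a⁻¹ * (a * t * a⁻¹) = a * (t * t) * a⁻¹ by group, ht.2.1]
    group
  · rw [mv_conj]
    exact (LinearEquiv.finrank_map_eq a (mv t)).trans ht.2.2

theorem Ref.finrank_fx {t : V ≃ₗ[ZMod p] V} (ht : Ref H f t) :
    finrank (ZMod p) (fx t) + f = finrank (ZMod p) V := by
  have := finrank_fx_add_mv t
  rwa [ht.2.2] at this

theorem Plane.ref {F P : Submodule (ZMod p) V} {C : Subgroup (V ≃ₗ[ZMod p] V)}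
    (hπ : Plane (fixing H (F : Set V)) C F P f) {t : V ≃ₗ[ZMod p] V}
    (ht : t ∈ fixing H (F : Set V)) (ht' : t ∉ C) : Ref H f t :=
  ⟨ht.1, hπ.sq t ht ht', hπ.rank t ht ht'⟩

theorem mul_sq_of_commute {r s : V ≃ₗ[ZMod p] V} (hr : r * r = 1) (hs : s * s = 1)
    (he : r * s * (r * s) = 1) : r * s = s * r := by
  have := inv_eq_of_mul_eq_one_right he
  rw [mul_inv_rev, inv_eq_of_mul_eq_one_right hr, inv_eq_of_mul_eq_one_right hs] at this
  exact this.symm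

namespace Ctx

variable (hc : Ctx H d f)
include hc

/-- The plane of two non-commuting reflections. -/
theorem pair {r s : V ≃ₗ[ZMod p] V} (hr : Ref H f r) (hs : Ref H f s) (hne : r * s ≠ s * r) :
    ∃ C P, Plane (fixing H ((fx r ⊓ fx s : Submodule (ZMod p) V) : Set V)) C (fx r ⊓ fx s) P f ∧
      r ∈ fixing H ((fx r ⊓ fx s : Submodule (ZMod p) V) : Set V) ∧ r ∉ C ∧
      s ∈ fixing H ((fx r ⊓ fx s : Submodule (ZMod p) V) : Set V) ∧ s ∉ C ∧
      mv r ⊔ mv s = P := by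
  have h2 : r * s * (r * s) ≠ 1 := fun e => hne (mul_sq_of_commute hr.2.1 hs.2.1 e)
  have hmem : r * s ∈ H := H.mul_mem hr.1 hs.1
  have h1 := Submodule.finrank_mono (fx_inf_le_mul (g := r) (h := s))
  have h3 := Submodule.finrank_sup_add_finrank_inf_eq (fx r) (fx s)
  have h4 := Submodule.finrank_le (fx r ⊔ fx s)
  have h5 := hr.finrank_fx
  have h6 := hs.finrank_fx
  have h7 := hc.le _ hmem h2
  have h8 := hc.dim
  have hF : fx r ⊓ fx s = fx (r * s) :=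
    Submodule.eq_of_le_of_finrank_le fx_inf_le_mul (by omega)
  obtain ⟨C, P, hπ⟩ := hc.plane _ hmem h2 (by omega)
  rw [← hF] at hπ
  have hout : ∀ t, Ref H f t → t ∈ C → False := by
    intro t ht htC
    by_cases h1 : t = 1
    · have := ht.2.2
      rw [h1, mv_eq_bot_iff.2 rfl, finrank_bot] at this
      exact hc.fpos.ne this
    · have h9 := congrArg (fun U : Submodule (ZMod p) V => finrank (ZMod p) U) (hπ.fpf t htC h1)
      have := ht.finrank_fx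
      have := hc.fpos
      omega
  have hr' : r ∈ fixing H ((fx r ⊓ fx s : Submodule (ZMod p) V) : Set V) :=
    ⟨hr.1, fun v hv => mem_fx.1 hv.1⟩
  have hs' : s ∈ fixing H ((fx r ⊓ fx s : Submodule (ZMod p) V) : Set V) :=
    ⟨hs.1, fun v hv => mem_fx.1 hv.2⟩
  exact ⟨C, P, hπ, hr', hout r hr, hs', hout s hs,
    hπ.sup_eq hr' (hout r hr) hs' (hout s hs) fun e => hne (by rw [e])⟩

theorem pair_disjoint {r s : V ≃ₗ[ZMod p] V} (hr : Ref H f r) (hs : Ref H f s)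
    (hne : r * s ≠ s * r) : mv r ⊓ mv s = ⊥ := by
  obtain ⟨C, P, hπ, h1, h2, h3, h4, -⟩ := hc.pair hr hs hne
  exact hπ.disjoint h1 h2 h3 h4 fun e => hne (by rw [e])

theorem pair_commute {r s : V ≃ₗ[ZMod p] V} (hr : Ref H f r) (hs : Ref H f s) {u : V}
    (hu : u ∈ mv r) (hu0 : u ≠ 0) (hsu : s u = u) : r * s = s * r := by
  by_contra hne
  obtain ⟨C, P, hπ, h1, h2, h3, h4, -⟩ := hc.pair hr hs hne
  exact hne (hπ.commute_of_fixed h1 h2 h3 h4 hu hu0 hsu)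

theorem pair_cover {r s : V ≃ₗ[ZMod p] V} (hr : Ref H f r) (hs : Ref H f s)
    (hne : r * s ≠ s * r) {v : V} (hv : v ∈ mv r ⊔ mv s) (hv0 : v ≠ 0) :
    ∃ y, Ref H f y ∧ v ∈ mv y ∧ mv y ≤ mv r ⊔ mv s ∧
      (Odd (p ^ f + 1) → ∃ c ∈ H, c * r * c⁻¹ = y) := by
  obtain ⟨C, P, hπ, h1, h2, h3, h4, h5⟩ := hc.pair hr hs hne
  rw [h5] at hv ⊢
  obtain ⟨y, hy, hy', hvy⟩ := hπ.cover hv hv0
  refine ⟨y, hπ.ref hy hy', hvy, hπ.mv_le y hy, fun hodd => ?_⟩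
  obtain ⟨c, hc', e⟩ := hπ.conj_of_odd hodd h1 h2 hy hy'
  exact ⟨c, (hπ.le hc').1, e⟩

theorem exists_base : ∃ (C : Subgroup (V ≃ₗ[ZMod p] V)) (F P : Submodule (ZMod p) V),
    Plane (fixing H (F : Set V)) C F P f ∧ finrank (ZMod p) F = d := by
  obtain ⟨g, hg, hg2, hgd⟩ := hc.exists_plane
  obtain ⟨C, P, hπ⟩ := hc.plane g hg hg2 hgd
  exact ⟨C, _, P, hπ, hgd⟩

/-- In characteristic two an irreducible group is rigid. -/
theorem false_of_two (hirr : Irr H) (hp : p = 2) : False := by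
  subst hp
  obtain ⟨C, F, P, hπ, hFd⟩ := hc.exists_base
  obtain ⟨t₀, ht₀, ht₀'⟩ := hπ.nonempty
  have hodd : Odd (2 ^ f + 1) := ((Nat.even_pow.2 ⟨even_two, hc.fpos.ne'⟩).add_one)
  have hR₀ : Ref H f t₀ := hπ.ref ht₀ ht₀'
  have hconj : ∀ t, t ∈ fixing H (F : Set V) → t ∉ C → ∃ a ∈ H, a * t₀ * a⁻¹ = t := by
    intro t ht ht'
    obtain ⟨c, hc', e⟩ := hπ.conj_of_odd hodd ht₀ ht₀' ht ht'
    exact ⟨c, (hπ.le hc').1, e⟩
  have hdiff : ∀ a ∈ H, ∀ b ∈ H, a * t₀ * a⁻¹ ≠ b * t₀ * b⁻¹ →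
      (a * t₀ * a⁻¹) * (b * t₀ * b⁻¹) ≠ (b * t₀ * b⁻¹) * (a * t₀ * a⁻¹) := by
    intro a ha b hb hne hcm
    have hd := hR₀.conj hb
    refine hne ?_
    have := hc.bin.eq_of_conj_commute (H.mul_mem ha (H.inv_mem hb)) hd.1 hd.2.1
    rw [show a * b⁻¹ * (b * t₀ * b⁻¹) * (a * b⁻¹)⁻¹ = a * t₀ * a⁻¹ by group] at this
    exact this hcm
  -- a conjugate reaching out of the plane
  obtain ⟨g, hg, hgP⟩ : ∃ g ∈ H, ¬ mv (g * t₀ * g⁻¹) ≤ P := by
    by_contra hno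
    push Not at hno
    rcases hirr (⨆ g ∈ H, mv (g * t₀ * g⁻¹)) (fun a ha u hu => by
      have h1 : (⨆ g ∈ H, mv (g * t₀ * g⁻¹)).map (a : V →ₗ[ZMod 2] V) ≤ ⨆ g ∈ H, mv (g * t₀ * g⁻¹) := by
        simp only [Submodule.map_iSup]
        refine iSup₂_le fun g hg => ?_
        rw [← mv_conj, show a * (g * t₀ * g⁻¹) * a⁻¹ = a * g * t₀ * (a * g)⁻¹ by group]
        exact le_iSup₂_of_le (a * g) (H.mul_mem ha hg) le_rfl
      exact h1 (Submodule.mem_map_of_mem hu)) with e | e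
    · refine hπ.refl_ne_one ht₀' (eq_one_of_mv (le_bot_iff.1 (e ▸ ?_)))
      exact le_iSup₂_of_le 1 H.one_mem (by simp)
    · have h1 : (⊤ : Submodule (ZMod 2) V) ≤ P := e ▸ iSup₂_le hno
      have h2 := Submodule.finrank_mono h1
      rw [finrank_top, hπ.dim, hc.dim] at h2
      have := hc.dpos
      omega
  set r := g * t₀ * g⁻¹ with hr
  have hRr : Ref H f r := hR₀.conj hg
  have hnc : ∀ x, x ∈ fixing H (F : Set V) → x ∉ C → x * r ≠ r * x := by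
    intro x hx hx'
    obtain ⟨a, ha, rfl⟩ := hconj x hx hx'
    exact hdiff a ha g hg fun e => hgP (hr ▸ e ▸ hπ.mv_le _ hx)
  have hrP : mv r ⊓ P = ⊥ := by
    rw [eq_bot_iff]
    intro u hu
    rw [Submodule.mem_bot]
    by_contra hu0
    obtain ⟨x, hx, hx', hux⟩ := hπ.cover hu.2 hu0
    refine hu0 ((Submodule.mem_bot (ZMod 2)).1 ?_)
    rw [← hc.pair_disjoint (hπ.ref hx hx') hRr (hnc x hx hx')]
    exact ⟨hux, hu.1⟩
  obtain ⟨v, hv, hvx⟩ : ∃ v ∈ fx t₀ ⊓ (P ⊔ mv r), v ∉ mv t₀ := by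
    by_contra hno
    push Not at hno
    have h1 := Submodule.finrank_mono (show fx t₀ ⊓ (P ⊔ mv r) ≤ mv t₀ from hno)
    have h2 := Submodule.finrank_sup_add_finrank_inf_eq (fx t₀) (P ⊔ mv r)
    have h3 := Submodule.finrank_sup_add_finrank_inf_eq P (mv r)
    have h4 := Submodule.finrank_le (fx t₀ ⊔ (P ⊔ mv r))
    rw [inf_comm, hrP, finrank_bot, hπ.dim, hRr.2.2] at h3
    have h5 := hR₀.finrank_fx
    have h6 := hR₀.2.2
    have := hc.fpos
    omega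
  have hv0 : v ≠ 0 := fun e => hvx (e ▸ (mv t₀).zero_mem)
  obtain ⟨y, hy, a, ha, hay⟩ : ∃ y, v ∈ mv y ∧ ∃ a ∈ H, a * t₀ * a⁻¹ = y := by
    obtain ⟨p₀, hp₀, u, hu, e⟩ := Submodule.mem_sup.1 hv.2
    by_cases h0 : p₀ = 0
    · exact ⟨r, by rw [← e, h0, zero_add]; exact hu, g, hg, hr.symm⟩
    · obtain ⟨x, hx, hx', hpx⟩ := hπ.cover hp₀ h0
      obtain ⟨a, ha, hax⟩ := hconj x hx hx'
      obtain ⟨y, -, hvy, -, hyc⟩ := hc.pair_cover (hπ.ref hx hx') hRr (hnc x hx hx')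
        (v := v) (e ▸ Submodule.add_mem_sup hpx hu) hv0
      obtain ⟨c, hc', hcy⟩ := hyc hodd
      exact ⟨y, hvy, c * a, H.mul_mem hc' ha, by rw [← hcy, ← hax]; group⟩
  subst hay
  have hne : a * t₀ * a⁻¹ ≠ 1 * t₀ * (1 : V ≃ₗ[ZMod 2] V)⁻¹ := fun e => hvx (by simpa [e] using hy)
  refine hdiff a ha 1 H.one_mem hne (hc.pair_commute (hR₀.conj ha) ?_ hy hv0 ?_)
  · simpa using hR₀
  · simpa using mem_fx.1 hv.1

end Ctx

end CfsgLib.Perm.BinAff
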