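import Cfsg.Agent.Lib.Perm.BinaryAffine.OddBlocks

/-!
# Irreducible binary linear groups

Such a group has order at most two on a line, or is a plane group.
-/

set_option autoImplicit false
set_option linter.all false

namespace CfsgLib.Perm.BinAff

open Module

universe u

variable {p : ℕ} [Fact p.Prime]

theorem rigid_of_irred_aux (n : ℕ) : ∀ (V : Type u) [AddCommGroup V] [Module (ZMod p) V] [Finite V]
    (H : Subgroup (V ≃ₗ[ZMod p] V)), finrank (ZMod p) V = n → LBin H → Irr H → Rigid H := by
  induction n using Nat.strong_induction_on with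
  | _ n ih =>
    intro V _ _ _ H hn hH hirr
    by_contra hnr
    obtain ⟨d, f, hc⟩ := exists_ctx hH hnr
    by_cases hp : p = 2
    · exact hc.false_of_two hirr hp
    · exact hc.false_of_odd hirr hp fun P hP K hK hKirr =>
        ih (finrank (ZMod p) P) (hn ▸ Submodule.finrank_lt hP) P K rfl hK hKirr

theorem rigid_of_irred {V : Type u} [AddCommGroup V] [Module (ZMod p) V] [Finite V]
    {H : Subgroup (V ≃ₗ[ZMod p] V)} (hH : LBin H) (hirr : Irr H) : Rigid H :=
  rigid_of_irred_aux _ V H rfl hH hirr

/-- The two kinds of irreducible binary linear groups. -/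
theorem classify {V : Type u} [AddCommGroup V] [Module (ZMod p) V] [Finite V] [Nontrivial V]
    {H : Subgroup (V ≃ₗ[ZMod p] V)} (hH : LBin H) (hirr : Irr H) :
    (finrank (ZMod p) V = 1 ∧ Nat.card H ≤ 2) ∨
      ∃ C f, Plane H C (⊥ : Submodule (ZMod p) V) ⊤ f := by
  classical
  by_cases hex : ∃ x ∈ H, x * x ≠ 1
  · obtain ⟨x, hx, hx2⟩ := hex
    obtain ⟨C, P, f, hπ⟩ := plane_of_rigid hH (F := ⊥)
      (fun g _ v hv => by rw [(Submodule.mem_bot _).1 hv, map_zero]) (rigid_of_irred hH hirr) hx hx2
    obtain rfl : P = ⊤ := by simpa using hπ.compl.sup_eq_top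
    exact Or.inr ⟨C, f, hπ⟩
  push Not at hex
  left
  have hcomm : ∀ g ∈ H, ∀ h ∈ H, g * h = h * g := fun g hg h hh =>
    mul_sq_of_commute (hex g hg) (hex h hh) (hex _ (H.mul_mem hg hh))
  have hsign : ∀ g ∈ H, g = 1 ∨ ∀ v, g v = -v := by
    intro g hg
    rcases hirr (fx g) (fun h hh v hv => apply_mem_fx_of_commute (hcomm g hg h hh) hv) with e | e
    · refine Or.inr fun v => ?_
      have : v + g v ∈ fx g := by
        rw [mem_fx, map_add, ← LinearEquiv.mul_apply, hex g hg, LinearEquiv.coe_one, id_eq, add_comm]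
      rw [e, Submodule.mem_bot] at this
      exact eq_neg_of_add_eq_zero_right this
    · exact Or.inl (eq_one_of_fx e)
  constructor
  · obtain ⟨v, hv⟩ := exists_ne (0 : V)
    have hspan : Submodule.span (ZMod p) {v} = ⊤ := by
      refine (hirr _ fun g hg u hu => ?_).resolve_left fun e => hv (by
        simpa using e)
      rcases hsign g hg with rfl | e
      · exact hu
      · rw [e u]
        exact Submodule.neg_mem _ hu
    rw [← finrank_top (ZMod p) V, ← hspan, finrank_span_singleton hv]
  · have hinj : Function.Injective (fun g : H => decide (g.1 = 1)) := by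
      intro a b e
      simp only [decide_eq_decide] at e
      refine Subtype.ext ?_
      by_cases ha : a.1 = 1
      · rw [ha, e.1 ha]
      · have hb : b.1 ≠ 1 := fun hb => ha (e.2 hb)
        refine LinearEquiv.ext fun v => ?_
        rw [(hsign _ a.2).resolve_left ha v, (hsign _ b.2).resolve_left hb v]
    simpa using Nat.card_le_card_of_injective _ hinj

end CfsgLib.Perm.BinAff
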