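import Cfsg.Agent.Lib.Perm.BinaryAffine.Irred

/-!
# A plane group is a group of semilinear maps of the field with `p ^ (2 f)` elements
-/

set_option autoImplicit false
set_option linter.all false

namespace CfsgLib.Perm.BinAff

open Module

variable {p : ℕ} {V : Type*} [AddCommGroup V] [Module (ZMod p) V] [hp : Fact p.Prime] [Finite V]

theorem exists_model {H C : Subgroup (V ≃ₗ[ZMod p] V)} {f : ℕ}
    (hπ : Plane H C (⊥ : Submodule (ZMod p) V) ⊤ f) :
    ∃ e : V ≃+ GaloisField p (2 * f), ∀ σ : V → V, (∃ h ∈ H, ∀ v, h v = σ v) ↔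
      ∃ x : GaloisField p (2 * f), x ^ (p ^ f + 1) = 1 ∧
        ((∀ v, e (σ v) = x * e v) ∨ ∀ v, e (σ v) = x * e v ^ (p ^ f)) := by
  classical
  haveI := finite_aut (p := p) (V := V)
  obtain ⟨t, ht, ht'⟩ := hπ.nonempty
  have htt := hπ.sq t ht ht'
  let S : Set (Module.End (ZMod p) V) :=
    Set.range fun c : C => ((c.1 : V ≃ₗ[ZMod p] V) : V →ₗ[ZMod p] V)
  let A := Algebra.adjoin (ZMod p) S
  have hAc : ∀ a ∈ A, ∀ c ∈ C, ∀ v, a (c v) = c (a v) := by
    intro a ha c hc
    induction ha using Algebra.adjoin_induction with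
    | mem a ha =>
      obtain ⟨d, rfl⟩ := ha
      exact fun v => LinearEquiv.congr_fun (hπ.comm d.1 d.2 c hc) v
    | algebraMap r => exact fun v => by simp [Module.algebraMap_end_apply]
    | add a b _ _ ha hb => exact fun v => by simp [ha v, hb v, map_add]
    | mul a b _ _ ha hb => exact fun v => by simp [ha, hb]
  have hAA : ∀ a b : A, a * b = b * a := by
    rintro ⟨a, ha⟩ ⟨b, hb⟩
    refine Subtype.ext ?_
    show a * b = b * a
    induction hb using Algebra.adjoin_induction with
    | mem b hb => obtain ⟨c, rfl⟩ := hb; exact LinearMap.ext (hAc a ha c.1 c.2)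
    | algebraMap r => exact (Algebra.commutes r a).symm
    | add b c _ _ hb hc => rw [mul_add, add_mul, hb, hc]
    | mul b c _ _ hb hc => rw [← mul_assoc, hb, mul_assoc, hc, mul_assoc]
  letI : CommRing A := { (inferInstance : Ring A) with mul_comm := hAA }
  have hker : ∀ a : A, a ≠ 0 → ∀ v, (a : Module.End (ZMod p) V) v = 0 → v = 0 := by
    intro a ha v hv
    by_contra hv0
    refine ha (Subtype.ext (LinearMap.ker_eq_top.1 ?_))
    refine hπ.irred le_top (fun c hc u hu => ?_) fun e => hv0 ?_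
    · rw [LinearMap.mem_ker] at hu ⊢
      rw [hAc _ a.2 c hc, hu, map_zero]
    · have : v ∈ LinearMap.ker (a : Module.End (ZMod p) V) := hv
      rwa [e, Submodule.mem_bot] at this
  haveI : Nontrivial V := by
    rcases subsingleton_or_nontrivial V with hV | hV
    · exact absurd (LinearEquiv.ext fun v => Subsingleton.elim _ _) (hπ.refl_ne_one ht')
    · exact hV
  haveI : NoZeroDivisors A := ⟨fun {a b} hab => by
    by_contra hno
    push Not at hno
    obtain ⟨v, hv⟩ := exists_ne (0 : V)
    exact hv (hker b hno.2 v (hker a hno.1 _ (LinearMap.congr_fun (congrArg Subtype.val hab) v)))⟩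
  haveI : Nontrivial A := ⟨⟨0, 1, fun e => by
    obtain ⟨v, hv⟩ := exists_ne (0 : V)
    exact hv (LinearMap.congr_fun (congrArg Subtype.val e) v).symm⟩⟩
  haveI : IsDomain A := NoZeroDivisors.to_isDomain A
  haveI : Finite (Module.End (ZMod p) V) :=
    Finite.of_injective (fun g : Module.End (ZMod p) V => (g : V → V)) DFunLike.coe_injective
  letI : Field A := (Finite.isField_of_domain A).toField
  letI : Fintype A := Fintype.ofFinite A
  haveI : CharP A p := charP_of_injective_algebraMap (algebraMap (ZMod p) A).injective p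
  -- the base vector, fixed by the reflection
  obtain ⟨v₀, hv₀, hv₀0⟩ := Submodule.exists_mem_ne_zero_of_ne_bot (fun e => hπ.fpos.ne' (by
      rw [← hπ.finrank_fx ht ht', e, finrank_bot]) : fx t ⊓ (⊤ : Submodule (ZMod p) V) ≠ ⊥)
  have hv₀t : t v₀ = v₀ := mem_fx.1 hv₀.1
  let ev : A →+ V :=
    { toFun := fun a => (a : Module.End (ZMod p) V) v₀
      map_zero' := rfl
      map_add' := fun a b => rfl }
  have hevb : Function.Bijective ev := by
    refine ⟨(injective_iff_map_eq_zero ev).2 fun a ha => by_contra fun h => hv₀0 (hker a h v₀ ha), ?_⟩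
    have h : LinearMap.range ((LinearMap.applyₗ v₀).comp A.val.toLinearMap) = ⊤ := by
      refine hπ.irred le_top (fun c hc u hu => ?_) fun e => hv₀0 ?_
      · obtain ⟨a, rfl⟩ := hu
        exact ⟨⟨_, A.mul_mem (Algebra.subset_adjoin (Set.mem_range_self (⟨c, hc⟩ : C))) a.2⟩, rfl⟩
      · have : v₀ ∈ LinearMap.range ((LinearMap.applyₗ v₀).comp A.val.toLinearMap) := ⟨1, rfl⟩
        rwa [e, Submodule.mem_bot] at this
    intro v
    obtain ⟨a, ha⟩ := (h.ge (Submodule.mem_top : v ∈ _))
    exact ⟨a, ha⟩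
  let E₀ : A ≃+ V := AddEquiv.ofBijective ev hevb
  have hE₀ : ∀ a : A, E₀ a = (a : Module.End (ZMod p) V) v₀ := fun a => rfl
  have hfn : 2 * f ≠ 0 := by have := hπ.fpos; omega
  have hcard : Nat.card A = p ^ (2 * f) := by
    rw [Nat.card_congr E₀.toEquiv, Module.natCard_eq_pow_finrank (K := ZMod p), Nat.card_zmod,
      ← finrank_top (ZMod p) V, hπ.dim]
  letI := Fintype.ofFinite (GaloisField p (2 * f))
  let φ : A ≃+* GaloisField p (2 * f) := FiniteField.ringEquivOfCardEq (by
    rw [← Nat.card_eq_fintype_card, ← Nat.card_eq_fintype_card, hcard, GaloisField.card p _ hfn])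
  let e : V ≃+ GaloisField p (2 * f) := E₀.symm.trans φ.toAddEquiv
  have he : ∀ a : A, e (E₀ a) = φ a := fun a => by simp [e]
  let emb : C →* A :=
    { toFun := fun c => ⟨((c.1 : V ≃ₗ[ZMod p] V) : V →ₗ[ZMod p] V), Algebra.subset_adjoin (Set.mem_range_self c)⟩
      map_one' := rfl
      map_mul' := fun a b => rfl }
  have hembi : Function.Injective emb := fun a b h => by
    refine Subtype.ext (LinearEquiv.ext fun v => ?_)
    exact LinearMap.congr_fun (congrArg Subtype.val h) v
  have hpow : ∀ c : C, emb c ^ (p ^ f + 1) = 1 := fun c => by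
    rw [← map_pow, ← hπ.cardC, pow_card_eq_one', map_one]
  -- every solution of the norm equation comes from `C`
  have honto : ∀ x : GaloisField p (2 * f), x ^ (p ^ f + 1) = 1 → ∃ c : C, φ (emb c) = x := by
    intro x hx
    haveI := Fintype.ofFinite C
    let s : Finset (GaloisField p (2 * f)) := Finset.univ.image fun c : C => φ (emb c)
    have hs : s ⊆ Polynomial.nthRootsFinset (p ^ f + 1) (1 : GaloisField p (2 * f)) := by
      intro y hy
      obtain ⟨c, -, rfl⟩ := Finset.mem_image.1 hy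
      rw [Polynomial.mem_nthRootsFinset (by omega)]
      rw [← map_pow, hpow, map_one]
    have hscard : s.card = p ^ f + 1 := by
      rw [show s = Finset.univ.image (φ ∘ emb) from rfl, Finset.card_image_of_injective _ (φ.injective.comp hembi), Finset.card_univ,
        ← Nat.card_eq_fintype_card, hπ.cardC]
    have heq := Finset.eq_of_subset_of_card_le hs (by
      rw [hscard, Polynomial.nthRootsFinset_def]
      exact (Multiset.toFinset_card_le _).trans (Polynomial.card_nthRoots _ _))
    have hxs : x ∈ s := heq ▸ (Polynomial.mem_nthRootsFinset (by omega) 1).2 hx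
    obtain ⟨c, -, hc⟩ := Finset.mem_image.1 hxs
    exact ⟨c, hc⟩
  -- the reflection is the Frobenius automorphism
  have hfrob : ∀ a : A, ∀ v, t ((a : Module.End (ZMod p) V) v) =
      ((a ^ (p ^ f) : A) : Module.End (ZMod p) V) (t v) := by
    rintro ⟨a, ha⟩
    induction ha using Algebra.adjoin_induction with
    | mem a ha =>
      obtain ⟨c, rfl⟩ := ha
      intro v
      have h1 := hpow c
      rw [pow_succ] at h1
      have h2 : emb c ^ (p ^ f) = emb c⁻¹ := by
        apply mul_right_cancel₀ (b := emb c)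
        · exact fun h0 => by simp [h0] at h1
        · rw [h1, ← map_mul, inv_mul_cancel, map_one]
      show t (c.1 v) = ((emb c ^ (p ^ f) : A) : Module.End (ZMod p) V) (t v)
      rw [h2]
      show t (c.1 v) = c.1⁻¹ (t v)
      rw [← hπ.inv t ht ht' c.1 c.2]
      simp only [LinearEquiv.mul_apply]
      rw [show t (t v) = v from LinearEquiv.congr_fun htt v]
    | algebraMap r =>
      intro v
      show t ((algebraMap (ZMod p) A r : A).1 v) = ((algebraMap (ZMod p) A r) ^ (p ^ f) : A).1 (t v)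
      rw [← map_pow, ZMod.pow_card_pow]
      simp [Module.algebraMap_end_apply]
    | add a b ha hb h1 h2 =>
      intro v
      show t (a v + b v) = (((⟨a, ha⟩ : A) + ⟨b, hb⟩) ^ (p ^ f) : A).1 (t v)
      rw [add_pow_char_pow, map_add, h1 v, h2 v]
      rfl
    | mul a b ha hb h1 h2 =>
      intro v
      show t (a (b v)) = (((⟨a, ha⟩ : A) * ⟨b, hb⟩) ^ (p ^ f) : A).1 (t v)
      rw [mul_pow, h1 (b v), h2 v]
      rfl
  have heC : ∀ (c : C) (v : V), e (c.1 v) = φ (emb c) * e v := by
    intro c v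
    obtain ⟨a, rfl⟩ := E₀.surjective v
    rw [show c.1 (E₀ a) = E₀ (emb c * a) from rfl, he, he, map_mul]
  have het : ∀ v : V, e (t v) = e v ^ (p ^ f) := by
    intro v
    obtain ⟨a, rfl⟩ := E₀.surjective v
    rw [hE₀, hfrob a v₀, hv₀t, ← hE₀, he, ← hE₀, he, map_pow]
  refine ⟨e, fun σ => ⟨?_, ?_⟩⟩
  · rintro ⟨h, hh, hσ⟩
    by_cases hhC : h ∈ C
    · refine ⟨φ (emb ⟨h, hhC⟩), by rw [← map_pow, hpow, map_one], Or.inl fun v => ?_⟩
      rw [← hσ v, ← heC ⟨h, hhC⟩ v]
    · have hm := hπ.mul_mem h hh t ht hhC ht'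
      refine ⟨φ (emb ⟨h * t, hm⟩), by rw [← map_pow, hpow, map_one], Or.inr fun v => ?_⟩
      rw [← hσ v, ← het, ← heC ⟨h * t, hm⟩ (t v), ← LinearEquiv.mul_apply, mul_assoc, htt, mul_one]
  · rintro ⟨x, hx, h | h⟩
    · obtain ⟨c, rfl⟩ := honto x hx
      exact ⟨c.1, hπ.le c.2, fun v => e.injective (by rw [h v, heC])⟩
    · obtain ⟨c, rfl⟩ := honto x hx
      refine ⟨c.1 * t, H.mul_mem (hπ.le c.2) ht, fun v => e.injective ?_⟩
      rw [h v, LinearEquiv.mul_apply, heC, het]

/-- The norm one semilinear maps as maps over a subfield of index two. -/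
theorem exists_subfield (p f : ℕ) [Fact p.Prime] (hf : 0 < f) :
    ∃ (F : Type) (_ : Field F) (_ : Fintype F) (_ : Algebra F (GaloisField p (2 * f))),
      finrank F (GaloisField p (2 * f)) = 2 ∧
      (∀ x : GaloisField p (2 * f), Algebra.norm F x = 1 ↔ x ^ (p ^ f + 1) = 1) ∧
      (∃ φ : GaloisField p (2 * f) ≃ₐ[F] GaloisField p (2 * f), ∀ y, φ y = y ^ (p ^ f)) ∧
      ∀ φ : GaloisField p (2 * f) ≃ₐ[F] GaloisField p (2 * f),
        (∀ y, φ y = y) ∨ ∀ y, φ y = y ^ (p ^ f) := by
  obtain ⟨i⟩ := FiniteField.nonempty_algHom_of_finrank_dvd (F := ZMod p) (K := GaloisField p f)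
    (L := GaloisField p (2 * f))
    (by rw [GaloisField.finrank p hf.ne', GaloisField.finrank p (by omega)]; exact dvd_mul_left f 2)
  letI : Algebra (GaloisField p f) (GaloisField p (2 * f)) := i.toRingHom.toAlgebra
  letI := Fintype.ofFinite (GaloisField p f)
  letI := Fintype.ofFinite (GaloisField p (2 * f))
  have hK := GaloisField.card p f hf.ne'
  have hL := GaloisField.card p (2 * f) (by omega)
  have hQ : 2 ≤ p ^ f := (Fact.out : p.Prime).two_le.trans (Nat.le_self_pow hf.ne' p)
  have hr : finrank (GaloisField p f) (GaloisField p (2 * f)) = 2 := by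
    have h := Module.natCard_eq_pow_finrank (K := GaloisField p f) (V := GaloisField p (2 * f))
    rw [hK, hL, pow_mul'] at h
    exact (Nat.pow_right_injective hQ h).symm
  have hfr : ∀ y, FiniteField.frobeniusAlgEquivOfAlgebraic (GaloisField p f) (GaloisField p (2 * f)) y
      = y ^ (p ^ f) := fun y => by
    rw [FiniteField.coe_frobeniusAlgEquivOfAlgebraic, ← Nat.card_eq_fintype_card, hK]
  refine ⟨GaloisField p f, inferInstance, inferInstance, inferInstance, hr, fun x => ?_, ⟨_, hfr⟩, ?_⟩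
  · rw [← (algebraMap (GaloisField p f) (GaloisField p (2 * f))).injective.eq_iff, map_one,
      FiniteField.algebraMap_norm_eq_pow, hK, hL]
    have : (p ^ (2 * f) - 1) / (p ^ f - 1) = p ^ f + 1 := by
      rw [pow_mul', show (p ^ f) ^ 2 - 1 = (p ^ f + 1) * (p ^ f - 1) by simpa using Nat.sq_sub_sq (p ^ f) 1,
        Nat.mul_div_cancel _ (by omega)]
    rw [this]
  · intro φ
    obtain ⟨⟨n, hn⟩, hφ⟩ := (FiniteField.bijective_frobeniusAlgEquivOfAlgebraic_pow
      (GaloisField p f) (GaloisField p (2 * f))).2 φ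
    rw [hr] at hn
    simp only at hφ
    interval_cases n
    · exact Or.inl fun y => by rw [← hφ, pow_zero]; rfl
    · exact Or.inr fun y => by rw [← hφ, pow_one, hfr]

end CfsgLib.Perm.BinAff
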