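import Cfsg.Agent.Lib.Perm.BinaryAffine.OddCover

/-!
# Planes are not blocks

If no reflection reaches out of a plane without commuting with it, the images of a plane are blocks;
an element exchanging two of them gives a contradiction with the swapping lemma.
-/

set_option autoImplicit false
set_option linter.all false

namespace CfsgLib.Perm.BinAff

open Module

variable {p : ℕ} {V : Type*} [AddCommGroup V] [Module (ZMod p) V] [Fact p.Prime] [Finite V]
  {H : Subgroup (V ≃ₗ[ZMod p] V)} {d f : ℕ}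

theorem map_eq_of_mem {P : Submodule (ZMod p) V} {g : V ≃ₗ[ZMod p] V} (h : ∀ v ∈ P, g v ∈ P) :
    P.map (g : V →ₗ[ZMod p] V) = P :=
  Submodule.eq_of_le_of_finrank_le (Submodule.map_le_iff_le_comap.2 h)
    (LinearEquiv.finrank_map_eq g P).ge

theorem map_mul (g h : V ≃ₗ[ZMod p] V) (P : Submodule (ZMod p) V) :
    P.map ((g * h : V ≃ₗ[ZMod p] V) : V →ₗ[ZMod p] V) =
      (P.map (h : V →ₗ[ZMod p] V)).map (g : V →ₗ[ZMod p] V) := by
  rw [← Submodule.map_comp]
  rfl

namespace Ctx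

variable (hc : Ctx H d f) (hirr : Irr H) (hp2 : p ≠ 2)
include hc hirr hp2

/-- An image of a plane is the plane or is fixed by its group. -/
theorem block {C : Subgroup (V ≃ₗ[ZMod p] V)} {F P : Submodule (ZMod p) V}
    (hπ : Plane (fixing H (F : Set V)) C F P f) {g : V ≃ₗ[ZMod p] V} (hg : g ∈ H)
    (hne : P.map (g : V →ₗ[ZMod p] V) ≠ P) : P.map (g : V →ₗ[ZMod p] V) ≤ F := by
  classical
  haveI := finite_aut (p := p) (V := V)
  have hQ := hπ.pow_pos'
  let T := {t : V ≃ₗ[ZMod p] V // t ∈ fixing H (F : Set V) ∧ t ∉ C}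
  let cj : T → V ≃ₗ[ZMod p] V := fun t => g * t.1 * g⁻¹
  have hcjR : ∀ t : T, Ref H f (cj t) := fun t => (hπ.ref t.2.1 t.2.2).conj hg
  have hinside : ∀ a b : T, mv (cj a) ≤ P → mv (cj b) ≤ P → a = b := by
    intro a b ha hb
    by_contra hab
    refine hne (Submodule.eq_of_le_of_finrank_le ?_ (LinearEquiv.finrank_map_eq g P).ge)
    rw [← hπ.sup_eq a.2.1 a.2.2 b.2.1 b.2.2 fun e => hab (Subtype.ext e), Submodule.map_sup,
      ← mv_conj, ← mv_conj]
    rw [hπ.sup_eq a.2.1 a.2.2 b.2.1 b.2.2 fun e => hab (Subtype.ext e)]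
    exact sup_le ha hb
  -- two reflections of the plane
  obtain ⟨x, hx, hx'⟩ := hπ.nonempty
  obtain ⟨c, hcC, hc1⟩ : ∃ c ∈ C, c ≠ 1 := by
    by_contra hno
    push Not at hno
    have h := hπ.cardC
    rw [(Subgroup.eq_bot_iff_forall C).2 hno, Subgroup.card_bot] at h
    omega
  have hy : x * c ∈ fixing H (F : Set V) := (fixing H _).mul_mem hx (hπ.le hcC)
  have hy' : x * c ∉ C := fun h => hx' (by simpa using C.mul_mem h (C.inv_mem hcC))
  have hxy : x ≠ x * c := fun e => hc1 (by simpa using e)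
  have hout : ∀ t : T, ¬ mv (cj t) ≤ P → mv (cj t) ≤ F := fun t ht =>
    (hc.mv_le_of_two hirr hp2 hπ (hcjR t) ht hx hx' hy hy' hxy
      (hc.commute_outside hirr hp2 hπ (hcjR t) ht hx hx')
      (hc.commute_outside hirr hp2 hπ (hcjR t) ht hy hy')).1
  have hall : ∀ t : T, ¬ mv (cj t) ≤ P := by
    intro t ht
    obtain ⟨u, hu, hu0⟩ := Submodule.exists_mem_ne_zero_of_ne_bot
      (fun e => hc.fpos.ne (by rw [← (hcjR t).2.2, e, finrank_bot]) : mv (cj t) ≠ ⊥)
    obtain ⟨s, hs, hs', hus⟩ := hπ.cover (ht hu) hu0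
    have hts : cj t = s := by
      by_contra e
      exact hu0 ((Submodule.mem_bot (ZMod p)).1
        (hc.disjoint hirr hp2 (hcjR t) (hπ.ref hs hs') e ▸ Submodule.mem_inf.2 ⟨hu, hus⟩))
    have hcomm : ∀ a : T, a ≠ t → t.1 * a.1 = a.1 * t.1 := by
      intro a ha
      have h1 := hc.commute_outside hirr hp2 hπ (hcjR a) (fun h => ha (hinside a t h ht)) hs hs'
      rw [← hts] at h1
      have e : ∀ a b : V ≃ₗ[ZMod p] V, g * a * g⁻¹ * (g * b * g⁻¹) = g * (a * b) * g⁻¹ :=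
        fun a b => by group
      rw [e, e] at h1
      exact (mul_left_cancel (mul_right_cancel h1)).symm
    obtain ⟨a, b, ha, hb, hab⟩ : ∃ a b : T, a ≠ t ∧ b ≠ t ∧ a ≠ b := by
      haveI := Fintype.ofFinite T
      have h3 : 3 ≤ (Finset.univ : Finset T).card := by
        rw [Finset.card_univ, ← Nat.card_eq_fintype_card, hπ.card_refl]
        omega
      have h2 : 1 < (Finset.univ.erase t).card := by
        rw [Finset.card_erase_of_mem (Finset.mem_univ t)]
        omega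
      obtain ⟨a, ha, b, hb, hab⟩ := Finset.one_lt_card.1 h2
      exact ⟨a, b, (Finset.mem_erase.1 ha).1, (Finset.mem_erase.1 hb).1, hab⟩
    have h1 : mv t.1 ≤ F := (le_inf
      (hc.mv_le_fx hirr hp2 (hπ.ref t.2.1 t.2.2) (hπ.ref a.2.1 a.2.2)
        (fun e => ha (Subtype.ext e).symm) (hcomm a ha))
      (hc.mv_le_fx hirr hp2 (hπ.ref t.2.1 t.2.2) (hπ.ref b.2.1 b.2.2)
        (fun e => hb (Subtype.ext e).symm) (hcomm b hb))).trans
      (hπ.fx_inf_le a.2.1 a.2.2 b.2.1 b.2.2 fun e => hab (Subtype.ext e))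
    refine hπ.refl_ne_one t.2.2 (eq_one_of_mv (le_bot_iff.1 ?_))
    exact (le_inf (hπ.mv_le t.1 t.2.1) h1).trans hπ.compl.inf_eq_bot.le
  rintro _ ⟨v, hv, rfl⟩
  by_cases hv0 : v = 0
  · rw [hv0, map_zero]; exact F.zero_mem
  obtain ⟨t, ht, ht', hvt⟩ := hπ.cover hv hv0
  exact hout ⟨t, ht, ht'⟩ (hall _) (by rw [mv_conj]; exact Submodule.mem_map_of_mem hvt)

/-- Elements preserving the plane act on it as elements of the plane group. -/
theorem stab_plane {C : Subgroup (V ≃ₗ[ZMod p] V)} {F P : Submodule (ZMod p) V}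
    (hπ : Plane (fixing H (F : Set V)) C F P f)
    (hsmall : ∀ K : Subgroup (P ≃ₗ[ZMod p] P), LBin K → Irr K → Rigid K)
    {g : V ≃ₗ[ZMod p] V} (hg : g ∈ H) (hgP : P.map (g : V →ₗ[ZMod p] V) = P) :
    ∃ l ∈ fixing H (F : Set V), ∀ v ∈ P, g v = l v := by
  classical
  haveI := finite_aut (p := p) (V := V)
  haveI := finite_aut (p := p) (V := P)
  let M : Subgroup (V ≃ₗ[ZMod p] V) :=
    { carrier := {a | a ∈ H ∧ P.map (a : V →ₗ[ZMod p] V) = P}
      one_mem' := ⟨H.one_mem, Submodule.map_id P⟩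
      mul_mem' := fun {a b} ha hb => ⟨H.mul_mem ha.1 hb.1, by rw [map_mul, hb.2, ha.2]⟩
      inv_mem' := fun {a} ha => ⟨H.inv_mem ha.1, by
        conv_lhs => rw [← ha.2]
        rw [← map_mul, inv_mul_cancel]
        exact Submodule.map_id P⟩ }
  let ρ : M →* (P ≃ₗ[ZMod p] P) :=
    { toFun := fun a => LinearEquiv.ofSubmodules a.1 P P a.2.2
      map_one' := LinearEquiv.ext fun v => Subtype.ext rfl
      map_mul' := fun a b => LinearEquiv.ext fun v => Subtype.ext rfl }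
  have hρ : ∀ (a : M) (v : P), ((ρ a v : P) : V) = a.1 v.1 := fun a v => rfl
  have hmem : ∀ l ∈ fixing H (F : Set V), l ∈ M := fun l hl =>
    ⟨hl.1, map_eq_of_mem fun v hv => hπ.apply_mem hl hv⟩
  have hmeet : ∀ a ∈ H, ∀ v : P, v ≠ 0 → a v.1 ∈ P → a ∈ M := by
    intro a ha v hv hav
    refine ⟨ha, by_contra fun hne => hv (Subtype.ext ?_)⟩
    have h0 : a v.1 ∈ P ⊓ F := ⟨hav, hc.block hirr hp2 hπ ha hne (Submodule.mem_map_of_mem v.2)⟩
    rw [hπ.compl.inf_eq_bot, Submodule.mem_bot] at h0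
    exact (LinearEquiv.map_eq_zero_iff a).1 h0
  -- the induced group is binary
  have hbin : LBin ρ.range := by
    intro n v w h1 h2
    by_cases hall : ∀ i, v i = 0
    · refine ⟨1, Subgroup.one_mem _, fun i => ?_⟩
      obtain ⟨a, -, he⟩ := h1 i
      rw [hall i, map_zero] at he
      rw [hall i, map_zero, he]
    push Not at hall
    obtain ⟨i₀, hi₀⟩ := hall
    obtain ⟨a, ha, he⟩ := hc.bin n (fun i => (v i).1) (fun i => (w i).1) (fun i => by
        obtain ⟨_, ⟨m, rfl⟩, he⟩ := h1 i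
        exact ⟨m.1, m.2.1, congrArg Subtype.val he⟩) (fun i j => by
        obtain ⟨_, ⟨m, rfl⟩, he⟩ := h2 i j
        exact ⟨m.1, m.2.1, congrArg Subtype.val he⟩)
    have haM := hmeet a ha (v i₀) hi₀ (by rw [he i₀]; exact (w i₀).2)
    exact ⟨ρ ⟨a, haM⟩, ⟨_, rfl⟩, fun i => Subtype.ext (he i)⟩
  have hirrP : Irr ρ.range := by
    intro U hU
    by_cases hU0 : U = ⊥
    · exact Or.inl hU0
    right
    have h := hπ.irred (U := U.map P.subtype) (Submodule.map_subtype_le P U) (by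
        rintro c hc' _ ⟨u, hu, rfl⟩
        exact ⟨ρ ⟨c, hmem c (hπ.le hc')⟩ u, hU _ ⟨_, rfl⟩ u hu, rfl⟩)
      (fun e => hU0 (Submodule.map_injective_of_injective P.injective_subtype (by rw [e, Submodule.map_bot])))
    exact Submodule.map_injective_of_injective P.injective_subtype (by rw [h, Submodule.map_subtype_top])
  have hrig := hsmall _ hbin hirrP
  -- the plane group maps onto it
  let ψ : fixing H (F : Set V) →* ρ.range :=
    ρ.rangeRestrict.comp (Subgroup.inclusion fun l hl => hmem l hl)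
  have hψ : Function.Injective ψ := by
    rw [injective_iff_map_eq_one]
    intro l hl
    refine Subtype.ext (eq_one_of_compl hπ.compl (fun v hv => mem_fx.2 ?_)
      fun v hv => mem_fx.2 (l.2.2 v hv))
    exact congrArg (fun a : ρ.range => ((a.1 ⟨v, hv⟩ : P) : V)) hl
  obtain ⟨x, hxC, hx2⟩ : ∃ x ∈ C, x * x ≠ 1 := by
    by_contra hno
    push Not at hno
    obtain ⟨t, ht, ht'⟩ := hπ.nonempty
    obtain ⟨v, hv, hv0⟩ := Submodule.exists_mem_ne_zero_of_ne_bot
      (fun e => hπ.refl_ne_one ht' (eq_one_of_mv e) : mv t ≠ ⊥)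
    -- an elementary abelian group cannot act freely with an irreducible action of this size
    have hvP := hπ.mv_le t ht hv
    have hneg : ∀ c ∈ C, c ≠ 1 → c v = -v := by
      intro c hc' hc1
      by_contra hne
      have h1 : v + c v ∈ P := P.add_mem hvP (hπ.apply_mem (hπ.le hc') hvP)
      refine hc1 (hπ.free hc' h1 (fun e => hne (eq_neg_of_add_eq_zero_right e)) ?_)
      rw [map_add, ← LinearEquiv.mul_apply, hno c hc', LinearEquiv.coe_one, id_eq, add_comm]
    have hle : Nat.card C ≤ 2 := by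
      refine le_trans (Nat.card_le_card_of_injective (fun c : C => decide (c.1 = 1)) fun a b e => ?_) (by simp)
      simp only [decide_eq_decide] at e
      refine Subtype.ext ?_
      by_cases ha : a.1 = 1
      · rw [ha, (e.1 ha)]
      · have hb : b.1 ≠ 1 := fun hb => ha (e.2 hb)
        refine (inv_mul_eq_one.1 (hπ.free (C.mul_mem (C.inv_mem b.2) a.2) hvP hv0 ?_)).symm
        rw [LinearEquiv.mul_apply, hneg _ a.2 ha, ← hneg _ b.2 hb, inv_apply_self]
    rw [hπ.cardC] at hle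
    have := hπ.pow_pos'
    omega
  have hx2' : ρ ⟨x, hmem x (hπ.le hxC)⟩ * ρ ⟨x, hmem x (hπ.le hxC)⟩ ≠ 1 := by
    rw [← _root_.map_mul]
    intro e
    refine hx2 (congrArg Subtype.val (hψ (a₁ := ⟨x * x, (fixing H _).mul_mem (hπ.le hxC) (hπ.le hxC)⟩)
      (a₂ := 1) (Subtype.ext ?_)))
    rw [_root_.map_one]
    exact e
  obtain ⟨C', P', f', hπ'⟩ := plane_of_rigid hbin (F := ⊥)
    (fun a _ v hv => by rw [(Submodule.mem_bot _).1 hv, map_zero]) hrig ⟨_, rfl⟩ hx2'
  have hf' : f' = f := by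
    have h1 := Submodule.finrank_add_eq_of_isCompl hπ'.compl
    rw [finrank_bot, hπ'.dim, hπ.dim] at h1
    omega
  subst hf'
  have hbij : Function.Bijective ψ := hψ.bijective_of_nat_card_le (by rw [hπ'.card_eq, hπ.card_eq])
  obtain ⟨l, hl⟩ := hbij.2 ⟨ρ ⟨g, hg, hgP⟩, _, rfl⟩
  exact ⟨l.1, l.2, fun v hv => (congrArg (fun a : ρ.range => ((a.1 ⟨v, hv⟩ : P) : V)) hl).symm⟩

/-- A group that is not rigid is reducible in odd characteristic. -/
theorem false_of_odd
    (hsmall : ∀ P : Submodule (ZMod p) V, P ≠ ⊤ →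
      ∀ K : Subgroup (P ≃ₗ[ZMod p] P), LBin K → Irr K → Rigid K) : False := by
  classical
  obtain ⟨C, F, P, hπ, hFd⟩ := hc.exists_base
  haveI := finite_aut (p := p) (V := V)
  have hd := hc.dim
  have hf := hc.fpos
  have hdp := hc.dpos
  have hPtop : P ≠ ⊤ := fun e => by
    have h := hπ.dim
    rw [e, finrank_top] at h
    omega
  have hP0 : P ≠ ⊥ := fun e => by
    have h := hπ.dim
    rw [e, finrank_bot] at h
    omega
  obtain ⟨g, hg, hgP⟩ : ∃ g ∈ H, P.map (g : V →ₗ[ZMod p] V) ≠ P := by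
    by_contra hno
    push Not at hno
    rcases hirr P (fun a ha u hu => (hno a ha).le (Submodule.mem_map_of_mem hu)) with e | e
    exacts [hP0 e, hPtop e]
  have hgF := hc.block hirr hp2 hπ hg hgP
  have hst : ∀ a ∈ H, P.map (a : V →ₗ[ZMod p] V) = P →
      ∃ l ∈ fixing H (F : Set V), ∀ v ∈ P, a v = l v :=
    fun a ha haP => hc.stab_plane hirr hp2 hπ (hsmall P hPtop) ha haP
  -- the only element fixing a vector of `P` besides the identity is its fixer
  have hfixer : ∀ l ∈ fixing H (F : Set V), ∀ t ∈ fixing H (F : Set V), t ∉ C → ∀ v ∈ P, v ≠ 0 →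
      l v = v → t v = v → l = 1 ∨ l = t := by
    intro l hl t ht ht' v hv hv0 hlv htv
    by_cases hlC : l ∈ C
    · exact Or.inl (hπ.free hlC hv hv0 hlv)
    · refine Or.inr (by_contra fun hne => hπ.not_mem_F hv hv0
        (hπ.fx_inf_le hl hlC ht ht' hne ⟨mem_fx.2 hlv, mem_fx.2 htv⟩))
  have hmeet : ∀ a ∈ H, ∀ v ∈ P, v ≠ 0 → a v ∈ P → P.map (a : V →ₗ[ZMod p] V) = P := by
    intro a ha v hv hv0 hav
    by_contra hne
    have := hc.block hirr hp2 hπ ha hne (Submodule.mem_map_of_mem hv)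
    exact hπ.not_mem_F hav (fun e => hv0 ((LinearEquiv.map_eq_zero_iff a).1 e)) this
  obtain ⟨a, haP, ha0⟩ := Submodule.exists_mem_ne_zero_of_ne_bot hP0
  obtain ⟨ra, hra, hra', hraa⟩ := hπ.fixer haP ha0
  obtain ⟨s, hs, hs1, hs2⟩ := hc.bin.swap hg a
  have hgaF : g a ∈ F := hgF (Submodule.mem_map_of_mem haP)
  have hsP : P.map (s : V →ₗ[ZMod p] V) = P.map (g : V →ₗ[ZMod p] V) := by
    have h := hmeet (g⁻¹ * s) (H.mul_mem (H.inv_mem hg) hs) a haP ha0
      (by rw [LinearEquiv.mul_apply, hs1, inv_apply_self]; exact haP)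
    calc P.map (s : V →ₗ[ZMod p] V) = P.map ((g * (g⁻¹ * s) : V ≃ₗ[ZMod p] V) : V →ₗ[ZMod p] V) := by
          rw [mul_inv_cancel_left]
      _ = _ := by rw [map_mul, h]
  have hsgP : (P.map (s : V →ₗ[ZMod p] V)).map (s : V →ₗ[ZMod p] V) = P := by
    rw [← map_mul]
    exact hmeet _ (H.mul_mem hs hs) a haP ha0 (by rw [LinearEquiv.mul_apply, hs1, hs2]; exact haP)
  obtain ⟨l, hl, hls⟩ := hst (s * s) (H.mul_mem hs hs) (by rw [map_mul]; exact hsgP)
  have hla : l a = a := by rw [← hls a haP, LinearEquiv.mul_apply, hs1, hs2]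
  -- an element exchanging the blocks whose square is the fixer of `a`
  obtain ⟨z, hz, hz1, hz2, hz3⟩ : ∃ z ∈ H, P.map (z : V →ₗ[ZMod p] V) = P.map (g : V →ₗ[ZMod p] V) ∧
      (P.map (z : V →ₗ[ZMod p] V)).map (z : V →ₗ[ZMod p] V) = P ∧ ∀ v ∈ P, z (z v) = ra v := by
    rcases hfixer l hl ra hra hra' a haP ha0 hla hraa with rfl | rfl
    · have hraP : P.map (ra : V →ₗ[ZMod p] V) = P := map_eq_of_mem fun v hv => hπ.apply_mem hra hv
      have hfixG : ∀ v ∈ P.map (s : V →ₗ[ZMod p] V), ra v = v := fun v hv =>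
        hπ.fix ra hra v (hgF (hsP ▸ hv))
      refine ⟨s * ra, H.mul_mem hs hra.1, by rw [map_mul, hraP, hsP], ?_, fun v hv => ?_⟩
      · rw [map_mul s ra P, hraP, map_mul,
          show (P.map (s : V →ₗ[ZMod p] V)).map (ra : V →ₗ[ZMod p] V) = P.map (s : V →ₗ[ZMod p] V) from
            map_eq_of_mem fun v hv => by rw [hfixG v hv]; exact hv, hsgP]
      · have h : ra (s (ra v)) = s (ra v) :=
          hfixG _ (Submodule.mem_map_of_mem (hπ.apply_mem hra hv))
        rw [LinearEquiv.mul_apply, LinearEquiv.mul_apply, h]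
        exact hls _ (hπ.apply_mem hra hv)
    · exact ⟨s, hs, hsP, hsgP, fun v hv => hls v hv⟩
  -- two vectors in general position
  have hfr : finrank (ZMod p) (fx ra ⊓ P : Submodule _ V) = f := hπ.finrank_fx hra hra'
  have hsel : ∀ X : Set V, X.ncard < Nat.card P → ∃ v ∈ P, v ∉ X := by
    intro X hX
    by_contra hno
    push Not at hno
    have := Set.ncard_le_ncard (show (P : Set V) ⊆ X from hno) (Set.toFinite X)
    rw [← Nat.card_coe_set_eq] at this
    exact absurd this (not_le.2 hX)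
  have hQ3 : 3 ≤ p ^ f := by
    have := (Fact.out : p.Prime).two_le
    exact le_trans (by omega : 3 ≤ p) (Nat.le_self_pow hc.fpos.ne' p)
  have hcP : Nat.card P = (p ^ f) * (p ^ f) := by rw [card_submodule, hπ.dim, two_mul, pow_add]
  have hcW : ((fx ra ⊓ P : Submodule (ZMod p) V) : Set V).ncard = p ^ f := by
    rw [← Nat.card_coe_set_eq, ← hfr]
    exact card_submodule _
  have hmul3 : 3 * p ^ f ≤ p ^ f * p ^ f := Nat.mul_le_mul_right _ hQ3
  obtain ⟨c1, hc1, hc1ra⟩ := hsel _ (show ((fx ra ⊓ P : Submodule (ZMod p) V) : Set V).ncard < Nat.card P by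
    rw [hcW, hcP]; omega)
  have hc10 : c1 ≠ 0 := fun e => hc1ra (e ▸ Submodule.zero_mem _)
  obtain ⟨r1, hr1, hr1', hr1c⟩ := hπ.fixer hc1 hc10
  obtain ⟨w, hw, hwX⟩ := hsel (((fx ra ⊓ P : Submodule (ZMod p) V) : Set V) ∪ Set.range fun c : C => c.1 c1) (by
    refine lt_of_le_of_lt (Set.ncard_union_le _ _) ?_
    have h1 : (Set.range fun c : C => c.1 c1).ncard ≤ p ^ f + 1 := by
      rw [← Nat.card_coe_set_eq, ← hπ.cardC]
      exact Finite.card_range_le _
    rw [hcW, hcP]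
    omega)
  rw [Set.mem_union, not_or] at hwX
  have hw0 : w ≠ 0 := fun e => hwX.1 (e ▸ Submodule.zero_mem _)
  obtain ⟨rw', hrw, hrw', hrww⟩ := hπ.fixer hw hw0
  have horb : ∀ l ∈ fixing H (F : Set V), l c1 ≠ w := by
    intro l hl e
    by_cases hlC : l ∈ C
    · exact hwX.2 ⟨⟨l, hlC⟩, e⟩
    · exact hwX.2 ⟨⟨l * r1, hπ.mul_mem l hl r1 hr1 hlC hr1'⟩,
        by show (l * r1) c1 = w; rw [LinearEquiv.mul_apply, hr1c, e]⟩
  -- swap
  set c2 := z⁻¹ w with hc2
  obtain ⟨k, hk, hk1, hk2⟩ := hc.bin.swap hz (c1 + c2)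
  have hzc2 : z c2 = w := apply_inv_self w
  rw [map_add, map_add, hzc2] at hk1
  rw [map_add, hzc2, map_add] at hk2
  have hc2G : c2 ∈ P.map (g : V →ₗ[ZMod p] V) := by
    rw [← hz2, hz1] at hw
    obtain ⟨u, hu, e⟩ := hw
    rw [hc2, inv_apply_eq.2 e]
    exact hu
  have hzc1F : z c1 ∈ F := hgF (hz1 ▸ Submodule.mem_map_of_mem hc1)
  have hzc10 : z c1 ≠ 0 := fun e => hc10 ((LinearEquiv.map_eq_zero_iff z).1 e)
  have hPc : ∀ u v : V, u ∈ P → v ∈ F → ∀ u' v' : V, u' ∈ P → v' ∈ F → u + v = u' + v' →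
      u = u' ∧ v = v' := by
    intro u v hu hv u' v' hu' hv' e
    have h : u - u' ∈ P ⊓ F := ⟨P.sub_mem hu hu', by
      rw [show u - u' = v' - v by linear_combination (norm := module) e]; exact F.sub_mem hv' hv⟩
    rw [hπ.compl.inf_eq_bot, Submodule.mem_bot, sub_eq_zero] at h
    subst h
    exact ⟨rfl, add_left_cancel e⟩
  obtain ⟨u2, hu2, hu2e⟩ := hc2G
  have hk2mem : k c2 ∈ P.map ((k * g : V ≃ₗ[ZMod p] V) : V →ₗ[ZMod p] V) := by
    rw [← hu2e]
    exact Submodule.mem_map_of_mem hu2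
  by_cases hkP : P.map (k : V →ₗ[ZMod p] V) = P
  · have hkg : P.map ((k * g : V ≃ₗ[ZMod p] V) : V →ₗ[ZMod p] V) ≠ P := fun e => hgP (by
      apply Submodule.map_injective_of_injective (f := (k : V →ₗ[ZMod p] V)) k.injective
      rw [← map_mul, e, hkP])
    have hk2F : k c2 ∈ F := hc.block hirr hp2 hπ (H.mul_mem hk hg) hkg hk2mem
    obtain ⟨l', hl', hle⟩ := hst k hk hkP
    have h := hPc (k c1) (k c2) (hkP ▸ Submodule.mem_map_of_mem hc1) hk2F w (z c1) hw hzc1F
      (by rw [hk1, add_comm])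
    exact horb l' hl' (by rw [← hle c1 hc1, h.1])
  · have hkc1F : k c1 ∈ F := hc.block hirr hp2 hπ hk hkP (Submodule.mem_map_of_mem hc1)
    have hkgP : P.map ((k * g : V ≃ₗ[ZMod p] V) : V →ₗ[ZMod p] V) = P := by
      by_contra hne
      have h2 := hc.block hirr hp2 hπ (H.mul_mem hk hg) hne hk2mem
      have h := hPc 0 (k c1 + k c2) P.zero_mem (F.add_mem hkc1F h2) w (z c1) hw hzc1F
        (by rw [zero_add, hk1, add_comm])
      exact hw0 h.1.symm
    have hkc2P : k c2 ∈ P := hkgP ▸ hk2mem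
    obtain ⟨e1, e2⟩ := hPc (k c2) (k c1) hkc2P hkc1F w (z c1) hw hzc1F
      (by rw [add_comm, hk1, add_comm])
    have hkP' : P.map (k : V →ₗ[ZMod p] V) = P.map (z : V →ₗ[ZMod p] V) := by
      have h := hmeet (z⁻¹ * k) (H.mul_mem (H.inv_mem hz) hk) c1 hc1 hc10
        (by rw [LinearEquiv.mul_apply, e2, inv_apply_self]; exact hc1)
      calc P.map (k : V →ₗ[ZMod p] V) = P.map ((z * (z⁻¹ * k) : V ≃ₗ[ZMod p] V) : V →ₗ[ZMod p] V) := by
            rw [mul_inv_cancel_left]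
        _ = _ := by rw [map_mul, h]
    have hkzP : (P.map (z : V →ₗ[ZMod p] V)).map (k : V →ₗ[ZMod p] V) = P := by
      rw [hz1, ← map_mul]
      exact hkgP
    -- the images of `z c1` and of `w`
    have hkw : k w ∈ F := hc.block hirr hp2 hπ hk hkP (Submodule.mem_map_of_mem hw)
    have hkz1 : k (z c1) ∈ P := hkzP ▸ Submodule.mem_map_of_mem (Submodule.mem_map_of_mem hc1)
    have hc2F : c2 ∈ F := hgF (hu2e ▸ Submodule.mem_map_of_mem hu2)
    obtain ⟨e3, e4⟩ := hPc (k (z c1)) (k w) hkz1 hkw c1 c2 hc1 hc2F hk2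
    obtain ⟨l2, hl2, hle2⟩ := hst (k * z) (H.mul_mem hk hz) (by rw [map_mul, hkzP])
    obtain ⟨l3, hl3, hle3⟩ := hst (k * z⁻¹) (H.mul_mem hk (H.inv_mem hz)) (by
      rw [map_mul]
      have h : P.map ((z⁻¹ : V ≃ₗ[ZMod p] V) : V →ₗ[ZMod p] V) = P.map (z : V →ₗ[ZMod p] V) := by
        conv_lhs => rw [← hz2]
        rw [← map_mul, inv_mul_cancel]
        exact Submodule.map_id _
      rw [h, hkzP])
    have hl2c : l2 c1 = c1 := by rw [← hle2 c1 hc1, LinearEquiv.mul_apply, e3]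
    have hl3w : l3 w = w := by rw [← hle3 w hw, LinearEquiv.mul_apply, ← hc2, e1]
    have heq : l2 = l3 * ra := by
      have h1 : (l3 * ra)⁻¹ * l2 = 1 := eq_one_of_compl hπ.compl (fun v hv => mem_fx.2 (by
          rw [LinearEquiv.mul_apply, inv_apply_eq, LinearEquiv.mul_apply, ← hle2 v hv,
            ← hle3 _ (hπ.apply_mem hra hv), ← hz3 v hv]
          simp [LinearEquiv.mul_apply, inv_apply_self]))
        (fun v hv => mem_fx.2 (hπ.fix _ ((fixing H _).mul_mem ((fixing H _).inv_mem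
          ((fixing H _).mul_mem hl3 hra)) hl2) v hv))
      exact (inv_mul_eq_one.1 h1).symm
    have hr1ra : r1 ≠ ra := fun e => hc1ra ⟨mem_fx.2 (e ▸ hr1c), hc1⟩
    have hrwra : rw' ≠ ra := fun e => hwX.1 ⟨mem_fx.2 (e ▸ hrww), hw⟩
    have hrasq := hπ.sq ra hra hra'
    rcases hfixer l2 hl2 r1 hr1 hr1' c1 hc1 hc10 hl2c hr1c with h | h <;>
      rcases hfixer l3 hl3 rw' hrw hrw' w hw hw0 hl3w hrww with h' | h'
    · rw [h, h', one_mul] at heq
      exact hπ.refl_ne_one hra' heq.symm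
    · rw [h, h'] at heq
      apply hrwra
      calc rw' = rw' * ra * ra := by rw [mul_assoc, hrasq, mul_one]
        _ = ra := by rw [← heq, one_mul]
    · rw [h, h', one_mul] at heq
      exact hr1ra heq
    · rw [h, h'] at heq
      exact hr1' (heq ▸ hπ.mul_mem rw' hrw ra hra hrw' hra')

end Ctx

end CfsgLib.Perm.BinAff
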