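import Cfsg.Agent.Lib.Perm.BinaryAffine.Ctx

/-!
# Reflections in odd characteristic

Distinct reflections move disjoint spaces. If a reflection reaches out of a plane without commuting
with it, the moved spaces in their span are the points of a projective plane in which commuting is
a polarity without absolute points; there is none.
-/

set_option autoImplicit false
set_option linter.all false

namespace CfsgLib.Perm.BinAff

open Module

variable {p : ℕ} {V : Type*} [AddCommGroup V] [Module (ZMod p) V] [Fact p.Prime] [Finite V]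
  {H : Subgroup (V ≃ₗ[ZMod p] V)} {d f : ℕ}

omit [Finite V] in
theorem commute_of_mv_le {r t : V ≃ₗ[ZMod p] V} (h1 : mv r ≤ fx t) (h2 : mv t ≤ fx r) :
    r * t = t * r := by
  refine LinearEquiv.ext fun v => ?_
  have e1 := mem_fx.1 (h2 (sub_mem_mv (g := t) v))
  have e2 := mem_fx.1 (h1 (sub_mem_mv (g := r) v))
  rw [map_sub] at e1 e2
  rw [LinearEquiv.mul_apply, LinearEquiv.mul_apply]
  linear_combination (norm := module) e1 - e2

/-- The projective plane argument: no such incidence. -/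
theorem no_polarity {A : Type*} [Fintype A] [DecidableEq A] (hp : p ≠ 0) (M : Matrix A A (ZMod p))
    (hcard : (Fintype.card A : ZMod p) = 1) (hdiag : ∀ i, M i i = 0)
    (hsq : ∀ i k, ∑ j, M i j * M j k = 1) (hrow : ∀ i, ∑ j, M i j = 1) : False := by
  classical
  obtain ⟨J, hJ⟩ : ∃ J : Matrix A A (ZMod p), J = fun _ _ => 1 := ⟨_, rfl⟩
  have h2 : M * M = J := by
    ext i k
    rw [Matrix.mul_apply, hsq, hJ]
  have h3 : M * J = J := by
    ext i k
    rw [Matrix.mul_apply, hJ]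
    simpa using hrow i
  have hpow : ∀ n : ℕ, M ^ (n + 2) = J := by
    intro n
    induction n with
    | zero => rw [pow_two, h2]
    | succ n ih => rw [pow_succ', ih, h3]
  have ht := ZMod.trace_pow_card M
  have htr : Matrix.trace M = 0 := by simp [Matrix.trace, Matrix.diag, hdiag]
  have hp2 : p = p - 2 + 2 := by have := (Fact.out : p.Prime).two_le; omega
  have htJ : Matrix.trace J = 1 := by
    simp [Matrix.trace, Matrix.diag, hJ, hcard]
  have e : M ^ p = J := by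
    have := hpow (p - 2)
    rwa [← hp2] at this
  rw [e, htJ, htr, zero_pow hp] at ht
  exact one_ne_zero ht

namespace Ctx

variable (hc : Ctx H d f) (hirr : Irr H) (hp2 : p ≠ 2)
include hc hirr hp2

/-- An involution moving less than `f` dimensions is trivial. -/
theorem small {h : V ≃ₗ[ZMod p] V} (hh : h ∈ H) (hh2 : h * h = 1)
    (hlt : finrank (ZMod p) (mv h) < f) : h = 1 := by
  obtain ⟨C, F, P, hπ, hFd⟩ := hc.exists_base
  obtain ⟨t₀, ht₀, ht₀'⟩ := hπ.nonempty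
  have key : ∀ k ∈ H, k * k = 1 → finrank (ZMod p) (mv k) < f → mv k ≤ fx t₀ := by
    intro k hk hk2 hkf
    have hcom : ∀ r, Ref H f r → k * r = r * k := by
      intro r hr
      by_contra hne
      have h1 := Submodule.finrank_mono (fx_inf_le_mul (g := k) (h := r))
      have h2 := Submodule.finrank_sup_add_finrank_inf_eq (fx k) (fx r)
      have h3 := Submodule.finrank_le (fx k ⊔ fx r)
      have h4 := finrank_fx_add_mv k
      have h5 := hr.finrank_fx
      have h6 := hc.le _ (H.mul_mem hk hr.1) fun e => hne (mul_sq_of_commute hk2 hr.2.1 e)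
      have h7 := hc.dim
      omega
    have hkC : ∀ c ∈ C, k * c = c * k := by
      intro c hc'
      have h1 := hcom t₀ (hπ.ref ht₀ ht₀')
      have ht : t₀ * c ∉ C := fun h => ht₀' (by simpa using C.mul_mem h (C.inv_mem hc'))
      have h2 := hcom (t₀ * c) (hπ.ref ((fixing H _).mul_mem ht₀ (hπ.le hc')) ht)
      rw [← mul_assoc, h1, mul_assoc, mul_assoc] at h2
      exact mul_left_cancel h2
    have hD : mv k ⊓ P = ⊥ := by
      by_contra hne
      obtain ⟨u, hu, hu0⟩ := Submodule.exists_mem_ne_zero_of_ne_bot hne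
      have h1 := lt_finrank_of_free (f := f) hπ.cardC (U := mv k ⊓ P)
        (fun c hc' z hz => ⟨apply_mem_mv_of_commute (hkC c hc') hz.1, hπ.apply_mem (hπ.le hc') hz.2⟩)
        hu hu0 fun c hc' e => hπ.free hc' hu.2 hu0 e
      have h2 := Submodule.finrank_mono (inf_le_left : mv k ⊓ P ≤ mv k)
      omega
    intro u hu
    have : t₀ u - u ∈ mv k ⊓ P :=
      ⟨(mv k).sub_mem (apply_mem_mv_of_commute (hcom t₀ (hπ.ref ht₀ ht₀')) hu) hu,
        hπ.mv_le t₀ ht₀ (sub_mem_mv u)⟩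
    rw [hD, Submodule.mem_bot, sub_eq_zero] at this
    exact mem_fx.2 this
  let W : Submodule (ZMod p) V := ⨅ g ∈ H, fx (g * t₀ * g⁻¹)
  have hle : mv h ≤ W := by
    refine le_iInf₂ fun g hg => ?_
    have h1 := key (g⁻¹ * h * g⁻¹⁻¹) (H.mul_mem (H.mul_mem (H.inv_mem hg) hh) (H.inv_mem (H.inv_mem hg)))
      (by rw [show g⁻¹ * h * g⁻¹⁻¹ * (g⁻¹ * h * g⁻¹⁻¹) = g⁻¹ * (h * h) * g by group, hh2]; group)
      (by rw [mv_conj]; exact lt_of_eq_of_lt (LinearEquiv.finrank_map_eq g⁻¹ (mv h)) hlt)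
    intro u hu
    rw [fx_conj]
    refine ⟨g⁻¹ u, h1 ?_, apply_inv_self u⟩
    rw [mv_conj]
    exact Submodule.mem_map_of_mem hu
  rcases hirr W (fun a ha u hu => by
    simp only [W, Submodule.mem_iInf] at hu ⊢
    intro g hg
    have h1 := hu (a⁻¹ * g) (H.mul_mem (H.inv_mem ha) hg)
    rw [mem_fx] at h1 ⊢
    have h2 := congrArg (fun z => a z) h1
    simpa [LinearEquiv.mul_apply, apply_inv_self, mul_inv_rev] using h2) with e | e
  · exact eq_one_of_mv (le_bot_iff.1 (e ▸ hle))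
  · exfalso
    refine hπ.refl_ne_one ht₀' (eq_one_of_fx (top_le_iff.1 (e ▸ ?_)))
    exact (iInf₂_le (1 : V ≃ₗ[ZMod p] V) H.one_mem).trans (by simp)

theorem disjoint {r s : V ≃ₗ[ZMod p] V} (hr : Ref H f r) (hs : Ref H f s) (hne : r ≠ s) :
    mv r ⊓ mv s = ⊥ := by
  by_contra hD
  obtain ⟨w, hw, hw0⟩ := Submodule.exists_mem_ne_zero_of_ne_bot hD
  obtain ⟨h, hh, h1, h2, h3⟩ := hc.bin.xy hr.1 hs.1
  have hw' : h w = -w := by
    rw [h3 w (by rw [apply_mv_neg hr.2.1 hw.1, apply_mv_neg hs.2.1 hw.2]), apply_mv_neg hr.2.1 hw.1]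
  have hd := hc.dim
  have hf := hc.fpos
  have e1 := hr.finrank_fx
  have e1' := hs.finrank_fx
  have e2 := Submodule.finrank_mono h1
  have hh2 : h * h = 1 := by
    by_contra hne
    have := hc.le h hh hne
    omega
  have e3 := finrank_fx_add_mv h
  have e4 : ¬ finrank (ZMod p) (mv h) < f := fun hlt => hw0 (eq_zero_of_neg hp2 (by
    conv_lhs => rw [show w = (1 : V ≃ₗ[ZMod p] V) w from rfl, ← hc.small hirr hp2 hh hh2 hlt, hw']))
  have e5 : fx r = fx h := Submodule.eq_of_le_of_finrank_le h1 (by omega)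
  have e6 : fx s = fx h := Submodule.eq_of_le_of_finrank_le h2 (by omega)
  have e7 : fx r = fx s := e5.trans e6.symm
  have hcm : r * s = s * r := by
    by_contra hne
    have := hc.le _ (H.mul_mem hr.1 hs.1) fun e => hne (mul_sq_of_commute hr.2.1 hs.2.1 e)
    have h9 := Submodule.finrank_mono (fx_inf_le_mul (g := r) (h := s))
    rw [← e7, inf_idem] at h9
    omega
  refine hne (eq_of_mv_eq hp2 hr.2.1 hs.2.1 hcm (Submodule.eq_of_le_of_finrank_le ?_ ?_))
  · intro z hz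
    obtain ⟨y, hy, z', hz', rfl⟩ := fx_sup_mv hp2 hs.2.1 z
    have hy' : y ∈ fx r := e7.symm ▸ hy
    have h10 : r z' ∈ mv s := apply_mem_mv_of_commute hcm.symm hz'
    have h11 := apply_mv_neg hr.2.1 hz
    rw [map_add, mem_fx.1 hy'] at h11
    have h12 : y + y = 0 := fx_inf_mv hp2 hs.2.1 ((fx s).add_mem hy hy) (by
      rw [show y + y = -(r z') - z' by linear_combination (norm := module) h11]
      exact (mv s).sub_mem ((mv s).neg_mem h10) hz')
    rw [eq_zero_of_double hp2 h12, zero_add]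
    exact hz'
  · rw [hr.2.2, hs.2.2]

theorem mv_le_fx {r s : V ≃ₗ[ZMod p] V} (hr : Ref H f r) (hs : Ref H f s) (hne : r ≠ s)
    (hcm : r * s = s * r) : mv r ≤ fx s := by
  intro u hu
  have h1 : s u - u ∈ mv r ⊓ mv s := ⟨(mv r).sub_mem (apply_mem_mv_of_commute hcm hu) hu, sub_mem_mv u⟩
  rw [hc.disjoint hirr hp2 hr hs hne, Submodule.mem_bot, sub_eq_zero] at h1
  exact mem_fx.2 h1

/-- A reflection out of a plane that commutes with two reflections of it commutes with all. -/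
theorem mv_le_of_two {C : Subgroup (V ≃ₗ[ZMod p] V)} {F P : Submodule (ZMod p) V}
    (hπ : Plane (fixing H (F : Set V)) C F P f) {r x y : V ≃ₗ[ZMod p] V} (hr : Ref H f r)
    (hrP : ¬ mv r ≤ P) (hx : x ∈ fixing H (F : Set V)) (hx' : x ∉ C) (hy : y ∈ fixing H (F : Set V))
    (hy' : y ∉ C) (hne : x ≠ y) (hxr : r * x = x * r) (hyr : r * y = y * r) :
    mv r ≤ F ∧ ∀ t ∈ fixing H (F : Set V), t ∉ C → r * t = t * r := by
  have hrx : r ≠ x := fun e => hrP (e ▸ hπ.mv_le x hx)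
  have hry : r ≠ y := fun e => hrP (e ▸ hπ.mv_le y hy)
  have h1 : mv r ≤ F := (le_inf (hc.mv_le_fx hirr hp2 hr (hπ.ref hx hx') hrx hxr)
    (hc.mv_le_fx hirr hp2 hr (hπ.ref hy hy') hry hyr)).trans (hπ.fx_inf_le hx hx' hy hy' hne)
  have h2 : P ≤ fx r := by
    rw [← hπ.sup_eq hx hx' hy hy' hne]
    exact sup_le (hc.mv_le_fx hirr hp2 (hπ.ref hx hx') hr hrx.symm hxr.symm)
      (hc.mv_le_fx hirr hp2 (hπ.ref hy hy') hr hry.symm hyr.symm)
  exact ⟨h1, fun t ht ht' => commute_of_mv_le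
    (h1.trans fun v hv => mem_fx.2 (hπ.fix t ht v hv)) ((hπ.mv_le t ht).trans h2)⟩

/-- Everything in the span of a plane and a reflection not commuting with it is moved by a reflection. -/
theorem span_cover {C : Subgroup (V ≃ₗ[ZMod p] V)} {F P : Submodule (ZMod p) V}
    (hπ : Plane (fixing H (F : Set V)) C F P f) {r x : V ≃ₗ[ZMod p] V} (hr : Ref H f r)
    (hrP : ¬ mv r ≤ P) (hx : x ∈ fixing H (F : Set V)) (hx' : x ∉ C) (hxr : r * x ≠ x * r) :
    finrank (ZMod p) (P ⊔ mv r : Submodule _ V) = 3 * f ∧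
      ∀ v ∈ P ⊔ mv r, v ≠ 0 → ∃ y, Ref H f y ∧ v ∈ mv y ∧ mv y ≤ P ⊔ mv r := by
  classical
  have hdis : ∀ t ∈ fixing H (F : Set V), t ∉ C → mv t ⊓ mv r = ⊥ := fun t ht ht' =>
    hc.disjoint hirr hp2 (hπ.ref ht ht') hr fun e => hrP (e ▸ hπ.mv_le t ht)
  have hrP0 : P ⊓ mv r = ⊥ := by
    rw [eq_bot_iff]
    intro u hu
    rw [Submodule.mem_bot]
    by_contra hu0
    obtain ⟨t, ht, ht', hut⟩ := hπ.cover hu.1 hu0
    exact hu0 ((Submodule.mem_bot (ZMod p)).1 (hdis t ht ht' ▸ Submodule.mem_inf.2 ⟨hut, hu.2⟩))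
  have hS : finrank (ZMod p) (P ⊔ mv r : Submodule _ V) = 3 * f := by
    have := Submodule.finrank_sup_add_finrank_inf_eq P (mv r)
    rw [hrP0, finrank_bot, hπ.dim, hr.2.2] at this
    omega
  refine ⟨hS, fun v hv hv0 => ?_⟩
  obtain ⟨a, ha, u, hu, rfl⟩ := Submodule.mem_sup.1 hv
  by_cases ha0 : a = 0
  · exact ⟨r, hr, by rw [ha0, zero_add]; exact hu, le_sup_right⟩
  obtain ⟨x₀, hx₀, hx₀', hax⟩ := hπ.cover ha ha0
  have hR₀ := hπ.ref hx₀ hx₀'
  have hP₀ : mv x₀ ≤ P ⊔ mv r := (hπ.mv_le x₀ hx₀).trans le_sup_left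
  by_cases hc0 : r * x₀ = x₀ * r
  swap
  · obtain ⟨y, hy, hvy, hle, -⟩ := hc.pair_cover hR₀ hr (Ne.symm hc0)
      (Submodule.add_mem_sup hax hu) hv0
    exact ⟨y, hy, hvy, hle.trans (sup_le hP₀ le_sup_right)⟩
  by_cases hu0 : u = 0
  · exact ⟨x₀, hR₀, by rw [hu0, add_zero]; exact hax, hP₀⟩
  have hxx₀ : x ≠ x₀ := fun e => hxr (e ▸ hc0)
  obtain ⟨c, hcx, hc0'⟩ := Submodule.exists_mem_ne_zero_of_ne_bot
    (fun e => hπ.refl_ne_one hx' (eq_one_of_mv e) : mv x ≠ ⊥)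
  have hcu : c + u ≠ 0 := fun e => hu0 ((Submodule.mem_bot (ZMod p)).1 (hdis x hx hx' ▸
    Submodule.mem_inf.2 ⟨by rw [eq_neg_of_add_eq_zero_right e]; exact (mv x).neg_mem hcx, hu⟩))
  obtain ⟨z, hz, hcz, hzle, -⟩ := hc.pair_cover (hπ.ref hx hx') hr (Ne.symm hxr)
    (Submodule.add_mem_sup hcx hu) hcu
  have hzS : mv z ≤ P ⊔ mv r := hzle.trans (sup_le ((hπ.mv_le x hx).trans le_sup_left) le_sup_right)
  have hac : a - c ≠ 0 := fun e => hc0' ((Submodule.mem_bot (ZMod p)).1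
    (hπ.disjoint hx hx' hx₀ hx₀' hxx₀ ▸ Submodule.mem_inf.2 ⟨hcx, sub_eq_zero.1 e ▸ hax⟩))
  have hacP : a - c ∈ P := P.sub_mem ha (hπ.mv_le x hx hcx)
  obtain ⟨y, hy, hy', hay⟩ := hπ.cover hacP hac
  have hRy := hπ.ref hy hy'
  have hyz : y ≠ z := by
    intro e
    refine hu0 ((Submodule.mem_bot (ZMod p)).1 (hrP0 ▸ Submodule.mem_inf.2 ⟨?_, hu⟩))
    have h1 := P.sub_mem (hπ.mv_le y hy (e ▸ hcz)) (hπ.mv_le x hx hcx)
    rwa [add_sub_cancel_left] at h1
  have hPy : mv y ≤ P ⊔ mv r := (hπ.mv_le y hy).trans le_sup_left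
  have hveq : a + u = (a - c) + (c + u) := by abel
  by_cases hcm : y * z = z * y
  swap
  · obtain ⟨w, hw, hvw, hle, -⟩ := hc.pair_cover hRy hz hcm
      (v := a + u) (hveq ▸ Submodule.add_mem_sup hay hcz) hv0
    exact ⟨w, hw, hvw, hle.trans (sup_le hPy hzS)⟩
  -- both pairs negate `v`; the element of `LBin.xy` is the reflection wanted
  have hx₀y : x₀ ≠ y := by
    intro e
    refine hc0' ((Submodule.mem_bot (ZMod p)).1 (hπ.disjoint hx hx' hx₀ hx₀' hxx₀ ▸
      Submodule.mem_inf.2 ⟨hcx, ?_⟩))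
    have h1 := (mv x₀).sub_mem hax (e ▸ hay)
    rwa [sub_sub_cancel] at h1
  have hrx₀ : r ≠ x₀ := fun e => hrP (e ▸ hπ.mv_le x₀ hx₀)
  obtain ⟨h, hh, h1, h2, h3⟩ := hc.bin.xy (x := x₀ * r) (y := y * z)
    (H.mul_mem hx₀.1 hr.1) (H.mul_mem hy.1 hz.1)
  have hneg : ∀ {s t : V ≃ₗ[ZMod p] V}, Ref H f s → Ref H f t → s ≠ t → s * t = t * s →
      ∀ w ∈ mv s ⊔ mv t, (s * t) w = -w := by
    intro s t hs ht hne hst w hw
    obtain ⟨w1, hw1, w2, hw2, rfl⟩ := Submodule.mem_sup.1 hw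
    rw [LinearEquiv.mul_apply, map_add, mem_fx.1 (hc.mv_le_fx hirr hp2 hs ht hne hst hw1),
      apply_mv_neg ht.2.1 hw2, map_add, apply_mv_neg hs.2.1 hw1, map_neg,
      mem_fx.1 (hc.mv_le_fx hirr hp2 ht hs hne.symm hst.symm hw2)]
    abel
  let D : Submodule (ZMod p) V := (mv x₀ ⊔ mv r) ⊓ (mv y ⊔ mv z)
  have hD : ∀ w ∈ D, h w = -w := by
    intro w hw
    have e1 := hneg hR₀ hr hrx₀.symm hc0.symm w hw.1
    rw [h3 w (by rw [e1, hneg hRy hz hyz hcm w hw.2]), e1]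
  have hvD : a + u ∈ D :=
    ⟨Submodule.add_mem_sup hax hu, hveq ▸ Submodule.add_mem_sup hay hcz⟩
  have hd := hc.dim
  have hf := hc.fpos
  -- the common fixed space is small
  let K := Subgroup.closure ({x₀, y, r} : Set (V ≃ₗ[ZMod p] V))
  have hKH : K ≤ H := (Subgroup.closure_le H).2 (by
    rintro w (rfl | rfl | rfl)
    exacts [hx₀.1, hy.1, hr.1])
  have hK := isCompl_fixed_moved K fun h =>
    hc.bin.not_dvd_card hp2 (h.trans (Subgroup.card_dvd_of_le hKH))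
  have hFK : fx x₀ ⊓ fx y ⊓ fx r ≤ ⨅ g ∈ K, fx g := by
    refine le_iInf₂ fun g hg => ?_
    induction hg using Subgroup.closure_induction with
    | mem w hw =>
      rcases hw with rfl | rfl | rfl
      exacts [inf_le_left.trans inf_le_left, inf_le_left.trans inf_le_right, inf_le_right]
    | one => exact fun v _ => mem_fx.2 rfl
    | mul g g' _ _ i1 i2 => exact fun v hv => fx_inf_le_mul ⟨i1 hv, i2 hv⟩
    | inv g _ i1 => exact i1.trans fx_inv.ge
  have hmem : ∀ g, g ∈ ({x₀, y, r} : Set (V ≃ₗ[ZMod p] V)) → mv g ≤ ⨆ g ∈ K, mv g :=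
    fun g hg => le_iSup₂_of_le g (Subgroup.subset_closure hg) le_rfl
  have hSK : P ⊔ mv r ≤ ⨆ g ∈ K, mv g := by
    rw [← hπ.sup_eq hx₀ hx₀' hy hy' hx₀y]
    exact sup_le (sup_le (hmem _ (by simp)) (hmem _ (by simp))) (hmem _ (by simp))
  have hX : finrank (ZMod p) (fx x₀ ⊓ fx y ⊓ fx r : Submodule _ V) + 3 * f ≤ finrank (ZMod p) V := by
    have e1 := Submodule.finrank_mono hFK
    have e2 := Submodule.finrank_mono hSK
    have e3 := Submodule.finrank_add_eq_of_isCompl hK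
    omega
  have hfxh : finrank (ZMod p) V ≤ finrank (ZMod p) (fx h) + f := by
    have i1 := Submodule.finrank_sup_add_finrank_inf_eq (fx x₀) (fx r)
    have i2 := Submodule.finrank_le (fx x₀ ⊔ fx r)
    have i3 := Submodule.finrank_sup_add_finrank_inf_eq (fx y) (fx z)
    have i4 := Submodule.finrank_le (fx y ⊔ fx z)
    have i5 := Submodule.finrank_sup_add_finrank_inf_eq (fx x₀ ⊓ fx r) (fx y ⊓ fx z)
    have i6 := Submodule.finrank_mono
      (show fx x₀ ⊓ fx r ⊓ (fx y ⊓ fx z) ≤ fx x₀ ⊓ fx y ⊓ fx r from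
        fun v hv => ⟨⟨hv.1.1, hv.2.1⟩, hv.1.2⟩)
    have i7 := Submodule.finrank_mono
      (sup_le (fx_inf_le_mul.trans h1) (fx_inf_le_mul.trans h2) :
        fx x₀ ⊓ fx r ⊔ fx y ⊓ fx z ≤ fx h)
    have := hR₀.finrank_fx
    have := hr.finrank_fx
    have := hRy.finrank_fx
    have := hz.finrank_fx
    omega
  have hh2 : h * h = 1 := by
    by_contra hne
    have := hc.le h hh hne
    omega
  have hin : ∀ w ∈ D, w ∈ mv h := by
    intro w hw
    have h4 : h w - w ∈ mv h := sub_mem_mv w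
    rw [hD w hw, show -w - w = (-2 : ZMod p) • w by rw [neg_smul, two_smul]; abel] at h4
    have h5 := (mv h).smul_mem (-2 : ZMod p)⁻¹ h4
    rwa [smul_smul, inv_mul_cancel₀ (neg_ne_zero.2 (two_ne hp2)), one_smul] at h5
  have hmh : finrank (ZMod p) (mv h) = f := by
    have := finrank_fx_add_mv h
    rcases Nat.lt_or_ge (finrank (ZMod p) (mv h)) f with hlt | hge
    · exfalso
      have := hD _ hvD
      rw [hc.small hirr hp2 hh hh2 hlt, LinearEquiv.coe_one, id_eq] at this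
      exact hv0 (eq_zero_of_neg hp2 this)
    · omega
  refine ⟨h, ⟨hh, hh2, hmh⟩, hin _ hvD, ?_⟩
  have hDh : D = mv h := Submodule.eq_of_le_of_finrank_le hin (by
    have i1 := Submodule.finrank_sup_add_finrank_inf_eq (mv x₀ ⊔ mv r) (mv y ⊔ mv z)
    have i2 := Submodule.finrank_sup_add_finrank_inf_eq (mv x₀) (mv r)
    have i3 := Submodule.finrank_sup_add_finrank_inf_eq (mv y) (mv z)
    have i4 := Submodule.finrank_mono
      (sup_le (sup_le hP₀ le_sup_right) (sup_le hPy hzS) :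
        mv x₀ ⊔ mv r ⊔ (mv y ⊔ mv z) ≤ P ⊔ mv r)
    rw [hdis x₀ hx₀ hx₀', finrank_bot, hR₀.2.2, hr.2.2] at i2
    rw [hc.disjoint hirr hp2 hRy hz hyz, finrank_bot, hRy.2.2, hz.2.2] at i3
    rw [hmh]
    show f ≤ finrank (ZMod p) ((mv x₀ ⊔ mv r) ⊓ (mv y ⊔ mv z) : Submodule _ V)
    omega)
  rw [← hDh]
  exact inf_le_left.trans (sup_le hP₀ le_sup_right)

/-- A reflection out of a plane commutes with every reflection of it. -/
theorem commute_outside {C : Subgroup (V ≃ₗ[ZMod p] V)} {F P : Submodule (ZMod p) V}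
    (hπ : Plane (fixing H (F : Set V)) C F P f) {r x : V ≃ₗ[ZMod p] V} (hr : Ref H f r)
    (hrP : ¬ mv r ≤ P) (hx : x ∈ fixing H (F : Set V)) (hx' : x ∉ C) : r * x = x * r := by
  classical
  by_contra hxr
  obtain ⟨hS, hcov⟩ := hc.span_cover hirr hp2 hπ hr hrP hx hx' hxr
  haveI := finite_aut (p := p) (V := V)
  obtain ⟨S, hSdef⟩ : ∃ S, S = P ⊔ mv r := ⟨_, rfl⟩
  rw [← hSdef] at hS hcov
  let A := {y : V ≃ₗ[ZMod p] V // Ref H f y ∧ mv y ≤ S}
  letI : Fintype A := Fintype.ofFinite A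
  have hQ : 2 ≤ p ^ f := hπ.pow_pos'
  have hdisA : ∀ i j : A, i ≠ j → mv i.1 ⊓ mv j.1 = ⊥ := fun i j hij =>
    hc.disjoint hirr hp2 i.2.1 j.2.1 fun e => hij (Subtype.ext e)
  have hN := (partition_count (fun y : A => mv y.1) S (fun y => y.2.2) (fun y => y.2.1.2.2) hdisA).1
    fun v hv hv0 => by
      obtain ⟨y, hy, hvy, hyS⟩ := hcov v hv hv0
      exact ⟨⟨y, hy, hyS⟩, hvy⟩
  let ℓ : A → Submodule (ZMod p) V := fun i => fx i.1 ⊓ S
  let adj : A → A → Prop := fun i j => j ≠ i ∧ i.1 * j.1 = j.1 * i.1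
  have hadj : ∀ i j, adj i j → mv j.1 ≤ ℓ i := fun i j h =>
    le_inf (hc.mv_le_fx hirr hp2 j.2.1 i.2.1 (fun e => h.1 (Subtype.ext e)) h.2.symm) j.2.2
  have hℓ : ∀ i : A, finrank (ZMod p) (ℓ i) = 2 * f := by
    intro i
    have h1 : ℓ i ⊔ mv i.1 = S := by
      refine le_antisymm (sup_le inf_le_right i.2.2) fun v hv => ?_
      obtain ⟨y, hy, z, hz, rfl⟩ := fx_sup_mv hp2 i.2.1.2.1 v
      refine Submodule.add_mem_sup ⟨hy, ?_⟩ hz
      have := S.sub_mem hv (i.2.2 hz)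
      rwa [add_sub_cancel_right] at this
    have h2 : ℓ i ⊓ mv i.1 = ⊥ :=
      eq_bot_iff.2 fun v hv => (Submodule.mem_bot _).2 (fx_inf_mv hp2 i.2.1.2.1 hv.1.1 hv.2)
    have h3 := Submodule.finrank_sup_add_finrank_inf_eq (ℓ i) (mv i.1)
    rw [h1, h2, finrank_bot, hS, i.2.1.2.2] at h3
    omega
  have hlines : ∀ i : A, ∀ v ∈ ℓ i, v ≠ 0 → ∃ j, adj i j ∧ v ∈ mv j.1 := by
    intro i v hv hv0
    obtain ⟨y, hy, hvy, hyS⟩ := hcov v hv.2 hv0
    refine ⟨⟨y, hy, hyS⟩, ⟨fun e => ?_, ?_⟩, hvy⟩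
    · exact hv0 (fx_inf_mv hp2 i.2.1.2.1 hv.1 (congrArg Subtype.val e ▸ hvy))
    · exact (hc.pair_commute hy i.2.1 hvy hv0 (mem_fx.1 hv.1)).symm
  have hrowN : ∀ i : A, Nat.card {j // adj i j} = p ^ f + 1 := by
    intro i
    have h1 := (partition_count (fun j : {j // adj i j} => mv j.1.1) (ℓ i) (fun j => hadj i j.1 j.2)
      (fun j => j.1.2.1.2.2) (fun a b hab => hdisA a.1 b.1 fun e => hab (Subtype.ext e))).1
      fun v hv hv0 => by
        obtain ⟨j, hj, hvj⟩ := hlines i v hv hv0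
        exact ⟨⟨j, hj⟩, hvj⟩
    rw [hℓ i, pow_mul',
      show (p ^ f) ^ 2 - 1 = (p ^ f + 1) * (p ^ f - 1) by simpa using Nat.sq_sub_sq (p ^ f) 1] at h1
    exact Nat.eq_of_mul_eq_mul_right (by omega) h1
  have hpair : ∀ i k : A, i ≠ k → ∃! j, adj i j ∧ adj j k := by
    intro i k hik
    obtain ⟨v, hv, hv0⟩ : ∃ v ∈ ℓ i ⊓ ℓ k, v ≠ 0 := by
      refine Submodule.exists_mem_ne_zero_of_ne_bot fun e => ?_
      have h1 := Submodule.finrank_sup_add_finrank_inf_eq (ℓ i) (ℓ k)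
      have h2 := Submodule.finrank_mono (sup_le inf_le_right inf_le_right : ℓ i ⊔ ℓ k ≤ S)
      rw [e, finrank_bot, hℓ, hℓ] at h1
      have := hc.fpos
      omega
    obtain ⟨j, hj, hvj⟩ := hlines i v hv.1 hv0
    have hkj : k ≠ j := fun e => hv0 (fx_inf_mv hp2 k.2.1.2.1 hv.2.1 (e ▸ hvj))
    refine ⟨j, ⟨hj, hkj, hc.pair_commute j.2.1 k.2.1 hvj hv0 (mem_fx.1 hv.2.1)⟩, fun j' hj' => ?_⟩
    by_contra hne
    have hsum : finrank (ZMod p) (mv j'.1 ⊔ mv j.1 : Submodule _ V) = 2 * f := by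
      have h1 := Submodule.finrank_sup_add_finrank_inf_eq (mv j'.1) (mv j.1)
      rw [hdisA j' j hne, finrank_bot, j'.2.1.2.2, j.2.1.2.2] at h1
      omega
    have hsymm : ∀ a b, adj a b → adj b a := fun a b h => ⟨h.1.symm, h.2.symm⟩
    have e1 : mv j'.1 ⊔ mv j.1 = ℓ i := Submodule.eq_of_le_of_finrank_le
      (sup_le (hadj i j' hj'.1) (hadj i j hj)) (by rw [hℓ, hsum])
    have e2 : mv j'.1 ⊔ mv j.1 = ℓ k := Submodule.eq_of_le_of_finrank_le
      (sup_le (hadj k j' (hsymm _ _ hj'.2)) (hadj k j (hsymm _ _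
        ⟨hkj, hc.pair_commute j.2.1 k.2.1 hvj hv0 (mem_fx.1 hv.2.1)⟩))) (by rw [hℓ, hsum])
    by_cases hcik : i.1 * k.1 = k.1 * i.1
    · obtain ⟨w, hw, hw0⟩ := Submodule.exists_mem_ne_zero_of_ne_bot (fun e =>
        hc.fpos.ne (by rw [← k.2.1.2.2, e, finrank_bot]) : mv k.1 ≠ ⊥)
      have : w ∈ ℓ k := e2 ▸ e1.symm ▸ hadj i k ⟨hik.symm, hcik⟩ hw
      exact hw0 (fx_inf_mv hp2 k.2.1.2.1 this.1 hw)
    · obtain ⟨C', P', hπ', -, -, -, -, hP'⟩ := hc.pair i.2.1 k.2.1 hcik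
      have hℓF : ℓ i ≤ fx i.1 ⊓ fx k.1 := le_inf inf_le_left (e1 ▸ e2.trans_le inf_le_left)
      have h0 : ℓ i ⊓ P' = ⊥ := le_bot_iff.1
        ((inf_le_inf_right P' hℓF).trans (inf_comm P' _ ▸ hπ'.compl.inf_eq_bot.le))
      have h1 := Submodule.finrank_sup_add_finrank_inf_eq (ℓ i) P'
      have h2 := Submodule.finrank_mono
        (sup_le inf_le_right (hP' ▸ sup_le i.2.2 k.2.2) : ℓ i ⊔ P' ≤ S)
      rw [h0, finrank_bot, hℓ, hπ'.dim] at h1
      have := hc.fpos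
      omega
  have hQp : ((p ^ f : ℕ) : ZMod p) = 0 := by
    rw [ZMod.natCast_eq_zero_iff]
    exact dvd_pow_self p hc.fpos.ne'
  refine no_polarity (A := A) (Fact.out : p.Prime).ne_zero (fun i j => if adj i j then 1 else 0)
    ?_ ?_ ?_ ?_
  · have h1 : Nat.card A = p ^ f * p ^ f + p ^ f + 1 := by
      rw [hS, mul_comm 3 f, pow_mul] at hN
      obtain ⟨q, hq⟩ : ∃ q, p ^ f = q + 1 := ⟨p ^ f - 1, by omega⟩
      rw [hq] at hN ⊢
      simp only [Nat.add_sub_cancel] at hN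
      have : (q + 1) ^ 3 - 1 = ((q + 1) * (q + 1) + (q + 1) + 1) * q := by
        have : (q + 1) ^ 3 = ((q + 1) * (q + 1) + (q + 1) + 1) * q + 1 := by ring
        omega
      rw [this] at hN
      exact Nat.eq_of_mul_eq_mul_right (by omega) hN
    rw [← Nat.card_eq_fintype_card, h1]
    push_cast [hQp]
    simp
  · intro i
    exact if_neg fun h => h.1 rfl
  · intro i k
    have : ∀ j, ((if adj i j then (1 : ZMod p) else 0) * if adj j k then 1 else 0) =
        if adj i j ∧ adj j k then 1 else 0 := fun j => by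
      by_cases h1 : adj i j <;> by_cases h2 : adj j k <;> simp [h1, h2]
    rw [Finset.sum_congr rfl fun j _ => this j, Finset.sum_boole]
    by_cases hik : i = k
    · subst hik
      have h1 : (Finset.univ.filter fun j => adj i j ∧ adj j i) = Finset.univ.filter (adj i) := by
        refine Finset.filter_congr fun j _ => ⟨fun h => h.1, fun h => ⟨h, h.1.symm, h.2.symm⟩⟩
      rw [h1, ← Fintype.card_subtype, ← Nat.card_eq_fintype_card, hrowN, Nat.cast_add, hQp]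
      simp
    · obtain ⟨j, hj, huniq⟩ := hpair i k hik
      rw [show (Finset.univ.filter fun j => adj i j ∧ adj j k) = {j} from
        Finset.eq_singleton_iff_unique_mem.2 ⟨by simp [hj], fun a ha => huniq a (Finset.mem_filter.1 ha).2⟩]
      simp
  · intro i
    rw [Finset.sum_boole, ← Fintype.card_subtype, ← Nat.card_eq_fintype_card, hrowN, Nat.cast_add, hQp]
    simp

end Ctx

end CfsgLib.Perm.BinAff
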