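import Cfsg.Agent.Lib.Perm.BinaryAffine.Two

/-!
# Planes

A plane is the structure of the anisotropic orthogonal group of dimension two over the field with
`p ^ f` elements, acting on a complement `P` of a space `F` of fixed vectors: a fixed point free
abelian normal subgroup `C` of order `p ^ f + 1` and as many reflections outside it.
-/

set_option autoImplicit false
set_option linter.all false

namespace CfsgLib.Perm.BinAff

open Module

variable {p : ℕ} {V : Type*} [AddCommGroup V] [Module (ZMod p) V]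

/-- The group `L` fixes `F`, and on the complement `P` it is an anisotropic orthogonal plane group. -/
structure Plane (L C : Subgroup (V ≃ₗ[ZMod p] V)) (F P : Submodule (ZMod p) V) (f : ℕ) : Prop where
  fpos : 0 < f
  compl : IsCompl P F
  dim : finrank (ZMod p) P = 2 * f
  fix : ∀ g ∈ L, ∀ v ∈ F, g v = v
  mv_le : ∀ g ∈ L, mv g ≤ P
  le : C ≤ L
  comm : ∀ a ∈ C, ∀ b ∈ C, a * b = b * a
  cardC : Nat.card C = p ^ f + 1
  fpf : ∀ c ∈ C, c ≠ 1 → fx c = F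
  sq : ∀ t ∈ L, t ∉ C → t * t = 1
  inv : ∀ t ∈ L, t ∉ C → ∀ c ∈ C, t * c * t = c⁻¹
  rank : ∀ t ∈ L, t ∉ C → finrank (ZMod p) (mv t) = f
  mul_mem : ∀ s ∈ L, ∀ t ∈ L, s ∉ C → t ∉ C → s * t ∈ C
  nonempty : ∃ t ∈ L, t ∉ C

variable [Fact p.Prime] [Finite V]

theorem card_submodule (W : Submodule (ZMod p) V) : Nat.card W = p ^ finrank (ZMod p) W := by
  rw [Module.natCard_eq_pow_finrank (K := ZMod p), Nat.card_zmod]

theorem card_nonzero (W : Submodule (ZMod p) V) :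
    Nat.card {v : V // v ∈ W ∧ v ≠ 0} = p ^ finrank (ZMod p) W - 1 := by
  rw [← card_submodule]
  change Nat.card ↥((W : Set V) \ {0}) = Nat.card ↥(W : Set V) - 1
  rw [Nat.card_coe_set_eq, Nat.card_coe_set_eq, Set.ncard_sdiff_singleton_of_mem W.zero_mem]

/-- Disjoint subspaces of dimension `f` in `P`: they cover `P` exactly when the count fits. -/
theorem partition_count {ι : Type*} [Finite ι] (W : ι → Submodule (ZMod p) V)
    (P : Submodule (ZMod p) V) {f : ℕ} (hle : ∀ i, W i ≤ P) (hdim : ∀ i, finrank (ZMod p) (W i) = f)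
    (hdis : ∀ i j, i ≠ j → W i ⊓ W j = ⊥) :
    (∀ v ∈ P, v ≠ 0 → ∃ i, v ∈ W i) ↔ Nat.card ι * (p ^ f - 1) = p ^ finrank (ZMod p) P - 1 := by
  classical
  let Φ : (Σ i, {v : V // v ∈ W i ∧ v ≠ 0}) → {v : V // v ∈ P ∧ v ≠ 0} :=
    fun a => ⟨a.2.1, hle _ a.2.2.1, a.2.2.2⟩
  have hinj : Function.Injective Φ := by
    rintro ⟨i, v, hv, hv0⟩ ⟨j, w, hw, hw0⟩ e
    obtain rfl : v = w := congrArg Subtype.val e
    obtain rfl : i = j := by
      by_contra hij
      exact hv0 ((Submodule.mem_bot _).1 (hdis i j hij ▸ Submodule.mem_inf.2 ⟨hv, hw⟩))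
    rfl
  have hcard : Nat.card (Σ i, {v : V // v ∈ W i ∧ v ≠ 0}) = Nat.card ι * (p ^ f - 1) := by
    haveI := Fintype.ofFinite ι
    rw [Nat.card_sigma, Nat.card_eq_fintype_card,
      Finset.sum_congr rfl (fun i _ => show Nat.card {v : V // v ∈ W i ∧ v ≠ 0} = p ^ f - 1 by
        rw [card_nonzero, hdim]), Finset.sum_const, Finset.card_univ, smul_eq_mul]
  rw [← hcard, ← card_nonzero P]
  constructor
  · intro hc
    refine Nat.card_congr (Equiv.ofBijective Φ ⟨hinj, fun a => ?_⟩)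
    obtain ⟨i, hi⟩ := hc a.1 a.2.1 a.2.2
    exact ⟨⟨i, a.1, hi, a.2.2⟩, rfl⟩
  · intro e v hv hv0
    obtain ⟨a, ha⟩ := (hinj.bijective_of_nat_card_le e.ge).2 ⟨v, hv, hv0⟩
    refine ⟨a.1, ?_⟩
    have hva : a.2.1 = v := congrArg Subtype.val ha
    exact hva ▸ a.2.2.1

theorem fx_eq_sup {P F : Submodule (ZMod p) V} (hPF : IsCompl P F) {g : V ≃ₗ[ZMod p] V}
    (hg : F ≤ fx g) :
    fx g = fx g ⊓ P ⊔ F ∧ finrank (ZMod p) (fx g) = finrank (ZMod p) (fx g ⊓ P : Submodule _ V)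
      + finrank (ZMod p) F := by
  have h1 : fx g ⊓ P ⊔ F = fx g := by
    rw [inf_sup_assoc_of_le P hg, hPF.sup_eq_top, inf_top_eq]
  refine ⟨h1.symm, ?_⟩
  have h2 := Submodule.finrank_sup_add_finrank_inf_eq (fx g ⊓ P) F
  rwa [h1, inf_assoc, hPF.inf_eq_bot, inf_bot_eq, finrank_bot, add_zero] at h2

theorem mv_le_of_compl {P F : Submodule (ZMod p) V} (hPF : IsCompl P F) {g : V ≃ₗ[ZMod p] V}
    (hF : ∀ v ∈ F, g v = v) (hP : ∀ v ∈ P, g v ∈ P) : mv g ≤ P := by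
  intro y hy
  obtain ⟨v, rfl⟩ := mem_mv.1 hy
  obtain ⟨a, ha, b, hb, rfl⟩ := Submodule.mem_sup.1 (hPF.sup_eq_top.ge (Submodule.mem_top (x := v)))
  rw [map_add, hF b hb, add_sub_add_right_eq_sub]
  exact P.sub_mem (hP a ha) ha

theorem apply_mem_of_mv_le {P : Submodule (ZMod p) V} {g : V ≃ₗ[ZMod p] V} (h : mv g ≤ P) {v : V}
    (hv : v ∈ P) : g v ∈ P := by
  rw [show g v = (g v - v) + v by abel]
  exact P.add_mem (h (sub_mem_mv v)) hv

theorem eq_one_of_compl {P F : Submodule (ZMod p) V} (hPF : IsCompl P F) {g : V ≃ₗ[ZMod p] V}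
    (hP : P ≤ fx g) (hF : F ≤ fx g) : g = 1 :=
  eq_one_of_fx (top_le_iff.1 (hPF.sup_eq_top ▸ sup_le hP hF))

theorem pow_sub {g : V ≃ₗ[ZMod p] V} {w : V} (hd : g (g w - w) = g w - w) (k : ℕ) :
    (g ^ k) w = w + k • (g w - w) := by
  induction k with
  | zero => simp
  | succ k ih =>
    rw [pow_succ', LinearEquiv.mul_apply, ih, map_add, map_nsmul, hd, succ_nsmul]
    abel

namespace Plane

variable {L C : Subgroup (V ≃ₗ[ZMod p] V)} {F P : Submodule (ZMod p) V} {f : ℕ}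
  {s t : V ≃ₗ[ZMod p] V}

theorem pow_pos' (hπ : Plane L C F P f) : 2 ≤ p ^ f :=
  (Fact.out : p.Prime).two_le.trans (Nat.le_self_pow hπ.fpos.ne' p)

theorem not_mem_F (hπ : Plane L C F P f) {v : V} (hv : v ∈ P) (hv0 : v ≠ 0) : v ∉ F := fun h =>
  hv0 ((Submodule.mem_bot _).1 (hπ.compl.inf_eq_bot ▸ Submodule.mem_inf.2 ⟨hv, h⟩))

theorem disjoint (hπ : Plane L C F P f) (hs : s ∈ L) (hs' : s ∉ C) (ht : t ∈ L) (ht' : t ∉ C)
    (hne : s ≠ t) : mv s ⊓ mv t = ⊥ := by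
  rw [eq_bot_iff]
  intro u hu
  rw [Submodule.mem_inf] at hu
  rw [Submodule.mem_bot]
  by_contra hu0
  have hfix : u ∈ fx (t * s) := by
    rw [mem_fx, LinearEquiv.mul_apply, apply_mv_neg (hπ.sq s hs hs') hu.1, map_neg,
      apply_mv_neg (hπ.sq t ht ht') hu.2, neg_neg]
  by_cases h1 : t * s = 1
  · apply hne
    calc s = t * (t * s) := by rw [← mul_assoc, hπ.sq t ht ht', one_mul]
      _ = t := by rw [h1, mul_one]
  · rw [hπ.fpf _ (hπ.mul_mem t ht s hs ht' hs') h1] at hfix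
    exact hπ.not_mem_F (hπ.mv_le s hs hu.1) hu0 hfix

/-- Reflections as a type. -/
theorem card_refl (hπ : Plane L C F P f) :
    Nat.card {t // t ∈ L ∧ t ∉ C} = p ^ f + 1 := by
  obtain ⟨r, hr, hr'⟩ := hπ.nonempty
  rw [← hπ.cardC]
  refine Nat.card_congr
    { toFun := fun t => ⟨r * t.1, hπ.mul_mem r hr t.1 t.2.1 hr' t.2.2⟩
      invFun := fun c => ⟨r * c.1, L.mul_mem hr (hπ.le c.2), fun h => hr' ?_⟩
      left_inv := fun t => Subtype.ext (by
        show r * (r * t.1) = t.1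
        rw [← mul_assoc, hπ.sq r hr hr', one_mul])
      right_inv := fun c => Subtype.ext (by
        show r * (r * c.1) = c.1
        rw [← mul_assoc, hπ.sq r hr hr', one_mul]) }
  simpa using C.mul_mem h (C.inv_mem c.2)

theorem card_eq (hπ : Plane L C F P f) : Nat.card L = 2 * (p ^ f + 1) := by
  classical
  haveI := finite_aut (p := p) (V := V)
  have e : L ≃ {g // g ∈ C} ⊕ {g // g ∈ L ∧ g ∉ C} :=
    { toFun := fun g => if h : g.1 ∈ C then .inl ⟨g.1, h⟩ else .inr ⟨g.1, g.2, h⟩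
      invFun := Sum.elim (fun g => ⟨g.1, hπ.le g.2⟩) (fun g => ⟨g.1, g.2.1⟩)
      left_inv := fun g => by by_cases h : g.1 ∈ C <;> simp [h]
      right_inv := by rintro (⟨g, hg⟩ | ⟨g, hg⟩) <;> simp [hg] }
  rw [Nat.card_congr e, Nat.card_sum, hπ.card_refl]
  change Nat.card C + _ = _
  rw [hπ.cardC]
  ring

theorem cover (hπ : Plane L C F P f) {v : V} (hv : v ∈ P) (hv0 : v ≠ 0) :
    ∃ t ∈ L, t ∉ C ∧ v ∈ mv t := by
  haveI := finite_aut (p := p) (V := V)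
  have h := (partition_count (fun t : {t // t ∈ L ∧ t ∉ C} => mv t.1) P
    (fun t => hπ.mv_le t.1 t.2.1) (fun t => hπ.rank t.1 t.2.1 t.2.2)
    (fun i j hij => hπ.disjoint i.2.1 i.2.2 j.2.1 j.2.2 (fun e => hij (Subtype.ext e)))).2 (by
      rw [hπ.card_refl, hπ.dim, pow_mul',
        show (p ^ f) ^ 2 - 1 = (p ^ f + 1) * (p ^ f - 1) by simpa using Nat.sq_sub_sq (p ^ f) 1]) v hv hv0
  obtain ⟨t, ht⟩ := h
  exact ⟨t.1, t.2.1, t.2.2, ht⟩

/-- A reflection fixing a nonzero vector moved by another commutes with it. -/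
theorem commute_of_fixed (hπ : Plane L C F P f) (hs : s ∈ L) (hs' : s ∉ C) (ht : t ∈ L) (ht' : t ∉ C)
    {u : V} (hu : u ∈ mv s) (hu0 : u ≠ 0) (htu : t u = u) : s * t = t * s := by
  have e1 : s u = -u := apply_mv_neg (hπ.sq s hs hs') hu
  have hfix : u ∈ fx ((s * t) * (s * t)) := by
    rw [mem_fx]
    simp [LinearEquiv.mul_apply, htu, e1]
  have h1 : (s * t) * (s * t) = 1 := by
    by_contra hne
    rw [hπ.fpf _ (C.mul_mem (hπ.mul_mem s hs t ht hs' ht') (hπ.mul_mem s hs t ht hs' ht')) hne]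
      at hfix
    exact hπ.not_mem_F (hπ.mv_le s hs hu) hu0 hfix
  have e2 : (s * t)⁻¹ = s * t := inv_eq_of_mul_eq_one_right h1
  rw [mul_inv_rev, inv_eq_of_mul_eq_one_right (hπ.sq s hs hs'),
    inv_eq_of_mul_eq_one_right (hπ.sq t ht ht')] at e2
  exact e2.symm

theorem sup_eq (hπ : Plane L C F P f) (hs : s ∈ L) (hs' : s ∉ C) (ht : t ∈ L) (ht' : t ∉ C)
    (hne : s ≠ t) : mv s ⊔ mv t = P := by
  refine Submodule.eq_of_le_of_finrank_le (sup_le (hπ.mv_le s hs) (hπ.mv_le t ht)) ?_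
  have := Submodule.finrank_sup_add_finrank_inf_eq (mv s) (mv t)
  rw [hπ.disjoint hs hs' ht ht' hne, finrank_bot, hπ.rank s hs hs', hπ.rank t ht ht'] at this
  rw [hπ.dim]
  omega

theorem finrank_fx (hπ : Plane L C F P f) (ht : t ∈ L) (ht' : t ∉ C) :
    finrank (ZMod p) (fx t ⊓ P : Submodule _ V) = f := by
  have h1 := (fx_eq_sup hπ.compl fun v hv => mem_fx.2 (hπ.fix t ht v hv)).2
  have h2 := finrank_fx_add_mv t
  have h3 := Submodule.finrank_add_eq_of_isCompl hπ.compl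
  rw [hπ.rank t ht ht'] at h2
  rw [hπ.dim] at h3
  omega

end Plane

/-- The common end of both characteristics. -/
theorem plane_of_core {L C : Subgroup (V ≃ₗ[ZMod p] V)} {F P : Submodule (ZMod p) V}
    (hL : LBin L) (hPF : IsCompl P F) (hfix : ∀ g ∈ L, ∀ v ∈ F, g v = v)
    (hmv : ∀ g ∈ L, mv g ≤ P) (hle : C ≤ L) (hcomm : ∀ a ∈ C, ∀ b ∈ C, a * b = b * a)
    (hfpf : ∀ c ∈ C, c ≠ 1 → fx c = F) (hsq : ∀ t ∈ L, t ∉ C → t * t = 1)
    (hinv : ∀ t ∈ L, t ∉ C → ∀ c ∈ C, t * c * t = c⁻¹)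
    (hmul : ∀ s ∈ L, ∀ t ∈ L, s ∉ C → t ∉ C → s * t ∈ C) (hne : ∃ t ∈ L, t ∉ C)
    (hhalf : ∀ t ∈ L, t ∉ C →
      finrank (ZMod p) P ≤ 2 * finrank (ZMod p) (fx t ⊓ P : Submodule _ V))
    {x : V ≃ₗ[ZMod p] V} (hx : x ∈ C) (hx2 : x * x ≠ 1) :
    ∃ f, Plane L C F P f := by
  classical
  haveI := finite_aut (p := p) (V := V)
  let W : (V ≃ₗ[ZMod p] V) → Submodule (ZMod p) V := fun t => fx t ⊓ P
  have hnF : ∀ {v : V}, v ∈ P → v ∈ F → v = 0 := fun {v} h1 h2 =>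
    (Submodule.mem_bot _).1 (hPF.inf_eq_bot ▸ Submodule.mem_inf.2 ⟨h1, h2⟩)
  have hdis : ∀ s ∈ L, s ∉ C → ∀ t ∈ L, t ∉ C → s ≠ t → W s ⊓ W t = ⊥ := by
    intro s hs hs' t ht ht' hst
    rw [eq_bot_iff]
    intro u hu
    simp only [W, Submodule.mem_inf, mem_fx] at hu
    refine (Submodule.mem_bot _).2 (hnF hu.1.2 ?_)
    have h1 : s * t ≠ 1 := fun e => hst (by
      calc s = s * (t * t) := by rw [hsq t ht ht', mul_one]
        _ = t := by rw [← mul_assoc, e, one_mul])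
    rw [← hfpf _ (hmul s hs t ht hs' ht') h1, mem_fx, LinearEquiv.mul_apply, hu.2.1, hu.1.1]
  have hx1 : x ≠ 1 := fun e => hx2 (by rw [e, one_mul])
  have hw : ∀ t ∈ L, t ∉ C → 2 * finrank (ZMod p) (W t) = finrank (ZMod p) P := by
    intro t ht ht'
    have hs : t * x ∈ L := L.mul_mem ht (hle hx)
    have hs' : t * x ∉ C := fun h => ht' (by simpa using C.mul_mem h (C.inv_mem hx))
    have h1 := Submodule.finrank_sup_add_finrank_inf_eq (W t) (W (t * x))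
    have h2 : W t ⊔ W (t * x) ≤ P := sup_le inf_le_right inf_le_right
    have h3 := Submodule.finrank_mono h2
    rw [hdis t ht ht' _ hs hs' (by simpa using hx1), finrank_bot] at h1
    have h4 := hhalf t ht ht'
    have h5 := hhalf _ hs hs'
    simp only [W] at *
    omega
  obtain ⟨r, hr, hr'⟩ := hne
  obtain ⟨f, hf⟩ : ∃ f, f = finrank (ZMod p) (W r) := ⟨_, rfl⟩
  have hdim : finrank (ZMod p) P = 2 * f := by rw [hf, hw r hr hr']
  have hWf : ∀ t ∈ L, t ∉ C → finrank (ZMod p) (W t) = f := fun t ht ht' => by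
    have := hw t ht ht'; omega
  have hfpos : 0 < f := by
    rw [Nat.pos_iff_ne_zero]
    intro h0
    apply hx1
    have hP0 : P = ⊥ := Submodule.finrank_eq_zero.1 (by rw [hdim, h0])
    exact eq_one_of_mv (le_bot_iff.1 (hP0 ▸ hmv x (hle hx)))
  have hrank : ∀ t ∈ L, t ∉ C → finrank (ZMod p) (mv t) = f := by
    intro t ht ht'
    have h1 := (fx_eq_sup hPF fun v hv => mem_fx.2 (hfix t ht v hv)).2
    have h2 := finrank_fx_add_mv t
    have h3 := Submodule.finrank_add_eq_of_isCompl hPF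
    have h4 := hWf t ht ht'
    simp only [W] at h4
    omega
  have hcover : ∀ v ∈ P, v ≠ 0 → ∃ t : {t // t ∈ L ∧ t ∉ C}, v ∈ W t.1 := by
    intro v hv hv0
    obtain ⟨a, ha, hav, ha1⟩ : ∃ a ∈ L, a v = v ∧ a ≠ 1 := by
      by_contra hno
      push Not at hno
      exact hx2 (hL.sq_eq_one_of_regular hno (hle hx))
    refine ⟨⟨a, ha, fun hac => hv0 (hnF hv ?_)⟩, Submodule.mem_inf.2 ⟨mem_fx.2 hav, hv⟩⟩
    rw [← hfpf a hac ha1, mem_fx]
    exact hav
  have hcount := (partition_count (fun t : {t // t ∈ L ∧ t ∉ C} => W t.1) P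
    (fun t => inf_le_right) (fun t => hWf t.1 t.2.1 t.2.2)
    (fun i j hij => hdis _ i.2.1 i.2.2 _ j.2.1 j.2.2 fun e => hij (Subtype.ext e))).1 hcover
  have hQ : 2 ≤ p ^ f := (Fact.out : p.Prime).two_le.trans (Nat.le_self_pow hfpos.ne' p)
  have hR : Nat.card {t // t ∈ L ∧ t ∉ C} = p ^ f + 1 := by
    have h2 : (p ^ f) ^ 2 - 1 = (p ^ f + 1) * (p ^ f - 1) := by
      have := Nat.sq_sub_sq (p ^ f) 1; simpa using this
    rw [hdim, pow_mul', h2] at hcount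
    exact Nat.eq_of_mul_eq_mul_right (by omega) hcount
  refine ⟨f, ⟨hfpos, hPF, hdim, hfix, hmv, hle, hcomm, ?_, hfpf, hsq, hinv, hrank, hmul, r, hr, hr'⟩⟩
  rw [← hR]
  refine Nat.card_congr
    { toFun := fun c => ⟨r * c.1, L.mul_mem hr (hle c.2), fun h => hr' ?_⟩
      invFun := fun t => ⟨r * t.1, hmul r hr t.1 t.2.1 hr' t.2.2⟩
      left_inv := fun t => Subtype.ext (by
        show r * (r * t.1) = t.1
        rw [← mul_assoc, hsq r hr hr', one_mul])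
      right_inv := fun c => Subtype.ext (by
        show r * (r * c.1) = c.1
        rw [← mul_assoc, hsq r hr hr', one_mul]) }
  simpa using C.mul_mem h (C.inv_mem c.2)

end CfsgLib.Perm.BinAff
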