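import Cfsg.Agent.Lib.Perm.BinaryAffine.Main
import Cfsg.Agent.Lib.Perm.BinaryAffine.Model
import Cfsg.Agent.Lib.Core.MinNormal

/-!
# Binary primitive groups of affine type
-/

set_option autoImplicit false
set_option linter.all false

namespace CfsgLib.Perm.BinAff

open MulAction

/-- The classification from the linearised data: `T` gives the translations. -/
theorem binary_affine_core {G Ω V : Type*} [Group G] [Finite G] [MulAction G Ω] [FaithfulSMul G Ω]
    [Fintype Ω] [AddCommGroup V] [Finite V] [Nontrivial V] [IsPretransitive G Ω]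
    (hbin : ∀ (n : ℕ) (I J : Fin n → Ω), 2 ≤ n →
      (∀ i j : Fin n, i ≠ j → ∃ g : G, g • I i = J i ∧ g • I j = J j) → ∃ g : G, ∀ i, g • I i = J i)
    {p : ℕ} [hpf : Fact p.Prime] (hexp : ∀ v : V, p • v = 0) {α : Ω} (E₀ : V ≃ Ω) (hE0 : E₀ 0 = α)
    (T : V → G) (htr : ∀ b v, T b • E₀ v = E₀ (b + v))
    (act : stabilizer G α → V ≃+ V) (hact : ∀ (h : stabilizer G α) (v : V), (h : G) • E₀ v = E₀ (act h v))
    (hmin : ∀ U : AddSubgroup V, (∀ (h : stabilizer G α), ∀ u ∈ U, act h u ∈ U) → U = ⊥ ∨ U = ⊤) :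
    ((Fintype.card Ω).Prime ∧ ∀ ω : Ω, Nat.card ↥(MulAction.stabilizer G ω) ≤ 2) ∨
    (∃ (F E : Type) (_ : Field F) (_ : Fintype F) (_ : Field E) (_ : Fintype E) (_ : Algebra F E) (e : Ω ≃ E),
        Module.finrank F E = 2 ∧
        ∀ σ : Equiv.Perm Ω, σ ∈ (MulAction.toPermHom G Ω).range ↔
          ∃ (a b : E) (φ : E ≃ₐ[F] E), Algebra.norm F a = 1 ∧ ∀ ω : Ω, e (σ ω) = a * φ (e ω) + b) := by
  classical
  obtain ⟨instM⟩ : Nonempty (Module (ZMod p) V) := ⟨AddCommGroup.zmodModule hexp⟩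
  have hp : p.Prime := hpf.out
  let H₀ := stabilizer G α
  let lin : H₀ →* (V ≃ₗ[ZMod p] V) :=
    { toFun := fun h => (act h).toLinearEquiv (fun c x => ZMod.map_smul (act h).toAddMonoidHom c x)
      map_one' := LinearEquiv.ext fun v => E₀.injective (by
        show E₀ (act 1 v) = E₀ v
        rw [← hact, Subgroup.coe_one, one_smul])
      map_mul' := fun g h => LinearEquiv.ext fun v => E₀.injective (by
        show E₀ (act (g * h) v) = E₀ (act g (act h v))
        rw [← hact, ← hact, ← hact, Subgroup.coe_mul, mul_smul]) }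
  have hH₀ : ∀ (h : H₀) (v : V), (h : G) • E₀ v = E₀ (lin h v) := fun h v => hact h v
  have hdec : ∀ g : G, ∃ (b : V) (h : H₀), ∀ v, g • E₀ v = E₀ (b + lin h v) := by
    intro g
    obtain ⟨b, hb⟩ := E₀.surjective (g • α)
    have hbα : T b • α = g • α := by rw [← hb, ← hE0, htr, add_zero]
    refine ⟨b, ⟨(T b)⁻¹ * g, mem_stabilizer_iff.2 (by
      rw [mul_smul, ← hbα, inv_smul_smul])⟩, fun v => ?_⟩
    rw [← htr, ← hH₀, ← mul_smul, mul_inv_cancel_left]
  have hinj : Function.Injective lin := by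
    intro a b e
    refine Subtype.ext (FaithfulSMul.eq_of_smul_eq_smul (α := Ω) fun ω => ?_)
    obtain ⟨v, rfl⟩ := E₀.surjective ω
    rw [hH₀, hH₀, e]
  -- the linear group is binary
  have hL : LBin lin.range := by
    intro n v w h1 h2
    rcases Nat.eq_zero_or_pos n with rfl | hn
    · exact ⟨1, Subgroup.one_mem _, fun i => i.elim0⟩
    obtain ⟨g, hg⟩ := hbin (n + 1) (Fin.cons α fun i => E₀ (v i)) (Fin.cons α fun i => E₀ (w i))
      (by omega) (by
        intro i j hij
        cases i using Fin.cases with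
        | zero =>
          cases j using Fin.cases with
          | zero => exact absurd rfl hij
          | succ j =>
            obtain ⟨_, ⟨h, rfl⟩, he⟩ := h1 j
            exact ⟨h, by simpa using mem_stabilizer_iff.1 h.2, by simp [hH₀, he]⟩
        | succ i =>
          cases j using Fin.cases with
          | zero =>
            obtain ⟨_, ⟨h, rfl⟩, he⟩ := h1 i
            exact ⟨h, by simp [hH₀, he], by simpa using mem_stabilizer_iff.1 h.2⟩
          | succ j =>
            obtain ⟨_, ⟨h, rfl⟩, he⟩ := h2 i j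
            refine ⟨T (w i - lin h (v i)) * h, ?_, ?_⟩
            · simp only [Fin.cons_succ]
              rw [mul_smul, hH₀, htr, sub_add_cancel]
            · simp only [Fin.cons_succ]
              rw [mul_smul, hH₀, htr]
              congr 1
              rw [map_sub] at he
              linear_combination (norm := module) -he)
    have hgα : g ∈ H₀ := mem_stabilizer_iff.2 (by simpa using hg 0)
    refine ⟨lin ⟨g, hgα⟩, ⟨_, rfl⟩, fun i => E₀.injective ?_⟩
    rw [← hH₀ ⟨g, hgα⟩]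
    simpa using hg i.succ
  have hirr : Irr lin.range := fun U hU => by
    rcases hmin U.toAddSubgroup (fun h u hu => hU _ ⟨h, rfl⟩ u hu) with e | e
    · exact Or.inl (Submodule.toAddSubgroup_injective e)
    · exact Or.inr (Submodule.toAddSubgroup_injective e)
  rcases classify hL hirr with ⟨hd, hc⟩ | ⟨C, f, hπ⟩
  · left
    refine ⟨?_, fun ω => ?_⟩
    · rw [← Nat.card_eq_fintype_card, ← Nat.card_congr E₀,
        Module.natCard_eq_pow_finrank (K := ZMod p), hd, pow_one, Nat.card_zmod]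
      exact hp
    · obtain ⟨g, hg⟩ := exists_smul_eq G α ω
      rw [← Nat.card_congr (MulAction.stabilizerEquivStabilizer hg.symm).toEquiv]
      rw [Nat.card_congr (MonoidHom.ofInjective hinj).toEquiv]
      exact hc
  · right
    obtain ⟨F, hF, hFf, hA, hr, hnorm, ⟨φ₁, hφ₁⟩, hφ⟩ := exists_subfield p f hπ.fpos
    obtain ⟨e, he⟩ := exists_model hπ
    refine ⟨F, GaloisField p (2 * f), hF, hFf, inferInstance, Fintype.ofFinite _, hA,
      E₀.symm.trans e.toEquiv, hr, fun σ => ⟨?_, ?_⟩⟩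
    · rintro ⟨g, rfl⟩
      obtain ⟨b, h, hb⟩ := hdec g
      obtain ⟨x, hx, hh⟩ := (he (fun v => lin h v)).1 ⟨lin h, ⟨h, rfl⟩, fun v => rfl⟩
      have key : ∀ ω, (E₀.symm.trans e.toEquiv) (MulAction.toPermHom G Ω g ω) =
          e (lin h (E₀.symm ω)) + e b := by
        intro ω
        obtain ⟨v, rfl⟩ := E₀.surjective ω
        simp [hb, add_comm]
      rcases hh with hh | hh
      · exact ⟨x, e b, AlgEquiv.refl, (hnorm x).2 hx, fun ω => by rw [key, hh]; simp⟩
      · exact ⟨x, e b, φ₁, (hnorm x).2 hx, fun ω => by rw [key, hh]; simp [hφ₁]⟩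
    · rintro ⟨a, b, φ, ha, hσ⟩
      have hcase : (∀ v, e (e.symm (a * φ (e v))) = a * e v) ∨
          ∀ v, e (e.symm (a * φ (e v))) = a * e v ^ (p ^ f) := by
        rcases hφ φ with h | h
        · exact Or.inl fun v => by rw [e.apply_symm_apply, h]
        · exact Or.inr fun v => by rw [e.apply_symm_apply, h]
      obtain ⟨_, ⟨h, rfl⟩, hh⟩ := (he (fun v => e.symm (a * φ (e v)))).2 ⟨a, (hnorm a).1 ha, hcase⟩
      refine ⟨T (e.symm b) * h, Equiv.ext fun ω => ?_⟩
      obtain ⟨v, rfl⟩ := E₀.surjective ω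
      refine (E₀.symm.trans e.toEquiv).injective ?_
      rw [hσ]
      simp [mul_smul, hH₀, htr, hh, add_comm]


theorem binary_affine {G Ω : Type*} [Group G] [Finite G] [MulAction G Ω] [FaithfulSMul G Ω] [Fintype Ω]
    (hprim : MulAction.IsPreprimitive G Ω)
    (haff : ∃ N : Subgroup G, N.Normal ∧ N ≠ ⊥ ∧ IsMulCommutative ↥N)
    (hbin : ∀ (n : ℕ) (I J : Fin n → Ω), 2 ≤ n →
      (∀ i j : Fin n, i ≠ j → ∃ g : G, g • I i = J i ∧ g • I j = J j) → ∃ g : G, ∀ i, g • I i = J i) :
    ((Fintype.card Ω).Prime ∧ ∀ ω : Ω, Nat.card ↥(MulAction.stabilizer G ω) ≤ 2) ∨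
    (∃ (F E : Type) (_ : Field F) (_ : Fintype F) (_ : Field E) (_ : Fintype E) (_ : Algebra F E) (e : Ω ≃ E),
        Module.finrank F E = 2 ∧
        ∀ σ : Equiv.Perm Ω, σ ∈ (MulAction.toPermHom G Ω).range ↔
          ∃ (a b : E) (φ : E ≃ₐ[F] E), Algebra.norm F a = 1 ∧ ∀ ω : Ω, e (σ ω) = a * φ (e ω) + b) := by
  classical
  haveI := hprim
  obtain ⟨N₀, hN₀n, hN₀b, hN₀c⟩ := haff
  haveI := hN₀n
  obtain ⟨N, hNn, hNb, hNle, hmin⟩ := CfsgLib.Core.exists_minimal_normal_le' N₀ hN₀b
  haveI := hNn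
  have hcomm : ∀ a b : N, (a : G) * b = b * a := fun a b =>
    congrArg Subtype.val (hN₀c.is_comm.comm ⟨a, hNle a.2⟩ ⟨b, hNle b.2⟩)
  have hNc : IsMulCommutative N := ⟨⟨fun a b => Subtype.ext (hcomm a b)⟩⟩
  obtain ⟨p, hp, hexp⟩ := CfsgLib.Core.exists_prime_pow_eq_one_of_minimal_normal N hNc hNb hmin
  haveI := Fact.mk hp
  have hfix : fixedPoints N Ω ≠ .univ := by
    intro h
    refine hNb ((Subgroup.eq_bot_iff_forall _).2 fun n hn => FaithfulSMul.eq_of_smul_eq_smul (α := Ω)
      fun ω => ?_)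
    rw [one_smul]
    exact (Set.eq_univ_iff_forall.1 h ω) ⟨n, hn⟩
  haveI : IsPretransitive N Ω := IsQuasiPreprimitive.isPretransitive_of_normal hfix
  obtain ⟨α⟩ : Nonempty Ω := by
    by_contra h
    rw [not_nonempty_iff] at h
    exact hfix (Set.eq_univ_iff_forall.2 fun ω => h.elim ω)
  have hreg : ∀ n ∈ N, n • α = α → n = 1 := by
    intro n hn e
    refine FaithfulSMul.eq_of_smul_eq_smul (α := Ω) fun ω => ?_
    obtain ⟨m, rfl⟩ := exists_smul_eq N α ω
    rw [one_smul, Subgroup.smul_def, smul_smul, hcomm ⟨n, hn⟩ m, mul_smul, e]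
  have hbij : Function.Bijective (fun n : N => (n : G) • α) := by
    refine ⟨fun a b e => ?_, fun ω => exists_smul_eq N α ω⟩
    simp only at e
    have := hreg _ (mul_mem (inv_mem b.2) a.2) (by rw [mul_smul, e, inv_smul_smul])
    exact (Subtype.ext (inv_mul_eq_one.1 this)).symm
  letI : CommGroup N := { (inferInstance : Group N) with mul_comm := hNc.is_comm.comm }
  haveI : Finite (Additive N) := inferInstanceAs (Finite N)
  haveI : Nontrivial (Additive N) := by
    haveI : Nontrivial N := (Subgroup.nontrivial_iff_ne_bot N).2 hNb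
    exact inferInstanceAs (Nontrivial N)
  let E₀ : Additive N ≃ Ω := Additive.toMul.trans (Equiv.ofBijective _ hbij)
  let act : stabilizer G α → Additive N ≃+ Additive N := fun h =>
    MulEquiv.toAdditive (MulAut.conjNormal (H := N) (h : G))
  have hE : ∀ v, E₀ v = ((Additive.toMul v : N) : G) • α := fun v => rfl
  have hactv : ∀ (h : stabilizer G α) (v : Additive N),
      ((Additive.toMul (act h v) : N) : G) = (h : G) * (Additive.toMul v : N) * (h : G)⁻¹ :=
    fun h v => MulAut.conjNormal_apply (h : G) (Additive.toMul v)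
  refine binary_affine_core hbin (p := p) (V := Additive N) (fun v =>
      congrArg Additive.ofMul (Subtype.ext (by simpa using hexp _ (Additive.toMul v).2) :
        (Additive.toMul v) ^ p = 1))
    E₀ (α := α) (by rw [hE, toMul_zero, Subgroup.coe_one, one_smul])
    (fun b => ((Additive.toMul b : N) : G))
    (fun b v => by rw [hE, hE, toMul_add, Subgroup.coe_mul, mul_smul]) act
    (fun h v => by
      rw [hE, hE, hactv, mul_smul, mul_smul,
        inv_smul_eq_iff.2 (mem_stabilizer_iff.1 h.2).symm]) ?_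
  intro U hU
  let M : Subgroup G := (AddSubgroup.toSubgroup' U).map N.subtype
  have hM : ∀ m : G, m ∈ M ↔ ∃ u ∈ U, ((Additive.toMul u : N) : G) = m := by
    intro m
    constructor
    · rintro ⟨a, ha, rfl⟩
      exact ⟨Additive.ofMul a, ha, rfl⟩
    · rintro ⟨u, hu, rfl⟩
      exact ⟨Additive.toMul u, hu, rfl⟩
  have hMn : M.Normal := by
    refine ⟨fun m hm g => ?_⟩
    obtain ⟨u, hu, rfl⟩ := (hM m).1 hm
    obtain ⟨b, hb⟩ := E₀.surjective (g • α)
    rw [hE] at hb
    have hh : ((Additive.toMul b : N) : G)⁻¹ * g ∈ stabilizer G α :=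
      mem_stabilizer_iff.2 (by rw [mul_smul, ← hb, inv_smul_smul])
    refine (hM _).2 ⟨act ⟨_, hh⟩ u, hU _ u hu, ?_⟩
    rw [hactv]
    set n : N := Additive.toMul u
    set c : N := Additive.toMul b
    have e : (c : G) * ((c : G)⁻¹ * g * n * ((c : G)⁻¹ * g)⁻¹) * (c : G)⁻¹ = g * n * g⁻¹ := by group
    rw [← e]
    have hx : (c : G)⁻¹ * g * n * ((c : G)⁻¹ * g)⁻¹ ∈ N := hNn.conj_mem _ n.2 _
    rw [hcomm c ⟨_, hx⟩, mul_inv_cancel_right]
  rcases hmin M hMn (Subgroup.map_subtype_le _) with h | h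
  · refine Or.inl ((AddSubgroup.eq_bot_iff_forall U).2 fun u hu => ?_)
    have := (hM _).2 ⟨u, hu, rfl⟩
    rw [h, Subgroup.mem_bot] at this
    exact Additive.toMul.injective (Subtype.ext this)
  · refine Or.inr (eq_top_iff.2 fun u _ => ?_)
    obtain ⟨u', hu', e⟩ := (hM _).1 (h.symm ▸ (Additive.toMul u).2 :
      ((Additive.toMul u : N) : G) ∈ M)
    rwa [← Additive.toMul.injective (Subtype.ext e)]

end CfsgLib.Perm.BinAff
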