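import Cfsg.Agent.Lib.Perm.BinaryAffine.Plane

/-!
# Rigid binary groups in characteristic two are plane groups

`L` fixes `F` and every element of it that is not an involution has exactly `F` as fixed space.
-/

set_option autoImplicit false
set_option linter.all false

namespace CfsgLib.Perm.BinAff

open Module

variable {V : Type*} [AddCommGroup V] [Module (ZMod 2) V] [Finite V]

theorem eq_one_of_odd_sq {L : Subgroup (V ≃ₗ[ZMod 2] V)} {A : Subgroup L} (hodd : Odd (Nat.card A))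
    {a : L} (ha : a ∈ A) (h2 : a * a = 1) : a = 1 := by
  have h1 : orderOf a ∣ 2 := orderOf_dvd_of_pow_eq_one (by rw [sq, h2])
  have h3 : orderOf a ∣ Nat.card A := by
    have := orderOf_dvd_natCard (⟨a, ha⟩ : A)
    rwa [Subgroup.orderOf_mk] at this
  have h4 := Nat.dvd_gcd h1 h3
  rwa [Nat.coprime_two_left.2 hodd, Nat.dvd_one, orderOf_eq_one_iff] at h4

theorem plane_of_rigid_two {L : Subgroup (V ≃ₗ[ZMod 2] V)} {F : Submodule (ZMod 2) V}
    (hL : LBin L) (hfix : ∀ g ∈ L, ∀ v ∈ F, g v = v) (hrig : ∀ g ∈ L, g * g ≠ 1 → fx g = F)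
    {x : V ≃ₗ[ZMod 2] V} (hx : x ∈ L) (hx2 : x * x ≠ 1) :
    ∃ C P f, Plane L C F P f := by
  classical
  haveI := finite_aut (p := 2) (V := V)
  haveI : Fact (Nat.Prime 2) := ⟨Nat.prime_two⟩
  obtain ⟨A, hAn, hodd, hcom, hsqA⟩ := hL.exists_odd_normal
  haveI := hAn
  obtain ⟨a₀, ha₀⟩ : ∃ a : L, a = ⟨x, hx⟩ * ⟨x, hx⟩ := ⟨_, rfl⟩
  have ha₀A : a₀ ∈ A := ha₀ ▸ hsqA _
  have ha₀1 : a₀ ≠ 1 := fun e => hx2 (by simpa [ha₀] using congrArg Subtype.val e)
  have hns : ∀ a ∈ A, a ≠ 1 → fx a.1 = F := fun a ha h1 => hrig a.1 a.2 fun e =>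
    h1 (eq_one_of_odd_sq hodd ha (Subtype.ext e))
  -- the complement
  set P : Submodule (ZMod 2) V := mv a₀.1 with hP
  have hdisj : P ⊓ F = ⊥ := by
    rw [eq_bot_iff]
    intro v hv
    rw [Submodule.mem_inf] at hv
    obtain ⟨w, hw⟩ := mem_mv.1 hv.1
    have hd : a₀.1 (a₀.1 w - w) = a₀.1 w - w := by rw [hw]; exact hfix _ a₀.2 v hv.2
    have hoddord : Odd (orderOf a₀) := by
      have := orderOf_dvd_natCard (⟨a₀, ha₀A⟩ : A)
      rw [Subgroup.orderOf_mk] at this
      exact Odd.of_dvd_nat hodd this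
    obtain ⟨m, hm⟩ := hoddord
    have := pow_sub hd (orderOf a₀)
    rw [← Subgroup.coe_pow, pow_orderOf_eq_one, Subgroup.coe_one, LinearEquiv.coe_one, id_eq,
      left_eq_add, hm, succ_nsmul, mul_comm, mul_nsmul, two_nsmul, hw, ← smul_add, add_same,
      smul_zero, zero_add] at this
    rw [this]
    exact Submodule.zero_mem _
  have hfa₀ : fx a₀.1 = F := hns a₀ ha₀A ha₀1
  have hPF : IsCompl P F := by
    have h1 := finrank_fx_add_mv a₀.1
    rw [hfa₀] at h1
    refine ⟨disjoint_iff.2 hdisj, codisjoint_iff.2 (Submodule.eq_top_of_finrank_eq ?_)⟩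
    have h2 := Submodule.finrank_sup_add_finrank_inf_eq P F
    rw [hdisj, finrank_bot, add_zero] at h2
    rw [h2, hP, add_comm]
    exact h1
  have hnF : ∀ {v : V}, v ∈ P → v ∈ F → v = 0 := fun {v} h1 h2 =>
    (Submodule.mem_bot _).1 (hdisj ▸ Submodule.mem_inf.2 ⟨h1, h2⟩)
  -- an involution moves something outside `F`
  have hmvF : ∀ t : L, t * t = 1 → t ≠ 1 → ¬ mv t.1 ≤ F := by
    intro t ht2 ht1 hle
    have hconj : a₀.1 * t.1 = t.1 * a₀.1 := by
      obtain ⟨c, hc⟩ : ∃ c, c = t * a₀ * t⁻¹ * a₀⁻¹ := ⟨_, rfl⟩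
      have hcA : c ∈ A := hc ▸ hcom t a₀
      have hcongr : ∀ v, c.1 v - v ∈ F := by
        intro v
        have ht_inv : t⁻¹ = t := inv_eq_of_mul_eq_one_right ht2
        rw [hc, ht_inv]
        simp only [Subgroup.coe_mul, Subgroup.coe_inv, LinearEquiv.mul_apply]
        obtain ⟨u, hu⟩ : ∃ u, u = a₀.1 (t.1 (a₀.1⁻¹ v)) := ⟨_, rfl⟩
        have h1 : t.1 (a₀.1⁻¹ v) - a₀.1⁻¹ v ∈ F := hle (sub_mem_mv _)
        have h2 : t.1 u - u ∈ F := hle (sub_mem_mv _)
        have h3 : a₀.1 (t.1 (a₀.1⁻¹ v) - a₀.1⁻¹ v) = u - v := by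
          rw [map_sub, apply_inv_self, hu]
        rw [hfix _ a₀.2 _ h1] at h3
        rw [← hu, show t.1 u - v = (t.1 u - u) + (u - v) by abel]
        exact F.add_mem h2 (h3 ▸ h1)
      have hc2 : c * c = 1 := Subtype.ext (LinearEquiv.ext fun v => by
        have h1 := hfix _ c.2 _ (hcongr v)
        rw [map_sub] at h1
        show c.1 (c.1 v) = v
        have h2 := add_same (c.1 v - v)
        linear_combination (norm := module) h1 + h2)
      have := congrArg Subtype.val (eq_one_of_odd_sq hodd hcA hc2)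
      rw [hc, inv_eq_of_mul_eq_one_right ht2] at this
      simp only [Subgroup.coe_mul, Subgroup.coe_inv, Subgroup.coe_one] at this
      have h4 : t.1 * t.1 = 1 := congrArg Subtype.val ht2
      rw [mul_inv_eq_one] at this
      calc a₀.1 * t.1 = (t.1 * a₀.1 * t.1) * t.1 := by rw [this]
        _ = t.1 * a₀.1 := by rw [mul_assoc, h4, mul_one]
    refine ht1 (Subtype.ext (eq_one_of_compl hPF (fun v hv => mem_fx.2 (sub_eq_zero.1 ?_))
      (fun v hv => mem_fx.2 (hfix _ t.2 v hv))))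
    exact hnF (P.sub_mem (apply_mem_mv_of_commute hconj hv) hv) (hle (sub_mem_mv v))
  -- no nontrivial element of `A` commutes with an involution
  have hcent : ∀ t : L, t * t = 1 → t ≠ 1 → ∀ a ∈ A, a * t = t * a → a = 1 := by
    intro t ht2 ht1 a ha hat
    by_contra ha1
    obtain ⟨y, hy, hyF⟩ := SetLike.not_le_iff_exists.1 (hmvF t ht2 ht1)
    have := hL.apply_mv_eq a.2 t.2 (congrArg Subtype.val ht2) (congrArg Subtype.val hat) hy
    rw [← mem_fx, hns a ha ha1] at this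
    exact hyF this
  have hinvol : ∀ g : L, g ∉ A → g * g = 1 := by
    intro g hg
    by_contra hb
    obtain ⟨b, hbdef⟩ : ∃ b, b = g * g := ⟨_, rfl⟩
    have hbA : b ∈ A := hbdef ▸ hsqA g
    obtain ⟨k, hk⟩ : Odd (orderOf b) := by
      have := orderOf_dvd_natCard (⟨b, hbA⟩ : A)
      rw [Subgroup.orderOf_mk] at this
      exact Odd.of_dvd_nat hodd this
    have ht2 : g ^ orderOf b * g ^ orderOf b = 1 := by
      rw [← pow_add, ← two_mul, pow_mul, sq, ← hbdef, pow_orderOf_eq_one]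
    have hbk : g ^ orderOf b = g * b ^ k := by rw [hk, hbdef, ← sq, ← pow_mul, pow_succ']
    have ht1 : g ^ orderOf b ≠ 1 := fun e => hg (by
      rw [hbk] at e
      rw [eq_inv_of_mul_eq_one_left e]
      exact A.inv_mem (A.pow_mem hbA k))
    have := hcent _ ht2 ht1 b hbA (by
      rw [hbdef, ← sq, ← pow_add, ← pow_add, add_comm])
    exact hb (hbdef ▸ this)
  have hne1 : ∀ g : L, g ∉ A → g ≠ 1 := fun g hg e => hg (e ▸ A.one_mem)
  -- involutions invert `A`
  have hinv : ∀ t : L, t ∉ A → ∀ a ∈ A, t * a * t = a⁻¹ := by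
    intro t ht a ha
    have ht2 := hinvol t ht
    have htinv : t⁻¹ = t := inv_eq_of_mul_eq_one_right ht2
    let φ : A →* A := (MulAut.conjNormal (H := A) t).toMonoidHom
    have hφ : ∀ b : A, (φ b : L) = t * b * t := fun b => by
      show ((MulAut.conjNormal t b : A) : L) = _
      rw [MulAut.conjNormal_apply, htinv]
    have hfpf : MonoidHom.FixedPointFree φ := by
      intro b hb
      refine Subtype.ext (hcent t ht2 (hne1 t ht) b.1 b.2 ?_)
      have h := congrArg Subtype.val hb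
      rw [hφ] at h
      calc b.1 * t = (t * b.1 * t) * t := by rw [h]
        _ = t * b.1 := by rw [mul_assoc, ht2, mul_one]
    have hinvo : Function.Involutive φ := fun b => Subtype.ext (by
      rw [hφ, hφ, ← mul_assoc, ← mul_assoc, ht2, one_mul, mul_assoc, ht2, mul_one])
    have := congrArg Subtype.val (congrFun (hfpf.coe_eq_inv_of_involutive hinvo) ⟨a, ha⟩)
    simpa [hφ] using this
  have hex : ∃ t : L, t ∉ A := by
    by_contra hall
    push Not at hall
    have hod : ∀ g ∈ L, Odd (orderOf g) := by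
      intro g hg
      have := orderOf_dvd_natCard (⟨⟨g, hg⟩, hall _⟩ : A)
      rw [Subgroup.orderOf_mk, Subgroup.orderOf_mk] at this
      exact Odd.of_dvd_nat hodd this
    exact hx2 (by rw [hL.eq_one_of_odd hx hod, one_mul])
  obtain ⟨r, hr⟩ := hex
  have hAc : ∀ a ∈ A, ∀ b ∈ A, a * b = b * a := by
    intro a ha b hb
    have h1 := hinv r hr (a * b) (A.mul_mem ha hb)
    have h2 : r * (a * b) * r = (r * a * r) * (r * b * r) := by
      have := hinvol r hr
      calc r * (a * b) * r = r * a * 1 * (b * r) := by group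
        _ = (r * a * r) * (r * b * r) := by rw [← this]; group
    rw [h2, hinv r hr a ha, hinv r hr b hb, mul_inv_rev] at h1
    have h3 := congrArg (·⁻¹) h1
    simpa using h3.symm
  have hmul : ∀ s t : L, s ∉ A → t ∉ A → s * t ∈ A := by
    intro s t hs ht
    by_contra hg
    have h1 := hinv (s * t) hg a₀ ha₀A
    have h2 : (s * t) * a₀ * (s * t) = a₀ := by
      have e : s * t = t * s := by
        have := inv_eq_of_mul_eq_one_right (hinvol _ hg)
        rw [mul_inv_rev, inv_eq_of_mul_eq_one_right (hinvol s hs),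
          inv_eq_of_mul_eq_one_right (hinvol t ht)] at this
        exact this.symm
      calc (s * t) * a₀ * (s * t) = s * (t * a₀ * t) * s := by
            rw [show s * t * a₀ * (s * t) = s * t * a₀ * (t * s) by rw [e]]
            group
        _ = a₀ := by
            rw [hinv t ht a₀ ha₀A, hinv s hs _ (A.inv_mem ha₀A), inv_inv]
    rw [h2, eq_inv_iff_mul_eq_one] at h1
    exact ha₀1 (eq_one_of_odd_sq hodd ha₀A h1)
  have hinvP : ∀ g : L, ∀ v ∈ P, g.1 v ∈ P := by
    intro g v hv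
    by_cases hg : g ∈ A
    · exact apply_mem_mv_of_commute (congrArg Subtype.val (hAc _ ha₀A _ hg)) hv
    · have h1 := hinv g hg a₀ ha₀A
      have hgg : g⁻¹ = g := inv_eq_of_mul_eq_one_right (hinvol g hg)
      obtain ⟨w, rfl⟩ := mem_mv.1 hv
      -- the image moved by the inverse is the same
      have e : g.1 (a₀.1 w) = a₀.1⁻¹ (g.1 w) := by
        have : g * a₀ = a₀⁻¹ * g := by
          rw [← h1, mul_assoc, mul_assoc, hinvol g hg, mul_one]
        exact LinearEquiv.congr_fun (congrArg Subtype.val this) w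
      obtain ⟨u, hu⟩ : ∃ u, u = a₀.1⁻¹ (g.1 w) := ⟨_, rfl⟩
      rw [map_sub, e, ← hu, show g.1 w = a₀.1 u by rw [hu, apply_inv_self],
        show u - a₀.1 u = -(a₀.1 u - u) by abel]
      exact P.neg_mem (sub_mem_mv u)
  have hmv : ∀ g : L, mv g.1 ≤ P := fun g => mv_le_of_compl hPF (hfix _ g.2) (hinvP g)
  let C : Subgroup (V ≃ₗ[ZMod 2] V) := A.map L.subtype
  have hC : ∀ {g : V ≃ₗ[ZMod 2] V} (hg : g ∈ L), g ∈ C ↔ (⟨g, hg⟩ : L) ∈ A := by
    intro g hg
    constructor
    · rintro ⟨a, ha, rfl⟩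
      exact ha
    · exact fun h => ⟨_, h, rfl⟩
  have hCL : C ≤ L := Subgroup.map_subtype_le A
  obtain ⟨f, hf⟩ := plane_of_core (C := C) hL hPF hfix (fun g hg => hmv ⟨g, hg⟩) hCL
    (by
      rintro _ ⟨a, ha, rfl⟩ _ ⟨b, hb, rfl⟩
      exact congrArg Subtype.val (hAc a ha b hb))
    (by
      rintro _ ⟨a, ha, rfl⟩ h1
      exact hns a ha fun e => h1 (congrArg Subtype.val e))
    (fun t ht ht' => congrArg Subtype.val (hinvol ⟨t, ht⟩ fun h => ht' ((hC ht).2 h)))
    (fun t ht ht' c hc => congrArg Subtype.val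
      (hinv ⟨t, ht⟩ (fun h => ht' ((hC ht).2 h)) ⟨c, hCL hc⟩ ((hC (hCL hc)).1 hc)))
    (fun s hs t ht hs' ht' => (hC (L.mul_mem hs ht)).2
      (hmul ⟨s, hs⟩ ⟨t, ht⟩ (fun h => hs' ((hC hs).2 h)) (fun h => ht' ((hC ht).2 h))))
    ⟨r.1, r.2, fun h => hr ((hC r.2).1 h)⟩
    (fun t ht ht' => by
      have ht2 : t * t = 1 :=
        congrArg Subtype.val (hinvol ⟨t, ht⟩ fun h => ht' ((hC ht).2 h))
      have h0 : mv t ≤ fx t ⊓ P := le_inf
        (fun v hv => mem_fx.2 (by rw [apply_mv_neg ht2 hv, neg_same])) (hmv ⟨t, ht⟩)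
      have h1 := (fx_eq_sup hPF fun v hv => mem_fx.2 (hfix t ht v hv)).2
      have h2 := finrank_fx_add_mv t
      have h3 := Submodule.finrank_add_eq_of_isCompl hPF
      have h4 := Submodule.finrank_mono h0
      omega)
    (x := a₀.1) ⟨a₀, ha₀A, rfl⟩
    (fun e => ha₀1 (eq_one_of_odd_sq hodd ha₀A (Subtype.ext e)))
  exact ⟨C, P, f, hf⟩

end CfsgLib.Perm.BinAff
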