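import Cfsg.Agent.Lib.Perm.BinaryAffine.Basic

/-!
# Binary linear groups in characteristic two

The elements of 2-power order are involutions, a centralizer of an involution fixes the space moved
by it, and a Sylow 2-subgroup is its own centralizer and normalizer, so that there is a normal
complement of odd order.
-/

set_option autoImplicit false
set_option linter.all false

namespace CfsgLib.Perm.BinAff

variable {V : Type*} [AddCommGroup V] [Module (ZMod 2) V] {H : Subgroup (V ≃ₗ[ZMod 2] V)}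
  {g t : V ≃ₗ[ZMod 2] V}

theorem add_same (v : V) : v + v = 0 := by
  rw [← two_smul (ZMod 2) v, show (2 : ZMod 2) = 0 from by decide, zero_smul]

theorem neg_same (v : V) : -v = v := neg_eq_iff_add_eq_zero.2 (add_same v)

theorem sub_same (v w : V) : v - w = v + w := by rw [sub_eq_add_neg, neg_same]

theorem LBin.sq_of_four (hH : LBin H) (hg : g ∈ H) (h4 : g ^ 4 = 1) : g * g = 1 := by
  have hg4 : ∀ v, g (g (g (g v))) = v := by
    intro v
    have := LinearEquiv.congr_fun h4 v
    simpa [pow_succ, LinearEquiv.mul_apply] using this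
  by_contra hne
  obtain ⟨v, hv⟩ : ∃ v, g (g v) ≠ v := by
    by_contra hno
    push Not at hno
    exact hne (LinearEquiv.ext hno)
  obtain ⟨b, hb0, hb1⟩ : ∃ b, g (g b) - b ≠ 0 ∧ g (g (g b - b)) = g b - b := by
    by_cases hc : ∃ c, g (g (g c - c)) ≠ g c - c
    · obtain ⟨c, hc⟩ := hc
      refine ⟨g c - c, sub_ne_zero.2 hc, ?_⟩
      simp only [sub_same, map_add, hg4]
      have h1 := add_same (g c)
      have h2 := add_same (g (g c))
      have h3 := add_same (g (g (g c)))
      linear_combination (norm := module) h3 - h1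
    · push Not at hc
      exact ⟨v, sub_ne_zero.2 hv, hc v⟩
  refine hb0 (sub_eq_zero.2 ?_)
  have := hH.lstar (h := g * g) (H.mul_mem hg hg) hg (a := g b - b) (b := b)
    (by rw [LinearEquiv.mul_apply, hb1]) ?_
  · rwa [LinearEquiv.mul_apply] at this
  · rw [LinearEquiv.mul_apply]
    simp only [sub_same, map_add]
    have h1 := add_same (g b)
    have h2 := add_same b
    linear_combination (norm := module) (0 : ZMod 2) • h1 - h2

theorem LBin.sq_of_two_pow (hH : LBin H) (hg : g ∈ H) {k : ℕ} (hk : g ^ (2 ^ k) = 1) : g * g = 1 := by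
  induction k generalizing g with
  | zero =>
    rw [pow_zero, pow_one] at hk
    rw [hk, mul_one]
  | succ k ih =>
    refine hH.sq_of_four hg ?_
    have h2 : (g * g) ^ (2 ^ k) = 1 := by
      rw [← hk, ← sq, ← pow_mul, pow_succ', mul_comm]
    have := ih (H.mul_mem hg hg) h2
    rw [show g ^ 4 = g * g * (g * g) by simp [pow_succ, mul_assoc], this]

/-- The centralizer of an involution fixes the space moved by it. -/
theorem LBin.apply_mv_eq (hH : LBin H) (hg : g ∈ H) (ht : t ∈ H) (ht2 : t * t = 1)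
    (hc : g * t = t * g) {y : V} (hy : y ∈ mv t) : g y = y := by
  have hty : t y = y := by rw [apply_mv_neg ht2 hy, neg_same]
  obtain ⟨v, rfl⟩ := mem_mv.1 hy
  have hgt : g (t v) = t (g v) := by rw [← LinearEquiv.mul_apply, hc, LinearEquiv.mul_apply]
  have e : g (t v - v) = (t v - v) + (t (g v - v) - (g v - v)) := by
    rw [map_sub, map_sub, hgt]; abel
  have := hH.lstar (h := t) ht hg hty e
  rw [e, this, sub_self, add_zero]

variable [Finite V]

/-- Two vectors fixed by a Sylow 2-subgroup and exchanged by some element are equal. -/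
theorem sylow_pair (S : Sylow 2 H) {y z : V} (hy : ∀ s ∈ S, (s.1 : V ≃ₗ[ZMod 2] V) y = y)
    (hz : ∀ s ∈ S, (s.1 : V ≃ₗ[ZMod 2] V) z = z) {g : H} (h1 : g.1 y = z) (h2 : g.1 z = y) :
    y = z := by
  by_contra hne
  haveI := finite_aut (p := 2) (V := V)
  let M : Subgroup H :=
    { carrier := {a | a.1 y = y ∧ a.1 z = z}
      one_mem' := ⟨rfl, rfl⟩
      mul_mem' := fun {a b} ha hb => ⟨by
        rw [Subgroup.coe_mul, LinearEquiv.mul_apply, hb.1, ha.1], by
        rw [Subgroup.coe_mul, LinearEquiv.mul_apply, hb.2, ha.2]⟩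
      inv_mem' := fun {a} ha => ⟨by rw [Subgroup.coe_inv, inv_apply_eq, ha.1], by
        rw [Subgroup.coe_inv, inv_apply_eq, ha.2]⟩ }
  let K : Subgroup H :=
    { carrier := {a | (a.1 y = y ∧ a.1 z = z) ∨ (a.1 y = z ∧ a.1 z = y)}
      one_mem' := Or.inl ⟨rfl, rfl⟩
      mul_mem' := fun {a b} ha hb => by
        simp only [Set.mem_setOf_eq, Subgroup.coe_mul, LinearEquiv.mul_apply] at *
        rcases ha with ⟨a1, a2⟩ | ⟨a1, a2⟩ <;> rcases hb with ⟨b1, b2⟩ | ⟨b1, b2⟩ <;>
          simp [a1, a2, b1, b2]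
      inv_mem' := fun {a} ha => by
        simp only [Set.mem_setOf_eq, Subgroup.coe_inv, inv_apply_eq] at *
        rcases ha with ⟨a1, a2⟩ | ⟨a1, a2⟩ <;> simp [a1, a2] }
  have hMK : M ≤ K := fun a ha => Or.inl ha
  have hgK : g ∈ K := Or.inr ⟨h1, h2⟩
  have hidx : (M.subgroupOf K).index = 2 := by
    rw [Subgroup.index_eq_two_iff]
    refine ⟨⟨g, hgK⟩, fun b => ?_⟩
    simp only [Subgroup.mem_subgroupOf, Subgroup.coe_mul]
    show Xor ((b.1 * g).1 y = y ∧ (b.1 * g).1 z = z) (b.1.1 y = y ∧ b.1.1 z = z)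
    rw [Subgroup.coe_mul, LinearEquiv.mul_apply, LinearEquiv.mul_apply, h1, h2]
    rcases b.2 with ⟨b1, b2⟩ | ⟨b1, b2⟩
    · exact Or.inr ⟨⟨b1, b2⟩, fun e => hne (e.1.symm.trans b2)⟩
    · exact Or.inl ⟨⟨b2, b1⟩, fun e => hne (e.1.symm.trans b1)⟩
  have hcard : Nat.card M * 2 = Nat.card K := by
    rw [← Subgroup.card_mul_index (M.subgroupOf K), hidx,
      Nat.card_congr (Subgroup.subgroupOfEquivOfLe hMK).toEquiv]
  have hS : (S : Subgroup H) ≤ M := fun s hs => ⟨hy s hs, hz s hs⟩
  have hd : Nat.card (S : Subgroup H) * 2 ∣ Nat.card H :=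
    ((mul_dvd_mul_right (Subgroup.card_dvd_of_le hS) 2).trans hcard.dvd).trans
      (Subgroup.card_subgroup_dvd_card K)
  rw [← Subgroup.card_mul_index (S : Subgroup H)] at hd
  exact S.not_dvd_index (Nat.dvd_of_mul_dvd_mul_left Nat.card_pos hd)

/-- An element of odd order normalizing a Sylow 2-subgroup is trivial. -/
theorem LBin.eq_one_of_normalizes (hH : LBin H) (S : Sylow 2 H) {β : H}
    (hβ : ∀ s ∈ S, β⁻¹ * s * β ∈ S) (hβ' : ∀ s ∈ S, β * s * β⁻¹ ∈ S) (hodd : Odd (orderOf β)) :
    β = 1 := by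
  classical
  haveI := finite_aut (p := 2) (V := V)
  set b : V ≃ₗ[ZMod 2] V := β.1 with hb
  have hsq : ∀ s ∈ S, s * s = (1 : H) := by
    intro s hs
    obtain ⟨k, hk⟩ := S.isPGroup' ⟨s, hs⟩
    refine Subtype.ext (hH.sq_of_two_pow s.2 (k := k) ?_)
    simpa using congrArg (fun x : S => x.1.1) hk
  have hcomm : ∀ s ∈ S, ∀ u ∈ S, s * u = u * s := by
    intro s hs u hu
    have e1 : s⁻¹ = s := inv_eq_of_mul_eq_one_right (hsq s hs)
    have e2 : u⁻¹ = u := inv_eq_of_mul_eq_one_right (hsq u hu)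
    have e3 : (s * u)⁻¹ = s * u := inv_eq_of_mul_eq_one_right (hsq _ (mul_mem hs hu))
    rw [mul_inv_rev, e1, e2] at e3
    exact e3.symm
  have hconj : ∀ (s : H) (v : V), s.1 (b v) = b ((β⁻¹ * s * β).1 v) := by
    intro s v
    simp [hb, LinearEquiv.mul_apply, apply_inv_self]
  have hconj' : ∀ (s : H) (v : V), b (s.1 v) = (β * s * β⁻¹).1 (b v) := by
    intro s v
    simp [hb, LinearEquiv.mul_apply, inv_apply_self]
  have hW : ∀ y : V, (∀ s ∈ S, s.1 y = y) → b y = y := by
    intro y hy
    obtain ⟨g, hg, e1, e2⟩ := hH.swap β.2 y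
    exact (sylow_pair S hy (fun s hs => by rw [hconj, hy _ (hβ s hs)]) (g := ⟨g, hg⟩) e1 e2).symm
  let X : Submodule (ZMod 2) V :=
    ⨅ s : H, ⨅ (_ : s ∈ S), (fx b).comap (s.1 : V →ₗ[ZMod 2] V)
  have hX : ∀ v, v ∈ X ↔ ∀ s ∈ S, b (s.1 v) = s.1 v := by
    intro v
    simp [X, mem_fx]
  have hXfix : ∀ v ∈ X, b v = v := fun v hv => by simpa using (hX v).1 hv 1 (one_mem _)
  have hXinv : ∀ s ∈ S, ∀ v ∈ X, s.1 v ∈ X := by
    intro s hs v hv
    rw [hX]
    intro u hu
    have := (hX v).1 hv (u * s) (mul_mem hu hs)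
    rwa [Subgroup.coe_mul, LinearEquiv.mul_apply] at this
  let P : V → Prop := fun v => ∀ s ∈ S, s.1 v - v ∈ X
  have hPS : ∀ u ∈ S, ∀ v, P v → P (u.1 v) := by
    intro u hu v hv s hs
    have e : s.1 (u.1 v) - u.1 v = ((s * u).1 v - v) - (u.1 v - v) := by
      rw [Subgroup.coe_mul, LinearEquiv.mul_apply]; abel
    rw [e]
    exact X.sub_mem (hv _ (mul_mem hs hu)) (hv u hu)
  have hshift : ∀ s ∈ S, ∀ v, P v → s.1 (b v) - b v = (β⁻¹ * s * β).1 v - v := by
    intro s hs v hv
    rw [hconj, ← map_sub]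
    exact hXfix _ (hv _ (hβ s hs))
  have hPb : ∀ v, P v → P (b v) := fun v hv s hs => by rw [hshift s hs v hv]; exact hv _ (hβ s hs)
  have hPadd : ∀ v w, P v → P w → P (v + w) := fun v w hv hw s hs => by
    rw [map_add, show s.1 v + s.1 w - (v + w) = (s.1 v - v) + (s.1 w - w) by abel]
    exact X.add_mem (hv s hs) (hw s hs)
  -- elements fixing `X` act on `P` compatibly with `b`
  have hQ : ∀ q ∈ S, (∀ x ∈ X, q.1 x = x) → ∀ a, P a → q.1 (b a) - b a = q.1 a - a := by
    intro q hq hqX a ha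
    obtain ⟨s, hs⟩ : ∃ s, s = q.1 (a + b a) - (a + b a) := ⟨_, rfl⟩
    have hq' : ∀ x ∈ X, (β⁻¹ * q * β).1 x = x := by
      intro x hx
      simp only [Subgroup.coe_mul, Subgroup.coe_inv, LinearEquiv.mul_apply]
      rw [show β.1 x = x from hXfix x hx, hqX x hx, inv_apply_eq]
      exact hXfix x hx
    -- `s` is also of the form `r a - a` and `r' (b a) - b a`
    have hr : (q * (β⁻¹ * q * β)).1 a - a = s := by
      rw [hs, map_add, show q.1 a + q.1 (b a) - (a + b a) = (q.1 a - a) + (q.1 (b a) - b a) by abel,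
        hshift q hq a ha, Subgroup.coe_mul, LinearEquiv.mul_apply]
      have h1 := hqX _ (ha _ (hβ q hq))
      rw [map_sub] at h1
      linear_combination (norm := module) h1
    have hrS : q * (β⁻¹ * q * β) ∈ S := mul_mem hq (hβ q hq)
    have hrb : (β * (q * (β⁻¹ * q * β)) * β⁻¹).1 (b a) - b a = s := by
      rw [← hconj', ← map_sub, hr]
      exact hXfix _ (hr ▸ ha _ hrS)
    obtain ⟨k, hk, he⟩ := hH 3 ![a, b a, a + b a] ![a + s, b a + s, a + b a + s] (by
        intro i
        fin_cases i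
        · exact ⟨_, (q * (β⁻¹ * q * β)).2, eq_add_of_sub_eq' hr⟩
        · exact ⟨_, (β * (q * (β⁻¹ * q * β)) * β⁻¹).2, eq_add_of_sub_eq' hrb⟩
        · exact ⟨_, q.2, eq_add_of_sub_eq' hs.symm⟩) (by
        intro i j
        fin_cases i <;> fin_cases j <;> exact ⟨1, H.one_mem, by simp <;> abel⟩)
    have e0 : k a = a + s := by simpa using he 0
    have e1 : k (b a) = b a + s := by simpa using he 1
    have e2 : k a + k (b a) = a + b a + s := by simpa using he 2
    rw [e0, e1] at e2
    have hs0 : s = 0 := by linear_combination (norm := module) e2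
    rw [hs, map_add] at hs0
    have h1 := add_same (q.1 a - a)
    linear_combination (norm := module) hs0 - h1
  -- hence `b` centralizes `S` on `P`
  have hP : ∀ v, P v → b v = v := by
    intro v hv
    have hiter : ∀ k : ℕ, P ((b ^ k) v) := by
      intro k
      induction k with
      | zero => exact hv
      | succ k ih => rw [pow_succ', LinearEquiv.mul_apply]; exact hPb _ ih
    have hbm : b ^ orderOf β = 1 := by
      rw [hb, ← Subgroup.coe_pow, pow_orderOf_eq_one]; rfl
    obtain ⟨m, hm⟩ := hodd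
    have hfix : ∀ s ∈ S, s.1 (b v - v) = b v - v := by
      intro s hs
      set u : H := β⁻¹ * s * β * s⁻¹ with hu
      have huS : u ∈ S := mul_mem (hβ s hs) (inv_mem hs)
      have huX : ∀ x ∈ X, u.1 x = x := by
        intro x hx
        simp only [hu, Subgroup.coe_mul, Subgroup.coe_inv, LinearEquiv.mul_apply]
        rw [show β.1 (s.1⁻¹ x) = s.1⁻¹ x from hXfix _ (hXinv _ (inv_mem hs) x hx), apply_inv_self,
          inv_apply_eq]
        exact hXfix x hx
      have hstep : ∀ w, P w → s.1 (b w) - b w = (s.1 w - w) + (u.1 w - w) := by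
        intro w hw
        rw [hshift s hs w hw, show β⁻¹ * s * β = u * s by simp [hu], Subgroup.coe_mul,
          LinearEquiv.mul_apply]
        have h1 := huX _ (hw s hs)
        rw [map_sub] at h1
        linear_combination (norm := module) h1
      have hucon : ∀ k : ℕ, u.1 ((b ^ k) v) - (b ^ k) v = u.1 v - v := by
        intro k
        induction k with
        | zero => rfl
        | succ k ih => rw [pow_succ', LinearEquiv.mul_apply, hQ u huS huX _ (hiter k), ih]
      have hsum : ∀ k : ℕ, s.1 ((b ^ k) v) - (b ^ k) v = (s.1 v - v) + k • (u.1 v - v) := by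
        intro k
        induction k with
        | zero => simp
        | succ k ih =>
          rw [pow_succ', LinearEquiv.mul_apply, hstep _ (hiter k), ih, hucon k, succ_nsmul]
          abel
      have := hsum (orderOf β)
      rw [hbm, LinearEquiv.coe_one, id_eq, left_eq_add, hm, succ_nsmul, mul_comm, mul_nsmul,
        two_nsmul] at this
      rw [← smul_add, add_same, smul_zero, zero_add] at this
      have h1 := hstep v hv
      rw [this, add_zero] at h1
      rw [map_sub]
      linear_combination (norm := module) h1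
    have hd : b (b v - v) = b v - v := hW _ hfix
    have hlin : ∀ k : ℕ, (b ^ k) v = v + k • (b v - v) := by
      intro k
      induction k with
      | zero => simp
      | succ k ih =>
        rw [pow_succ', LinearEquiv.mul_apply, ih, map_add, map_nsmul, hd, succ_nsmul]
        abel
    have := hlin (orderOf β)
    rw [hbm, LinearEquiv.coe_one, id_eq, left_eq_add, hm, succ_nsmul, mul_comm, mul_nsmul,
      two_nsmul] at this
    rw [← smul_add, add_same, smul_zero, zero_add] at this
    exact sub_eq_zero.1 this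
  have hPX : ∀ v, P v → v ∈ X := fun v hv => (hX v).2 fun s hs => hP _ (hPS s hs v hv)
  have htop : ∀ v, v ∈ X := by
    by_contra hno
    push Not at hno
    obtain ⟨v₀, hv₀⟩ := hno
    have hfin : ∀ T : Finset H, (∀ s ∈ T, s ∈ S) → ∃ v, v ∉ X ∧ ∀ s ∈ T, s.1 v - v ∈ X := by
      intro T
      induction T using Finset.induction with
      | empty => exact fun _ => ⟨v₀, hv₀, by simp⟩
      | insert s T _ ih =>
        intro hTS
        have hs : s ∈ S := hTS s (Finset.mem_insert_self s T)
        obtain ⟨v, hv, hvT⟩ := ih fun u hu => hTS u (Finset.mem_insert_of_mem hu)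
        by_cases hc : s.1 v - v ∈ X
        · refine ⟨v, hv, fun u hu => ?_⟩
          rcases Finset.mem_insert.1 hu with rfl | hu
          · exact hc
          · exact hvT u hu
        · refine ⟨s.1 v - v, hc, fun u hu => ?_⟩
          rcases Finset.mem_insert.1 hu with rfl | hu
          · have e : u.1 (u.1 v) = v := by
              rw [← LinearEquiv.mul_apply, ← Subgroup.coe_mul, hsq u hs]; rfl
            rw [map_sub, e, sub_same, sub_same, sub_same,
              show v + u.1 v + (u.1 v + v) = (v + v) + (u.1 v + u.1 v) by abel, add_same, add_same,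
              add_zero]
            exact X.zero_mem
          · have e : u.1 (s.1 v) = s.1 (u.1 v) := by
              rw [← LinearEquiv.mul_apply, ← Subgroup.coe_mul,
                hcomm u (hTS u (Finset.mem_insert_of_mem hu)) s hs]; rfl
            rw [map_sub, e, show s.1 (u.1 v) - u.1 v - (s.1 v - v) =
              (s.1 (u.1 v - v)) - (u.1 v - v) by rw [map_sub]; abel]
            exact X.sub_mem (hXinv s hs _ (hvT u hu)) (hvT u hu)
    haveI := Fintype.ofFinite H
    obtain ⟨v, hv, hvS⟩ := hfin (Finset.univ.filter (· ∈ S)) (by simp)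
    exact hv (hPX v fun s hs => hvS s (by simp [hs]))
  exact Subtype.ext (LinearEquiv.ext fun v => hXfix v (htop v))

/-- A normal subgroup of odd order whose quotient is elementary abelian. -/
theorem LBin.exists_odd_normal (hH : LBin H) :
    ∃ A : Subgroup H, A.Normal ∧ Odd (Nat.card A) ∧ (∀ x y : H, x * y * x⁻¹ * y⁻¹ ∈ A) ∧
      ∀ x : H, x * x ∈ A := by
  classical
  haveI := finite_aut (p := 2) (V := V)
  haveI : Fact (Nat.Prime 2) := ⟨Nat.prime_two⟩
  obtain ⟨S⟩ := (inferInstance : Nonempty (Sylow 2 H))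
  have hmem : ∀ a ∈ Subgroup.normalizer (S : Set H), ∀ s ∈ S, a * s * a⁻¹ ∈ S :=
    fun a ha s hs => (Subgroup.mem_normalizer_iff.1 ha s).1 hs
  have hnorm : ∀ a ∈ Subgroup.normalizer (S : Set H), a * a = 1 := by
    intro a ha
    obtain ⟨k, m, hm, hkm⟩ := Nat.exists_eq_two_pow_mul_odd (orderOf_pos a).ne'
    have hb : a ^ (2 ^ k) ∈ Subgroup.normalizer (S : Set H) := Subgroup.pow_mem _ ha _
    have hord : orderOf (a ^ (2 ^ k)) = m := by
      rw [orderOf_pow, hkm, Nat.gcd_eq_right (dvd_mul_right _ _),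
        Nat.mul_div_cancel_left _ (pow_pos two_pos k)]
    have := hH.eq_one_of_normalizes S (fun s hs => by
        simpa using hmem _ (inv_mem hb) s hs) (hmem _ hb) (by rw [hord]; exact hm)
    refine Subtype.ext (hH.sq_of_two_pow a.2 (k := k) ?_)
    simpa using congrArg Subtype.val this
  have hsq : ∀ s ∈ S, s * s = (1 : H) := fun s hs => hnorm s (Subgroup.le_normalizer hs)
  have hP : Subgroup.normalizer (S : Set H) ≤ Subgroup.centralizer (S : Set H) := by
    intro a ha
    rw [Subgroup.mem_centralizer_iff]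
    intro s hs
    have hs' : s ∈ Subgroup.normalizer (S : Set H) := Subgroup.le_normalizer hs
    have e1 : a⁻¹ = a := inv_eq_of_mul_eq_one_right (hnorm a ha)
    have e2 : s⁻¹ = s := inv_eq_of_mul_eq_one_right (hnorm s hs')
    have e3 : (a * s)⁻¹ = a * s := inv_eq_of_mul_eq_one_right (hnorm _ (mul_mem ha hs'))
    rw [mul_inv_rev, e1, e2] at e3
    exact e3
  let π := MonoidHom.transferSylow S hP
  have hcS : ∀ u v : S, u * v = v * u := by
    intro u v
    exact Subtype.ext (Subgroup.mem_centralizer_iff.1 (hP (Subgroup.le_normalizer v.2)) u.1 u.2)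
  refine ⟨π.ker, π.normal_ker, ?_, fun x y => ?_, fun x => ?_⟩
  · exact Nat.odd_iff.2 (Nat.two_dvd_ne_zero.1 (MonoidHom.not_dvd_card_ker_transferSylow S hP))
  · rw [MonoidHom.mem_ker, map_mul, map_mul, map_mul, map_inv, map_inv, hcS (π x) (π y)]
    simp
  · rw [MonoidHom.mem_ker, map_mul]
    exact Subtype.ext (hsq _ (π x).2)

/-- Two commuting conjugate involutions are equal. -/
theorem LBin.eq_of_conj_commute (hH : LBin H) {a : V ≃ₗ[ZMod 2] V} (ha : a ∈ H) (ht : t ∈ H)
    (ht2 : t * t = 1) (hc : (a * t * a⁻¹) * t = t * (a * t * a⁻¹)) : a * t * a⁻¹ = t := by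
  haveI := finite_aut (p := 2) (V := V)
  obtain ⟨A, hAn, hodd, hcom, hsq⟩ := hH.exists_odd_normal
  let T : H := ⟨t, ht⟩
  let W : H := ⟨a, ha⟩ * T * (⟨a, ha⟩)⁻¹
  have hTT : T * T = 1 := Subtype.ext ht2
  have hWW : W * W = 1 := by
    show (⟨a, ha⟩ * T * _) * (⟨a, ha⟩ * T * _) = (1 : H)
    rw [show ∀ X : H, X * T * X⁻¹ * (X * T * X⁻¹) = X * (T * T) * X⁻¹ from fun X => by group, hTT]
    group
  have hWT : W * T = T * W := Subtype.ext hc
  have hTinv : T⁻¹ = T := inv_eq_of_mul_eq_one_right hTT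
  have hmem : W * T ∈ A := by
    have := hcom ⟨a, ha⟩ T
    rwa [hTinv] at this
  have hsq2 : (W * T) ^ 2 = 1 := by
    rw [sq, mul_assoc, ← mul_assoc T, ← hWT, mul_assoc W T T, hTT, mul_one, hWW]
  have h1 : orderOf (W * T) ∣ 2 := orderOf_dvd_of_pow_eq_one hsq2
  have h2 : orderOf (W * T) ∣ Nat.card A := by
    have := orderOf_dvd_natCard (⟨W * T, hmem⟩ : A)
    rwa [Subgroup.orderOf_mk] at this
  have h3 := Nat.dvd_gcd h1 h2
  rw [Nat.coprime_two_left.2 hodd, Nat.dvd_one, orderOf_eq_one_iff, mul_eq_one_iff_eq_inv,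
    hTinv] at h3
  exact congrArg Subtype.val h3

end CfsgLib.Perm.BinAff
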